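import Mathlib

/-!
A field with `p ^ f` elements has `f` automorphisms.
-/

namespace Cfsg.Agent.CG26

theorem card_fieldAut {F : Type*} [Field F] [Fintype F] (p f : ℕ) [Fact p.Prime]
    (hF : Fintype.card F = p ^ f) : Nat.card (F ≃+* F) = f := by
  have hp : p.Prime := Fact.out
  have hp' : CharP F p := by
    obtain ⟨r, hr⟩ := CharP.exists F
    obtain ⟨k, hk, hk'⟩ := FiniteField.card F r
    have h : r ^ (k : ℕ) = p ^ f := hk'.symm.trans hF
    have hdvd : r ∣ p ^ f := h ▸ dvd_pow_self r k.pos.ne'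
    rwa [← (Nat.prime_dvd_prime_iff_eq hk hp).1 (hk.dvd_of_dvd_pow hdvd)]
  letI : Algebra (ZMod p) F := ZMod.algebra F p
  let e : (F ≃+* F) ≃ (F ≃ₐ[ZMod p] F) :=
    { toFun := fun σ => AlgEquiv.ofRingEquiv (f := σ) (fun r =>
        RingHom.congr_fun (RingHom.ext_zmod ((σ : F →+* F).comp (algebraMap (ZMod p) F))
          (algebraMap (ZMod p) F)) r)
      invFun := fun σ => σ.toRingEquiv
      left_inv := fun σ => by ext x; rfl
      right_inv := fun σ => by ext x; rfl }
  rw [Nat.card_congr e, IsGalois.card_aut_eq_finrank]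
  have h := Module.card_eq_pow_finrank (K := ZMod p) (V := F)
  rw [hF, ZMod.card] at h
  exact (Nat.pow_right_injective hp.two_le h).symm

end Cfsg.Agent.CG26
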