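import Mathlib

/-!
The fundamental theorem of projective geometry over a finite field, in coordinates: a map on vectors
which respects lines through the origin and planes through the origin, injectively, is semilinear up
to scalars as soon as the dimension is at least three.
-/

set_option autoImplicit false

namespace Cfsg.Agent.CG26.ProjColl

open Matrix

variable {F : Type*} [Field F] {n : Type} [Fintype n] [DecidableEq n]

/-- A collineation, given on representatives. -/
structure IsColl (r : (n → F) → (n → F)) : Prop where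
  ne : ∀ v, v ≠ 0 → r v ≠ 0
  inj : ∀ u v, u ≠ 0 → v ≠ 0 → (∃ a : F, r u = a • r v) → ∃ a : F, u = a • v
  line : ∀ u v w, u ≠ 0 → v ≠ 0 → w ≠ 0 → (∃ a b : F, w = a • u + b • v) →
    ∃ a b : F, r w = a • r u + b • r v
  surj : ∀ y, y ≠ 0 → ∃ v, v ≠ 0 ∧ ∃ a : F, y = a • r v

/-- The standard basis vector. -/
abbrev bv (i : n) : n → F := Pi.single i 1

omit [Fintype n] in
theorem bv_ne (i : n) : (bv i : n → F) ≠ 0 := by simp [bv]

variable {r : (n → F) → (n → F)}

omit [Fintype n] [DecidableEq n] in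
theorem IsColl.smul (h : IsColl r) {v : n → F} (hv : v ≠ 0) {a : F} (ha : a ≠ 0) :
    ∃ b : F, b ≠ 0 ∧ r (a • v) = b • r v := by
  obtain ⟨c, d, hcd⟩ := h.line v v (a • v) hv hv (smul_ne_zero ha hv) ⟨a, 0, by simp⟩
  refine ⟨c + d, ?_, by rw [hcd, add_smul]⟩
  intro h0
  apply h.ne _ (smul_ne_zero ha hv)
  rw [hcd, ← add_smul, h0, zero_smul]

theorem IsColl.comp_gl (h : IsColl r) (g : GL n F) :
    IsColl fun v => (g : Matrix n n F) *ᵥ r v where
  ne v hv h0 := h.ne v hv (by
    have := congrArg (((g⁻¹ : GL n F) : Matrix n n F) *ᵥ ·) h0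
    simpa [Matrix.mulVec_mulVec, ← Units.val_mul] using this)
  inj u v hu hv := by
    rintro ⟨a, ha⟩
    refine h.inj u v hu hv ⟨a, ?_⟩
    have := congrArg (((g⁻¹ : GL n F) : Matrix n n F) *ᵥ ·) ha
    simpa [Matrix.mulVec_mulVec, ← Units.val_mul, Matrix.mulVec_smul] using this
  line u v w hu hv hw hl := by
    obtain ⟨a, b, hab⟩ := h.line u v w hu hv hw hl
    exact ⟨a, b, by simp only [hab, Matrix.mulVec_add, Matrix.mulVec_smul]⟩
  surj y hy := by
    have hy' : ((g⁻¹ : GL n F) : Matrix n n F) *ᵥ y ≠ 0 := fun h0 => hy (by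
      have := congrArg ((g : Matrix n n F) *ᵥ ·) h0
      simpa [Matrix.mulVec_mulVec, ← Units.val_mul] using this)
    obtain ⟨v, hv, a, ha⟩ := h.surj _ hy'
    refine ⟨v, hv, a, ?_⟩
    show y = a • ((g : Matrix n n F) *ᵥ r v)
    rw [← Matrix.mulVec_smul, ← ha, Matrix.mulVec_mulVec, ← Units.val_mul, mul_inv_cancel,
      Units.val_one, Matrix.one_mulVec]

/-- The image of a vector supported in `S` lies in the span of the images of the basis vectors. -/
theorem IsColl.exists_comb (h : IsColl r) : ∀ (S : Finset n) (v : n → F), v ≠ 0 →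
    (∀ i, i ∉ S → v i = 0) → ∃ c : n → F, (∀ i, i ∉ S → c i = 0) ∧ r v = ∑ i, c i • r (bv i) := by
  intro S
  induction S using Finset.induction_on with
  | empty => exact fun v hv h0 => absurd (funext fun i => h0 i (by simp)) hv
  | @insert j S hj ih =>
    intro v hv h0
    by_cases hv' : v - v j • bv j = 0
    · have hvj : v = v j • bv j := sub_eq_zero.1 hv'
      have hne : v j ≠ 0 := fun e => hv (by rw [hvj, e, zero_smul])
      obtain ⟨b, -, hb⟩ := h.smul (bv_ne j) hne
      refine ⟨Pi.single j b, fun i hi => Pi.single_eq_of_ne (by rintro rfl; simp at hi) _, ?_⟩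
      rw [Finset.sum_eq_single j (fun i _ hi => by simp [hi]) (fun hh => absurd (Finset.mem_univ j) hh)]
      rw [hvj, hb, Pi.single_eq_same]
    · obtain ⟨c, hc, hcs⟩ := ih _ hv' (fun i hi => by
        by_cases hij : i = j
        · subst hij; simp [bv]
        · have := h0 i (by simp [hij, hi])
          simp [bv, hij, this])
      obtain ⟨a, b, hab⟩ := h.line _ (bv j) v hv' (bv_ne j) hv ⟨1, v j, by module⟩
      refine ⟨a • c + Pi.single j b, fun i hi => ?_, ?_⟩
      · simp only [Finset.mem_insert, not_or] at hi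
        simp [hc i hi.2, hi.1]
      · rw [hab, hcs, Finset.smul_sum]
        simp only [Pi.add_apply, Pi.smul_apply, smul_eq_mul, add_smul, Finset.sum_add_distrib,
          mul_smul]
        congr 1
        rw [Finset.sum_eq_single j (fun i _ hi => by simp [hi]) (fun hh => absurd (Finset.mem_univ j) hh),
          Pi.single_eq_same]

/-- Images of the basis vectors form a basis; move them back to the standard basis. -/
theorem IsColl.exists_fix_basis (h : IsColl r) :
    ∃ g : GL n F, ∀ i, (g : Matrix n n F) *ᵥ r (bv i) = bv i := by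
  classical
  set M : Matrix n n F := Matrix.of fun i j => r (bv j) i with hM
  have hcol : ∀ j, M *ᵥ bv j = r (bv j) := fun j => by
    funext i; simp [bv, hM]
  have hmul : ∀ c : n → F, M *ᵥ c = ∑ j, c j • r (bv j) := fun c => by
    funext i
    simp [Matrix.mulVec, dotProduct, hM, mul_comm]
  have hsurj : Function.Surjective M.mulVec := by
    intro y
    by_cases hy : y = 0
    · exact ⟨0, by simp [hy]⟩
    obtain ⟨v, hv, a, rfl⟩ := h.surj y hy
    obtain ⟨c, -, hc⟩ := h.exists_comb Finset.univ v hv (by simp)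
    exact ⟨a • c, by rw [Matrix.mulVec_smul, hmul, hc]⟩
  have hu : IsUnit M := Matrix.mulVec_surjective_iff_isUnit.1 hsurj
  obtain ⟨u, hu⟩ := hu
  refine ⟨u⁻¹, fun i => ?_⟩
  rw [← hcol, ← hu, Matrix.mulVec_mulVec, ← Units.val_mul, inv_mul_cancel, Units.val_one,
    Matrix.one_mulVec]

/-- Coordinates not in the support of a vector stay zero. -/
theorem IsColl.supp (h : IsColl r) (hfix : ∀ i, ∃ a : F, r (bv i) = a • bv i) {v : n → F}
    (hv : v ≠ 0) {i : n} (hi : v i = 0) : r v i = 0 := by
  obtain ⟨c, hc, hcs⟩ := h.exists_comb (Finset.univ.erase i) v hv (fun j hj => by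
    simp at hj; rw [hj]; exact hi)
  rw [hcs, Finset.sum_apply, Finset.sum_eq_zero]
  intro j _
  obtain ⟨a, ha⟩ := hfix j
  by_cases hji : j = i
  · subst hji; simp [hc j (by simp)]
  · simp [ha, bv, Ne.symm hji]

section Normalised

variable [Finite F] (h : IsColl r) (hfix : ∀ i, ∃ a : F, r (bv i) = a • bv i) {o : n}
  (hdiag : ∀ i, i ≠ o → ∃ a : F, r (bv o + bv i) = a • (bv o + bv i))

/-- The coordinate function on the line through `bv o` and `bv i`. -/
def psi (r : (n → F) → (n → F)) (o i : n) (x : F) : F :=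
  r (bv o + x • bv i) i / r (bv o + x • bv i) o

omit [Finite F] [Fintype n] in
theorem line_ne {i : n} (hi : i ≠ o) (x : F) : (bv o + x • bv i : n → F) ≠ 0 := fun e => by
  have := congrFun e o
  simp [bv, Ne.symm hi] at this

omit [Finite F] in
include h hfix in
theorem line_o_ne {i : n} (hi : i ≠ o) (x : F) : r (bv o + x • bv i) o ≠ 0 := by
  intro h0
  have hne := line_ne (F := F) hi x
  have hr : r (bv o + x • bv i) = r (bv o + x • bv i) i • bv i := by
    funext j
    by_cases hj : j = i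
    · subst hj; simp [bv]
    · by_cases hjo : j = o
      · subst hjo; simp [bv, Ne.symm hi, h0]
      · rw [h.supp hfix hne (by simp [bv, hj, hjo])]
        simp [bv, hj]
  obtain ⟨a, ha⟩ := hfix i
  have ha0 : a ≠ 0 := fun e => h.ne _ (bv_ne i) (by rw [ha, e, zero_smul])
  obtain ⟨b, hb⟩ := h.inj _ _ hne (bv_ne i) ⟨r (bv o + x • bv i) i / a, by
    rw [ha, smul_smul, div_mul_cancel₀ _ ha0, ← hr]⟩
  have := congrFun hb o
  simp [bv, Ne.symm hi] at this

omit [Finite F] in
include h hfix in
/-- Affine vectors. -/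
theorem affine_formula {v : n → F} (hv : v o = 1) :
    r v o ≠ 0 ∧ ∀ j, j ≠ o → r v j = r v o * psi r o j (v j) := by
  have hv0 : v ≠ 0 := fun e => by simp [e] at hv
  have key : ∀ j, j ≠ o → r v j = r v o * psi r o j (v j) := by
    intro j hj
    have hL := line_ne (F := F) hj (v j)
    have hC := line_o_ne h hfix hj (v j)
    set u := v - (bv o + v j • bv j) with hu
    by_cases hu0 : u = 0
    · have : v = bv o + v j • bv j := sub_eq_zero.1 hu0
      rw [psi, ← this]
      rw [← this] at hC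
      field_simp
    · obtain ⟨a, b, hab⟩ := h.line _ u v hL hu0 hv0 ⟨1, 1, by simp [hu]⟩
      have h1 : r u o = 0 := h.supp hfix hu0 (by simp [hu, bv, hv, Ne.symm hj])
      have h2 : r u j = 0 := h.supp hfix hu0 (by simp [hu, bv, hj])
      simp only [hab, Pi.add_apply, Pi.smul_apply, smul_eq_mul, h1, h2, mul_zero, add_zero, psi]
      field_simp
  refine ⟨fun h0 => h.ne v hv0 (funext fun j => ?_), key⟩
  by_cases hj : j = o
  · subst hj; exact h0
  · rw [key j hj, h0, zero_mul]; rfl

omit [Finite F] in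
include h hfix in
/-- Vectors at infinity. -/
theorem infinite_formula {v : n → F} (hv : v o = 0) (hv0 : v ≠ 0) :
    ∃ K : F, K ≠ 0 ∧ ∀ j, j ≠ o → r v j = K * psi r o j (v j) := by
  have hw : (bv o + v : n → F) o = 1 := by simp [bv, hv]
  have hw0 : (bv o + v : n → F) ≠ 0 := fun e => by rw [e] at hw; simp at hw
  obtain ⟨hC, hform⟩ := affine_formula h hfix hw
  obtain ⟨a, b, hab⟩ := h.line (bv o) (bv o + v) v (bv_ne o) hw0 hv0 ⟨-1, 1, by simp⟩
  obtain ⟨c, hc⟩ := hfix o
  have key : ∀ j, j ≠ o → r v j = b * r (bv o + v) o * psi r o j (v j) := by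
    intro j hj
    have e : (bv o + v : n → F) j = v j := by simp [bv, hj]
    rw [hab, Pi.add_apply, Pi.smul_apply, Pi.smul_apply, smul_eq_mul, smul_eq_mul, hform j hj, e,
      hc, Pi.smul_apply]
    simp [bv, hj, mul_assoc]
  refine ⟨_, fun h0 => h.ne v hv0 (funext fun j => ?_), key⟩
  by_cases hj : j = o
  · subst hj; exact h.supp hfix hv0 hv
  · rw [key j hj, h0, zero_mul]; rfl

omit [Finite F] in
include h hfix in
theorem psi_zero {i : n} (hi : i ≠ o) : psi r o i 0 = 0 := by
  rw [psi, h.supp hfix (line_ne hi 0) (i := i) (by simp [bv, hi]), zero_div]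

omit [Finite F] in
include h hfix hdiag in
theorem psi_one {i : n} (hi : i ≠ o) : psi r o i 1 = 1 := by
  obtain ⟨a, ha⟩ := hdiag i hi
  have hne := line_o_ne h hfix hi (1 : F)
  rw [one_smul] at hne
  rw [psi, one_smul]
  rw [div_eq_one_iff_eq hne, ha]
  simp [bv, hi, Ne.symm hi]

omit [Finite F] in
include h hfix in
theorem psi_injective {i : n} (hi : i ≠ o) : Function.Injective (psi r o i) := by
  intro x y hxy
  have hx := line_o_ne h hfix hi x
  have hy := line_o_ne h hfix hi y
  obtain ⟨b, hb⟩ := h.inj _ _ (line_ne hi x) (line_ne hi y)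
    ⟨r (bv o + x • bv i) o / r (bv o + y • bv i) o, by
      funext j
      by_cases hjo : j = o
      · subst hjo; simp [div_mul_cancel₀ _ hy]
      · by_cases hji : j = i
        · subst hji
          rw [psi, psi, div_eq_div_iff hx hy] at hxy
          rw [Pi.smul_apply, smul_eq_mul, div_mul_eq_mul_div, eq_div_iff hy]
          linear_combination hxy
        · rw [Pi.smul_apply, h.supp hfix (line_ne hi x) (i := j) (by simp [bv, hjo, hji]),
            h.supp hfix (line_ne hi y) (i := j) (by simp [bv, hjo, hji]), smul_zero]⟩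
  have h1 := congrFun hb o
  have h2 := congrFun hb i
  simp [bv, Ne.symm hi] at h1
  simp [bv, hi, ← h1] at h2
  exact h2

omit [Finite F] in
include h hfix in
/-- Proportionality at infinity. -/
theorem psi_prop {i j : n} (hi : i ≠ o) (hj : j ≠ o) (hij : i ≠ j) {a b x : F}
    (hne : a ≠ 0 ∨ b ≠ 0) (hx : x ≠ 0) :
    psi r o i (x * a) * psi r o j b = psi r o i a * psi r o j (x * b) := by
  set v : n → F := a • bv i + b • bv j with hv
  have hvi : v i = a := by simp [hv, bv, hij]
  have hvj : v j = b := by simp [hv, bv, Ne.symm hij]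
  have hvo : v o = 0 := by simp [hv, bv, Ne.symm hi, Ne.symm hj]
  have hv0 : v ≠ 0 := fun e => by
    rcases hne with h1 | h1
    · exact h1 (by rw [← hvi, e]; rfl)
    · exact h1 (by rw [← hvj, e]; rfl)
  obtain ⟨K, hK, hKf⟩ := infinite_formula h hfix hvo hv0
  obtain ⟨L, hL, hLf⟩ := infinite_formula h hfix (o := o) (v := x • v) (by simp [hvo]) (smul_ne_zero hx hv0)
  obtain ⟨c, hc, hcv⟩ := h.smul hv0 hx
  have e1 := hLf i hi
  have e2 := hLf j hj
  rw [hcv, Pi.smul_apply, smul_eq_mul, hKf i hi, hvi, Pi.smul_apply, smul_eq_mul, hvi] at e1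
  rw [hcv, Pi.smul_apply, smul_eq_mul, hKf j hj, hvj, Pi.smul_apply, smul_eq_mul, hvj] at e2
  refine mul_left_cancel₀ (mul_ne_zero hc hK) ?_
  linear_combination psi r o i (x * a) * e2 - psi r o j (x * b) * e1

include h hfix hdiag in
/-- All coordinate functions are one field automorphism. -/
theorem exists_field (h3 : 3 ≤ Fintype.card n) :
    ∃ σ : F ≃+* F, ∀ i, i ≠ o → ∀ x, psi r o i x = σ x := by
  classical
  obtain ⟨i, hi⟩ : ∃ i, i ≠ o := Fintype.exists_ne_of_one_lt_card (by omega) o
  obtain ⟨j, hjo, hij⟩ : ∃ j, j ≠ o ∧ i ≠ j := by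
    obtain ⟨j, hj⟩ : ((Finset.univ.erase o).erase i).Nonempty := by
      rw [← Finset.card_pos, Finset.card_erase_of_mem (by simp [hi]),
        Finset.card_erase_of_mem (by simp), Finset.card_univ]
      omega
    simp at hj
    exact ⟨j, hj.2, Ne.symm hj.1⟩
  have heq : ∀ k l, k ≠ o → l ≠ o → k ≠ l → ∀ x, psi r o k x = psi r o l x := by
    intro k l hk hl hkl x
    by_cases hx : x = 0
    · subst hx; rw [psi_zero h hfix hk, psi_zero h hfix hl]
    have := psi_prop h hfix hk hl hkl (a := 1) (b := 1) (Or.inl one_ne_zero) hx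
    rwa [mul_one, psi_one h hfix hdiag hk, psi_one h hfix hdiag hl, mul_one, one_mul] at this
  have hall : ∀ k, k ≠ o → ∀ x, psi r o k x = psi r o i x := by
    intro k hk x
    by_cases hki : k = i
    · subst hki; rfl
    · exact heq k i hk hi hki x
  set f := psi r o i with hf
  have hmul : ∀ x y, f (x * y) = f x * f y := by
    intro x y
    by_cases hx : x = 0
    · subst hx; simp [hf, psi_zero h hfix hi]
    have := psi_prop h hfix hi hjo hij (a := y) (b := 1) (Or.inr one_ne_zero) hx
    rwa [psi_one h hfix hdiag hjo, mul_one, mul_one, hall j hjo, mul_comm (psi r o i y)] at this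
  have hadd : ∀ x y, f (x + y) = f x + f y := by
    intro x y
    set u : n → F := bv o + x • bv i with hu
    set v : n → F := y • bv i + bv j with hv
    set w : n → F := bv o + (x + y) • bv i + bv j with hw
    have hwo : w o = 1 := by simp [hw, bv, Ne.symm hi, Ne.symm hjo]
    have hwi : w i = x + y := by simp [hw, bv, hi, hij]
    have hwj : w j = 1 := by simp [hw, bv, hjo, Ne.symm hij]
    have hw0 : w ≠ 0 := fun e => by simp [e] at hwo
    have hvo : v o = 0 := by simp [hv, bv, Ne.symm hi, Ne.symm hjo]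
    have hvi : v i = y := by simp [hv, bv, hij]
    have hvj : v j = 1 := by simp [hv, bv, Ne.symm hij]
    have hv0 : v ≠ 0 := fun e => by simp [e] at hvj
    obtain ⟨hC, hCf⟩ := affine_formula h hfix hwo
    obtain ⟨K, hK, hKf⟩ := infinite_formula h hfix hvo hv0
    obtain ⟨a, b, hab⟩ := h.line u v w (line_ne hi x) hv0 hw0 ⟨1, 1, by simp [hu, hv, hw]; module⟩
    have eo := congrFun hab o
    have ei := congrFun hab i
    have ej := congrFun hab j
    have huo : u o = 1 := by simp [hu, bv, Ne.symm hi]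
    have hui : u i = x := by simp [hu, bv, hi]
    have huj : r u j = 0 := h.supp hfix (line_ne hi x) (by simp [bv, hjo, Ne.symm hij])
    simp only [Pi.add_apply, Pi.smul_apply, smul_eq_mul, h.supp hfix hv0 hvo, mul_zero,
      add_zero] at eo
    rw [Pi.add_apply, Pi.smul_apply, Pi.smul_apply, smul_eq_mul, smul_eq_mul, hCf i hi, hwi,
      (affine_formula h hfix huo).2 i hi, hui, hKf i hi, hvi] at ei
    rw [Pi.add_apply, Pi.smul_apply, Pi.smul_apply, smul_eq_mul, smul_eq_mul, hCf j hjo, hwj,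
      psi_one h hfix hdiag hjo, huj, hKf j hjo, hvj, psi_one h hfix hdiag hjo] at ej
    refine mul_left_cancel₀ hC ?_
    show r w o * psi r o i (x + y) = r w o * (psi r o i x + psi r o i y)
    linear_combination ei - psi r o i x * eo - psi r o i y * ej
  refine ⟨{ Equiv.ofBijective f (Finite.injective_iff_bijective.mp (psi_injective h hfix hi)) with
    map_mul' := hmul, map_add' := hadd }, fun k hk x => ?_⟩
  rw [hall k hk]
  rfl

end Normalised

/-- **Fundamental theorem of projective geometry**, finite fields, coordinates. -/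
theorem exists_semilinear [Finite F] (h3 : 3 ≤ Fintype.card n) (h : IsColl r) :
    ∃ (g : GL n F) (σ : F ≃+* F), ∀ v, v ≠ 0 →
      ∃ a : F, a ≠ 0 ∧ r v = a • ((g : Matrix n n F) *ᵥ fun i => σ (v i)) := by
  classical
  obtain ⟨g₁, hg₁⟩ := h.exists_fix_basis
  set r₁ := fun v => (g₁ : Matrix n n F) *ᵥ r v with hr₁
  have h₁ : IsColl r₁ := h.comp_gl g₁
  have hfix₁ : ∀ i, ∃ a : F, r₁ (bv i) = a • bv i := fun i => ⟨1, by simp [hr₁, hg₁ i]⟩
  obtain ⟨o⟩ : Nonempty n := Fintype.card_pos_iff.1 (by omega)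
  let d : n → F := fun i => if i = o then 1 else r₁ (bv o + bv i) o / r₁ (bv o + bv i) i
  have hab : ∀ i, i ≠ o → r₁ (bv o + bv i) o ≠ 0 ∧ r₁ (bv o + bv i) i ≠ 0 := by
    intro i hi
    have h0 := line_o_ne h₁ hfix₁ hi (1 : F)
    rw [one_smul] at h0
    refine ⟨h0, ?_⟩
    have hne : (bv i + (1 : F) • bv o : n → F) ≠ 0 := line_ne (Ne.symm hi) 1
    have h1 := line_o_ne h₁ hfix₁ (o := i) (Ne.symm hi) (1 : F)
    rwa [one_smul, add_comm] at h1
  have hd : ∀ i, d i ≠ 0 := by
    intro i
    by_cases hi : i = o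
    · simp [d, hi]
    · simp only [d, hi, if_false]; exact div_ne_zero (hab i hi).1 (hab i hi).2
  let D : GL n F := Matrix.GeneralLinearGroup.mk'' (Matrix.diagonal d) (by
    rw [Matrix.det_diagonal]; exact IsUnit.prod_univ_iff.mpr fun i => (hd i).isUnit)
  set r₂ := fun v => (D : Matrix n n F) *ᵥ r₁ v with hr₂
  have h₂ : IsColl r₂ := h₁.comp_gl D
  have hDv : ∀ v : n → F, ∀ i, ((D : Matrix n n F) *ᵥ v) i = d i * v i := fun v i => by
    show (Matrix.diagonal d *ᵥ v) i = _
    rw [Matrix.mulVec_diagonal]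
  have hfix₂ : ∀ i, ∃ a : F, r₂ (bv i) = a • bv i := fun i => ⟨d i, by
    funext k
    simp only [hr₂, hDv, hr₁, hg₁ i, Pi.smul_apply, smul_eq_mul]
    by_cases hk : k = i
    · subst hk; rfl
    · simp [bv, hk]⟩
  have hdiag₂ : ∀ i, i ≠ o → ∃ a : F, r₂ (bv o + bv i) = a • (bv o + bv i) := fun i hi =>
    ⟨r₁ (bv o + bv i) o, by
      funext k
      simp only [hr₂, hDv]
      by_cases hko : k = o
      · subst hko; simp [d, bv, Ne.symm hi]
      · by_cases hki : k = i
        · subst hki
          simp [d, bv, hko, div_mul_cancel₀ _ (hab k hko).2]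
        · rw [h₁.supp hfix₁ (v := bv o + bv i) (by
            intro e; have := congrFun e o; simp [bv, Ne.symm hi] at this) (by simp [bv, hko, hki])]
          simp [bv, hko, hki]⟩
  obtain ⟨σ, hσ⟩ := exists_field h₂ hfix₂ hdiag₂ h3
  refine ⟨g₁⁻¹ * D⁻¹, σ, fun v hv => ?_⟩
  suffices ∃ a : F, a ≠ 0 ∧ r₂ v = a • fun i => σ (v i) by
    obtain ⟨a, ha, hav⟩ := this
    refine ⟨a, ha, ?_⟩
    have h' : r₂ v = ((D * g₁ : GL n F) : Matrix n n F) *ᵥ r v := by
      rw [Units.val_mul, ← Matrix.mulVec_mulVec]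
    rw [← Matrix.mulVec_smul, ← hav, h', Matrix.mulVec_mulVec, ← Units.val_mul]
    simp
  by_cases hvo : v o = 0
  · obtain ⟨K, hK, hKf⟩ := infinite_formula h₂ hfix₂ hvo hv
    refine ⟨K, hK, funext fun j => ?_⟩
    by_cases hj : j = o
    · subst hj; simp [h₂.supp hfix₂ hv hvo, hvo]
    · simp [hKf j hj, hσ j hj]
  · obtain ⟨hC, hCf⟩ := affine_formula h₂ hfix₂ (o := o) (v := (v o)⁻¹ • v) (by simp [hvo])
    obtain ⟨b, hb, hbv⟩ := h₂.smul hv (inv_ne_zero hvo)
    have hσo : σ (v o) ≠ 0 := (map_ne_zero σ).2 hvo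
    refine ⟨r₂ ((v o)⁻¹ • v) o / (b * σ (v o)), div_ne_zero hC (mul_ne_zero hb hσo),
      funext fun j => ?_⟩
    have e := congrFun hbv j
    simp only [Pi.smul_apply, smul_eq_mul] at e
    rw [Pi.smul_apply, smul_eq_mul]
    by_cases hj : j = o
    · subst hj
      rw [e]
      field_simp
    · rw [hCf j hj, hσ j hj, Pi.smul_apply, smul_eq_mul, map_mul, map_inv₀] at e
      field_simp at e ⊢
      linear_combination -e

end Cfsg.Agent.CG26.ProjColl
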