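import Cfsg.Agent.Forms59.Spinor
import Mathlib.RingTheory.Norm.Basic
import Mathlib.FieldTheory.Finite.GaloisField

/-!
Negations on lines over a field of self-adjoint operators: products of reflections and their spinor
norms.
-/

set_option autoImplicit false
set_option linter.unusedSectionVars false

namespace Cfsg.Agent.CG26.SemiCent

open QuadraticMap Module Cfsg.Agent.Reflections
open Cfsg.Agent.Forms59 (reflProd reflProd_cons)

universe u

variable {ι : Type} [Fintype ι] [DecidableEq ι] {F : Type u} [Field F] {Q : QuadraticForm F (ι → F)}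

/-- The projection on a family of orthogonal anisotropic vectors. -/
noncomputable def proj (Q : QuadraticForm F (ι → F)) (vs : List (ι → F)) (x : ι → F) : ι → F :=
  (vs.map fun v => ((Q v)⁻¹ * polar ⇑Q v x) • v).sum

theorem polar_proj_eq_zero {w : ι → F} (x : ι → F) :
    ∀ vs : List (ι → F), (∀ v ∈ vs, polar ⇑Q w v = 0) → polar ⇑Q w (proj Q vs x) = 0
  | [], _ => by simp [proj]
  | v :: vs, h => by
    have ih := polar_proj_eq_zero x vs fun u hu => h u (by simp [hu])
    simp only [proj, List.map_cons, List.sum_cons] at ih ⊢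
    rw [polar_add_right, polar_smul_right, h v (by simp), ih]
    simp

theorem act_reflProd : ∀ (vs : List (ι → F)), (∀ v ∈ vs, Q v ≠ 0) →
    vs.Pairwise (fun v w => polar ⇑Q v w = 0) →
    ∀ x, act (reflProd Q vs) x = x - proj Q vs x
  | [], _, _, x => by simp [reflProd, proj]
  | v :: vs, hne, hp, x => by
    rw [List.pairwise_cons] at hp
    rw [reflProd_cons, act_mul, act_reflProd vs (fun u hu => hne u (by simp [hu])) hp.2 x,
      act_refl (hne v (by simp)), polar_sub_right, polar_proj_eq_zero x vs hp.1, sub_zero]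
    simp only [proj, List.map_cons, List.sum_cons]
    abel

variable [Finite F] {U : Submodule F (ι → F)} {K : Type u} [Field K] [Algebra F K]
  [FiniteDimensional F K] (E : K →ₐ[F] Module.End F U)

/-- An orbit of `u` with Gram form `(f, g) ↦ β (f g N)` gives a product of reflections negating it. -/
theorem exists_negation (h2 : (2 : F) ≠ 0) (β : K →ₗ[F] F) (hβ : β 1 ≠ 0) {N : K} (hN : N ≠ 0)
    (u : U) (hu : ∀ f g : K, polar ⇑Q ((E f u : U) : ι → F) ((E g u : U) : ι → F) = β (f * g * N)) :
    ∃ vs : List (ι → F), (∀ v ∈ vs, Q v ≠ 0) ∧ vs.length = finrank F K ∧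
      (∀ f, act (reflProd Q vs) ((E f u : U) : ι → F) = -((E f u : U) : ι → F)) ∧
      (∀ y, (∀ f, polar ⇑Q ((E f u : U) : ι → F) y = 0) → act (reflProd Q vs) y = y) ∧
      (∀ x, ∃ f, x - act (reflProd Q vs) x = ((E f u : U) : ι → F)) ∧
      ∃ d : F, d ≠ 0 ∧ (vs.map fun v => Q v).prod * 2 ^ finrank F K =
        d ^ 2 * Algebra.norm F N *
          (Matrix.of fun i j => β (finBasis F K i * finBasis F K j)).det := by
  classical
  letI : Invertible (2 : F) := invertibleOfNonzero h2
  let γ : LinearMap.BilinForm F K :=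
    LinearMap.mk₂ F (fun f g => β (f * g * N)) (fun a b c => by simp [add_mul])
      (fun r a b => by simp) (fun a b c => by simp [mul_add, add_mul]) (fun r a b => by simp)
  have hγ : ∀ f g, γ f g = β (f * g * N) := fun f g => rfl
  have hnd : ∀ f, (∀ g, γ f g = 0) → f = 0 := fun f h => by
    by_contra hf
    have := h (N⁻¹ * f⁻¹)
    rw [hγ, show f * (N⁻¹ * f⁻¹) * N = 1 by field_simp] at this
    exact hβ this
  have hsym : LinearMap.IsSymm γ := ⟨fun f g => by simp [hγ, mul_comm f g]⟩
  obtain ⟨e, he⟩ := LinearMap.BilinForm.exists_orthogonal_basis (B := γ) hsym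
  have ho : ∀ i j, i ≠ j → γ (e i) (e j) = 0 := fun i j h => he h
  have hne : ∀ i, γ (e i) (e i) ≠ 0 := fun i h => e.ne_zero i (hnd _ fun g => by
    rw [← e.sum_repr g, map_sum]
    refine Finset.sum_eq_zero fun j _ => ?_
    rw [map_smul]
    rcases eq_or_ne i j with rfl | hij
    · rw [h, smul_zero]
    · rw [ho i j hij, smul_zero])
  let vs : List (ι → F) := List.ofFn fun i => ((E (e i) u : U) : ι → F)
  have hmem : ∀ v ∈ vs, ∃ i, v = ((E (e i) u : U) : ι → F) := fun v hv => by
    obtain ⟨i, hi⟩ := List.mem_ofFn.1 hv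
    exact ⟨i, hi.symm⟩
  have h2Q : ∀ i, 2 * Q ((E (e i) u : U) : ι → F) = γ (e i) (e i) := fun i => by
    rw [hγ, ← hu, polar_self', mul_comm]
  have hQ : ∀ v ∈ vs, Q v ≠ 0 := fun v hv h => by
    obtain ⟨i, rfl⟩ := hmem v hv
    exact hne i (by rw [← h2Q, h, mul_zero])
  have hpw : vs.Pairwise (fun v w => polar ⇑Q v w = 0) := by
    rw [List.pairwise_ofFn]
    intro i j hij
    rw [hu, ← hγ]
    exact ho i j hij.ne
  have hproj : ∀ x, proj Q vs x = ∑ i, ((Q ((E (e i) u : U) : ι → F))⁻¹ *
      polar ⇑Q ((E (e i) u : U) : ι → F) x) • ((E (e i) u : U) : ι → F) := fun x => by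
    rw [proj, List.map_ofFn, List.sum_ofFn]
    rfl
  refine ⟨vs, hQ, by simp [vs], fun f => ?_, fun y hy => ?_, fun x => ?_, ?_⟩
  · let Λ : K →ₗ[F] (ι → F) := U.subtype ∘ₗ LinearMap.applyₗ u ∘ₗ E.toLinearMap
    suffices hL : (Matrix.mulVecLin (mat (reflProd Q vs))) ∘ₗ Λ = -Λ from LinearMap.congr_fun hL f
    refine e.ext fun j => ?_
    show act (reflProd Q vs) ((E (e j) u : U) : ι → F) = -((E (e j) u : U) : ι → F)
    rw [act_reflProd vs hQ hpw, hproj, Finset.sum_eq_single j (fun i _ hij => by
      rw [hu, ← hγ, ho i j hij, mul_zero, zero_smul]) (by simp), polar_self', ← mul_assoc,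
      mul_comm _ (2 : F), mul_assoc, inv_mul_cancel₀ (hQ _ (List.mem_ofFn.2 ⟨j, rfl⟩)), mul_one,
      two_smul]
    abel
  · rw [act_reflProd vs hQ hpw, hproj, Finset.sum_eq_zero fun i _ => by
      rw [hy, mul_zero, zero_smul], sub_zero]
  · refine ⟨∑ i, ((Q ((E (e i) u : U) : ι → F))⁻¹ *
      polar ⇑Q ((E (e i) u : U) : ι → F) x) • e i, ?_⟩
    rw [act_reflProd vs hQ hpw, sub_sub_cancel, hproj]
    simp only [map_sum, map_smul, LinearMap.sum_apply, LinearMap.smul_apply,
      Submodule.coe_sum, Submodule.coe_smul]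
  · let b := finBasis F K
    refine ⟨(b.toMatrix e).det, ?_, ?_⟩
    · intro h
      have := congrArg Matrix.det (b.toMatrix_mul_toMatrix_flip e)
      rw [Matrix.det_mul, h, zero_mul, Matrix.det_one] at this
      exact zero_ne_one this
    have hGb : LinearMap.BilinForm.toMatrix b γ =
        (Matrix.of fun i j => β (b i * b j)) * Algebra.leftMulMatrix b N := by
      ext i j
      rw [LinearMap.BilinForm.toMatrix_apply, hγ, Matrix.mul_apply,
        show b i * b j * N = b i * (N * b j) by ring]
      conv_lhs => rw [← b.sum_repr (N * b j), Finset.mul_sum, map_sum]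
      refine Finset.sum_congr rfl fun k _ => ?_
      rw [Algebra.leftMulMatrix_eq_repr_mul, mul_smul_comm, map_smul, Matrix.of_apply, smul_eq_mul,
        mul_comm]
    have hd : LinearMap.BilinForm.toMatrix e γ =
        Matrix.diagonal fun i => γ (e i) (e i) := by
      ext i j
      rw [LinearMap.BilinForm.toMatrix_apply]
      rcases eq_or_ne i j with rfl | hij
      · rw [Matrix.diagonal_apply_eq]
      · rw [Matrix.diagonal_apply_ne _ hij, ho i j hij]
    have h := congrArg Matrix.det (LinearMap.BilinForm.toMatrix_mul_basis_toMatrix b e γ)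
    rw [hd, Matrix.det_diagonal, hGb, Matrix.det_mul, Matrix.det_mul, Matrix.det_mul,
      Matrix.det_transpose, ← Algebra.norm_eq_matrix_det b,
      ← Finset.prod_congr rfl (fun i _ => h2Q i), Finset.prod_mul_distrib, Finset.prod_const,
      Finset.card_univ, Fintype.card_fin] at h
    rw [List.map_ofFn, List.prod_ofFn]
    simp only [Function.comp_apply]
    linear_combination -h

end Cfsg.Agent.CG26.SemiCent
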