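import Cfsg.Agent.CG26.CentLines
import Cfsg.Agent.Forms59.SemisimpleConj
import Mathlib.RingTheory.Ideal.Quotient.Operations
import Mathlib.FieldTheory.Separable

/-!
An element of the special orthogonal group outside `Ω` centralising a given semisimple element
without fixed points.
-/

set_option autoImplicit false
set_option linter.unusedSectionVars false

namespace Cfsg.Agent.CG26.SemiCent

open QuadraticMap Module Polynomial Cfsg.Agent.Reflections
open Cfsg.Agent.Forms59 (reflProd reflProd_append)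

universe u

variable {ι : Type} [Fintype ι] [DecidableEq ι] {F : Type u} [Field F] [Fintype F]
  {Q : QuadraticForm F (ι → F)}

theorem exists_comm_no_fix (h2 : (2 : F) ≠ 0) (hQ : Q.polarBilin.Nondegenerate)
    (hn : 2 ≤ Fintype.card ι) (a : Module.End F (ι → F)) (ha : ∀ v, Q (a v) = Q v) {N : ℕ}
    (hN : a ^ N = 1) (hodd : Odd N) (hNF : (N : F) ≠ 0) (hfix : ∀ v, a v = v → v = 0) :
    ∃ z : ↥(Cfsg.isometryGroup F ⇑Q), detHom Q z = 1 ∧ z ∉ Cfsg.Omega F ⇑Q ∧
      ∀ x, act z (a x) = a (act z x) := by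
  classical
  haveI : Nonempty ι := Fintype.card_pos_iff.1 (by omega)
  have hinj : ∀ v, a (a v) = v → v = 0 := fun v hv =>
    hfix v (Forms59.eq_one_of_sq_fixed hN hodd hv)
  obtain ⟨n', rfl⟩ : ∃ n', N = n' + 1 := ⟨N - 1, by have := hodd.pos; omega⟩
  set a' := a ^ n' with ha'def
  have hxa : ∀ v, a (a' v) = v := fun v => by
    have := LinearMap.congr_fun hN v; rwa [pow_succ'] at this
  have hax : ∀ v, a' (a v) = v := fun v => by
    have := LinearMap.congr_fun hN v; rwa [pow_succ] at this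
  set T : Module.End F (ι → F) := a + a' with hTdef
  have hB : ∀ x y, polar ⇑Q (a x) (a y) = polar ⇑Q x y := fun x y => by
    simp [polar, ← map_add, ha]
  have hadj : ∀ x y, polar ⇑Q (a x) y = polar ⇑Q x (a' y) := fun x y => by
    conv_lhs => rw [← hxa y, hB]
  have hTadj : ∀ x y, polar ⇑Q (T x) y = polar ⇑Q x (T y) := fun x y => by
    rw [hTdef, LinearMap.add_apply, LinearMap.add_apply, polar_add_left, polar_add_right, hadj,
      polar_comm ⇑Q (a' x) y, ← hadj y x, polar_comm ⇑Q (a y) x]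
    ring
  have hpadj : ∀ (q : F[X]) (x y : ι → F),
      polar ⇑Q (aeval T q x) y = polar ⇑Q x (aeval T q y) := by
    intro q
    induction q using Polynomial.induction_on' with
    | add q r hq hr => intro x y; simp [polar_add_left, polar_add_right, hq, hr]
    | monomial k c =>
      intro x y
      rw [aeval_monomial, Algebra.algebraMap_eq_smul_one, smul_one_mul, LinearMap.smul_apply,
        LinearMap.smul_apply, polar_smul_left, polar_smul_right]
      congr 1
      induction k generalizing y with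
      | zero => simp
      | succ k ih =>
        rw [pow_succ', Module.End.mul_apply, hTadj, ih, ← Module.End.mul_apply, ← pow_succ, pow_succ']
  -- the minimal polynomial of `T` is separable
  obtain ⟨p, hp⟩ := CharP.exists F
  haveI := hp
  have hpp : p.Prime := (CharP.char_is_prime_or_zero F p).resolve_right (CharP.char_ne_zero_of_finite F p)
  haveI := Fact.mk hpp
  obtain ⟨e, -, hcard⟩ := FiniteField.card F p
  set k := (e : ℕ) * (n' + 1).totient with hk
  have hk0 : k ≠ 0 := Nat.mul_ne_zero e.pos.ne' (Nat.totient_pos.2 (by omega)).ne'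
  have hmod : p ^ k % (n' + 1) = 1 % (n' + 1) := by
    refine Nat.ModEq.pow_totient (n := n' + 1) (x := p ^ (e : ℕ)) ?_ |> fun h => by
      rw [hk, pow_mul]; exact h
    refine Nat.Coprime.pow_left _ (hpp.coprime_iff_not_dvd.2 fun h => hNF ?_)
    obtain ⟨r, hr⟩ := h
    rw [hr, Nat.cast_mul, CharP.cast_eq_zero, zero_mul]
  have haQ : a ^ p ^ k = a := by rw [pow_eq_pow_mod _ hN, hmod, ← pow_eq_pow_mod _ hN, pow_one]
  haveI : CharP (Module.End F (ι → F)) p :=
    charP_of_injective_algebraMap (algebraMap F (Module.End F (ι → F))).injective p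
  have hTQ : T ^ p ^ k = T := by
    rw [hTdef, add_pow_char_pow_of_commute _ _ (ha'def ▸ Commute.self_pow a n'), haQ, ha'def,
      pow_right_comm, haQ]
  have hsep : (minpoly F T).Separable := by
    refine Separable.of_dvd (galois_poly_separable p (p ^ k) (dvd_pow_self p hk0)) (minpoly.dvd F T ?_)
    rw [map_sub, map_pow, aeval_X, hTQ, sub_self]
  have hTint : IsIntegral F T := Algebra.IsIntegral.isIntegral T
  obtain ⟨φ, hφ, ψ, hψ⟩ := WfDvdMonoid.exists_irreducible_factor
    (minpoly.not_isUnit F T) (minpoly.ne_zero hTint)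
  set U := LinearMap.ker (aeval T φ) with hU
  obtain ⟨qa, qb, hab⟩ := (hψ ▸ hsep : (φ * ψ).Separable).isCoprime
  have hUbot : U ≠ ⊥ := fun h => by
    have hz : aeval T ψ = 0 := LinearMap.ext fun x => LinearMap.ker_eq_bot.1 h (by
      rw [LinearMap.zero_apply, map_zero, ← Module.End.mul_apply, ← map_mul, ← hψ, minpoly.aeval,
        LinearMap.zero_apply])
    have hψ0 : ψ ≠ 0 := fun e => minpoly.ne_zero hTint (by rw [hψ, e, mul_zero])
    have h1 := natDegree_le_of_dvd (minpoly.dvd F T hz) hψ0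
    rw [hψ, natDegree_mul hφ.ne_zero hψ0] at h1
    have := hφ.natDegree_pos
    omega
  obtain ⟨w, hw⟩ : ∃ w : U, Q (w : ι → F) ≠ 0 := by
    by_contra hc
    push Not at hc
    obtain ⟨x, hxU, hx0⟩ := U.ne_bot_iff.1 hUbot
    have hUU : ∀ y ∈ U, polar ⇑Q x y = 0 := fun y hy => by
      simp [polar, hc ⟨x, hxU⟩, hc ⟨y, hy⟩, hc ⟨x + y, U.add_mem hxU hy⟩]
    refine hx0 (eq_zero_of_polar_eq_zero hQ fun y => ?_)
    have h1 : y = aeval T (qa * φ) y + aeval T (qb * ψ) y := by
      rw [← LinearMap.add_apply, ← map_add, hab, map_one, Module.End.one_apply]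
    have hx' : aeval T φ x = 0 := LinearMap.mem_ker.1 hxU
    rw [h1, polar_add_right, ← hpadj, map_mul, Module.End.mul_apply, hx', map_zero,
      polar_zero_left, zero_add]
    refine hUU _ (LinearMap.mem_ker.2 ?_)
    rw [← Module.End.mul_apply, ← map_mul, show φ * (qb * ψ) = qb * minpoly F T by rw [hψ]; ring,
      map_mul, minpoly.aeval, mul_zero, LinearMap.zero_apply]
  -- the field
  have hTa : ∀ x, T (a x) = a (T x) := fun x => by
    simp [hTdef, hxa, hax]
  have hφa : ∀ (q : F[X]) x, aeval T q (a x) = a (aeval T q x) := by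
    intro q
    induction q using Polynomial.induction_on' with
    | add q r hq hr => intro x; simp [hq, hr]
    | monomial m c =>
      intro x
      rw [aeval_monomial, Algebra.algebraMap_eq_smul_one, smul_one_mul, LinearMap.smul_apply,
        LinearMap.smul_apply, map_smul]
      congr 1
      induction m with
      | zero => simp
      | succ m ih => rw [pow_succ', Module.End.mul_apply, ih, hTa, Module.End.mul_apply]
  have haU : ∀ x ∈ U, a x ∈ U := fun x hx => LinearMap.mem_ker.2 (by
    rw [hφa, LinearMap.mem_ker.1 hx, map_zero])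
  have hTU : ∀ x ∈ U, T x ∈ U := fun x hx => LinearMap.mem_ker.2 (by
    have hc : Commute (aeval T φ) T := by
      have := (Commute.all φ X).map (aeval (R := F) T); rwa [aeval_X] at this
    rw [← Module.End.mul_apply, hc.eq, Module.End.mul_apply, LinearMap.mem_ker.1 hx, map_zero])
  let TU : Module.End F U := T.restrict hTU
  have hcoe : ∀ (q : F[X]) (x : U), ((aeval TU q x : U) : ι → F) = aeval T q x := by
    intro q
    induction q using Polynomial.induction_on' with
    | add q r hq hr => intro x; simp [hq, hr]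
    | monomial m c =>
      intro x
      simp only [aeval_monomial, Algebra.algebraMap_eq_smul_one, smul_one_mul, LinearMap.smul_apply,
        Submodule.coe_smul]
      congr 1
      induction m with
      | zero => simp
      | succ m ih => rw [pow_succ', pow_succ', Module.End.mul_apply, Module.End.mul_apply, ← ih]; rfl
  haveI := Fact.mk hφ
  haveI : Module.Finite F (AdjoinRoot φ) := (AdjoinRoot.powerBasis hφ.ne_zero).finite
  haveI : Finite (AdjoinRoot φ) := Module.finite_of_finite F
  let E : AdjoinRoot φ →ₐ[F] Module.End F U :=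
    Ideal.Quotient.liftₐ (Ideal.span {φ}) (aeval TU) fun q hq => by
      obtain ⟨r, rfl⟩ := Ideal.mem_span_singleton.1 hq
      refine LinearMap.ext fun x => Subtype.ext ?_
      rw [hcoe, mul_comm, map_mul, Module.End.mul_apply, LinearMap.mem_ker.1 x.2, map_zero]
      rfl
  have hE : ∀ (q : F[X]) (x : U),
      ((E (AdjoinRoot.mk φ q) x : U) : ι → F) = aeval T q x := fun q x => hcoe q x
  let J : AdjoinRoot φ → (ι → F) → (ι → F) := fun f x =>
    if h : x ∈ U then ((E f ⟨x, h⟩ : U) : ι → F) else 0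
  have hJ : ∀ f (x : U), ((E f x : U) : ι → F) = J f x := fun f x => by simp [J, x.2]
  have hJU : ∀ f x, x ∈ U → J f x ∈ U := fun f x h => by simp [J, h]
  have hJadd : ∀ f x y, x ∈ U → y ∈ U → J f (x + y) = J f x + J f y := fun f x y hx hy => by
    have := congrArg Subtype.val (map_add (E f) ⟨x, hx⟩ ⟨y, hy⟩)
    simpa [J, hx, hy, U.add_mem hx hy] using this
  have hJadd' : ∀ f g x, x ∈ U → J (f + g) x = J f x + J g x := fun f g x hx => by simp [J, hx]
  have hJmul : ∀ f g x, x ∈ U → J f (J g x) = J (f * g) x := fun f g x hx => by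
    rw [show J g x = ((E g ⟨x, hx⟩ : U) : ι → F) from (hJ g ⟨x, hx⟩).symm, ← hJ,
      show J (f * g) x = ((E (f * g) ⟨x, hx⟩ : U) : ι → F) from (hJ (f * g) ⟨x, hx⟩).symm, map_mul,
      Module.End.mul_apply]
  have hJ1 : ∀ x, x ∈ U → J 1 x = x := fun x hx => by simp [J, hx]
  have hJneg : ∀ f x, x ∈ U → J (-f) x = -J f x := fun f x hx => by simp [J, hx]
  have hJa : ∀ f x, x ∈ U → J f (a x) = a (J f x) := fun f x hx => by
    obtain ⟨q, rfl⟩ := AdjoinRoot.mk_surjective f
    rw [show J (AdjoinRoot.mk φ q) (a x) = _ from (hJ _ ⟨a x, haU x hx⟩).symm,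
      show J (AdjoinRoot.mk φ q) x = _ from (hJ _ ⟨x, hx⟩).symm, hE, hE]
    exact hφa q x
  have hJadj : ∀ f x y, x ∈ U → y ∈ U → polar ⇑Q (J f x) y = polar ⇑Q x (J f y) :=
    fun f x y hx hy => by
      obtain ⟨q, rfl⟩ := AdjoinRoot.mk_surjective f
      rw [show J (AdjoinRoot.mk φ q) x = _ from (hJ _ ⟨x, hx⟩).symm,
        show J (AdjoinRoot.mk φ q) y = _ from (hJ _ ⟨y, hy⟩).symm, hE, hE]
      exact hpadj q x y
  set t : AdjoinRoot φ := AdjoinRoot.root φ with ht
  have hJt : ∀ x, x ∈ U → J t x = a x + a' x := fun x hx => by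
    rw [show J t x = _ from (hJ _ ⟨x, hx⟩).symm, ht, ← AdjoinRoot.mk_X, hE, aeval_X, hTdef,
      LinearMap.add_apply]
  let β : AdjoinRoot φ →ₗ[F] F :=
    (Q.polarBilin (w : ι → F)) ∘ₗ U.subtype ∘ₗ LinearMap.applyₗ w ∘ₗ E.toLinearMap
  have hβ : ∀ f, β f = polar ⇑Q (J f w) w := fun f => by
    rw [← hJ, polar_comm]; rfl
  have hβ1 : β 1 ≠ 0 := by
    rw [hβ, hJ1 _ w.2, polar_self']
    exact mul_ne_zero h2 hw
  have h2K : (2 : AdjoinRoot φ) ≠ 0 := by
    have := (map_ne_zero (algebraMap F (AdjoinRoot φ))).2 h2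
    rwa [map_ofNat] at this
  -- `t ≠ ±2`
  have hw0 : (w : ι → F) ≠ 0 := fun h => hw (by rw [h, map_zero])
  have ht2 : ∀ c : F, c * c = 1 → t ≠ algebraMap F (AdjoinRoot φ) (2 * c) := fun c hc h => by
    have h1 : a (w : ι → F) + a' w = (2 * c) • (w : ι → F) := by
      rw [← hJt _ w.2, h, ← hJ, AlgHom.commutes]
      simp [Algebra.algebraMap_eq_smul_one]
    have h3 : a (a w) + (w : ι → F) = (2 * c) • a (w : ι → F) := by
      have := congrArg a h1; rwa [map_add, hxa, map_smul] at this
    have h4 : a (a w - c • (w : ι → F)) = c • (a w - c • (w : ι → F)) := by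
      rw [map_sub, map_smul, smul_sub, smul_smul, hc, one_smul]
      linear_combination (norm := module) h3
    have h5 := hinj _ (show a (a (a w - c • (w : ι → F))) = _ by
      rw [h4, map_smul, h4, smul_smul, hc, one_smul])
    refine hw0 (hinj _ ?_)
    rw [sub_eq_zero.1 h5, map_smul, sub_eq_zero.1 h5, smul_smul, hc, one_smul]
  set c0 := (1 : AdjoinRoot φ) - (t / 2) * (t / 2) with hc0def
  have hc0 : c0 ≠ 0 := fun h => by
    rcases mul_self_eq_one_iff.1 (sub_eq_zero.1 h).symm with e | e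
    · exact ht2 1 (mul_one 1) (by rw [mul_one, map_ofNat]; field_simp at e; linear_combination e)
    · exact ht2 (-1) (by ring) (by
        rw [mul_neg_one, map_neg, map_ofNat]; field_simp at e; linear_combination e)
  -- the second line
  obtain ⟨ε, hε0, hε⟩ := exists_nonsquare_scalar (F := F) h2
  obtain ⟨h, hh⟩ := FiniteField.norm_surjective F (AdjoinRoot φ) ε
  have hh0 : h ≠ 0 := fun e => hε0 (by rw [← hh, e, Algebra.norm_zero])
  letI : Fintype (AdjoinRoot φ) := Fintype.ofFinite _
  obtain ⟨σ, b, hσb⟩ := exists_sum_sq h2K one_ne_zero hc0 h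
  set α := σ - b * (t / 2) with hαdef
  have hN' : α * α + α * b * t + b * b = h := by
    rw [← hσb, hc0def, hαdef]; field_simp; ring
  have hS : ∀ f, 2 * polar ⇑Q (J f w) (a (w : ι → F)) = β (f * t) := fun f => by
    have e1 : polar ⇑Q (J f w) (a' (w : ι → F)) = polar ⇑Q (J f w) (a (w : ι → F)) := by
      rw [← hadj, ← hJa f _ w.2, hJadj f _ _ (haU _ w.2) w.2, polar_comm]
    rw [hβ, ← hJmul f t _ w.2, hJadj f (J t w) _ (hJU t _ w.2) w.2, hJt _ w.2, polar_add_left,
      polar_comm ⇑Q (a (w : ι → F)), polar_comm ⇑Q (a' (w : ι → F)), e1]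
    ring
  have haw := haU _ w.2
  have hgen : ∀ x y f g, x ∈ U → y ∈ U →
      polar ⇑Q (J f x) (J g y) = polar ⇑Q (J (f * g) x) y := fun x y f g hx hy => by
    rw [← hJadj g _ _ (hJU f x hx) hy, hJmul g f x hx, mul_comm g]
  have hquad : ∀ α b f g : AdjoinRoot φ,
      polar ⇑Q (J f (J α w + J b (a w))) (J g (J α w + J b (a w))) =
        β (f * g * (α * α + α * b * t + b * b)) := fun α b f g => by
    have hαU := hJU α _ w.2
    have hbU := hJU b _ haw
    rw [hJadd f _ _ hαU hbU, hJadd g _ _ hαU hbU, hJmul _ _ _ w.2, hJmul _ _ _ haw,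
      hJmul _ _ _ w.2, hJmul _ _ _ haw, polar_add_left, polar_add_right, polar_add_right,
      polar_comm ⇑Q (J (f * b) (a w)) (J (g * α) w), hgen _ _ _ _ w.2 w.2, hgen _ _ _ _ w.2 haw,
      hgen _ _ _ _ w.2 haw, hgen _ _ _ _ haw haw, hJa _ _ w.2, hB, ← hβ, ← hβ,
      show f * g * (α * α + α * b * t + b * b) =
        f * α * (g * α) + f * α * (g * b) * t + f * b * (g * b) by ring,
      map_add, map_add, ← hS, show g * α * (f * b) = f * α * (g * b) by ring]
    ring
  let u : U := ⟨J α w + J b (a w), U.add_mem (hJU _ _ w.2) (hJU _ _ haw)⟩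
  let v : U := ⟨J (-(t / 2)) w + J 1 (a w), U.add_mem (hJU _ _ w.2) (hJU _ _ haw)⟩
  have hgu : ∀ f g, polar ⇑Q (J f u) (J g u) = β (f * g * h) := fun f g => by
    rw [← hN']; exact hquad α b f g
  have hgv : ∀ f g, polar ⇑Q (J f v) (J g v) = β (f * g * c0) := fun f g => by
    have := hquad (-(t / 2)) 1 f g
    rwa [show -(t / 2) * -(t / 2) + -(t / 2) * 1 * t + 1 * 1 = c0 by
      rw [hc0def]; field_simp; ring] at this
  have hgw : ∀ f g, polar ⇑Q (J f w) (J g w) = β (f * g * 1) := fun f g => by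
    rw [mul_one, hgen _ _ _ _ w.2 w.2, ← hβ]
  obtain ⟨ws, hws, hwlen, hwneg, hwfix, hwmem, dw, hdw, hwprod⟩ :=
    exists_negation E h2 β hβ1 one_ne_zero w (fun f g => by rw [hJ, hJ]; exact hgw f g)
  obtain ⟨us, hus, hulen, huneg, hufix, humem, du, hdu, huprod⟩ :=
    exists_negation E h2 β hβ1 hh0 u (fun f g => by rw [hJ, hJ]; exact hgu f g)
  obtain ⟨zs, hzs, -, hzneg, hzfix, hzmem, -⟩ :=
    exists_negation E h2 β hβ1 hc0 v (fun f g => by rw [hJ, hJ]; exact hgv f g)
  simp only [hJ] at hwneg hwfix hwmem huneg hufix humem hzneg hzfix hzmem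
  -- the plane
  let P : (ι → F) → Prop := fun y => ∃ f g, y = J f w + J g (a w)
  let O : (ι → F) → Prop := fun y => ∀ f g, polar ⇑Q (J f w + J g (a w)) y = 0
  have haP : ∀ f g, a (J f w + J g (a w)) = J (-g) w + J (f + g * t) (a w) := fun f g => by
    have e : a (a (w : ι → F)) = J t (a w) - w := by
      rw [hJt _ haw, hax]; abel
    rw [map_add, ← hJa f _ w.2, ← hJa g _ haw, e, hJadd' f (g * t) _ haw, hJneg g _ w.2,
      ← hJmul g t _ haw]
    have := hJadd g (J t (a w) - w) w (U.sub_mem (hJU t _ haw) w.2) w.2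
    rw [sub_add_cancel] at this
    rw [this]; abel
  have hao : ∀ y, O y → O (a y) := fun y hy f g => by
    obtain ⟨f', g', e⟩ : ∃ f' g', J f w + J g (a w) = a (J f' w + J g' (a w)) :=
      ⟨g + f * t, -f, by rw [haP]; congr 2 <;> ring⟩
    rw [e, hB]; exact hy f' g'
  have hsplit : ∀ y, ∃ p o, P p ∧ O o ∧ y = p + o := fun y => by
    obtain ⟨f, hf⟩ := hwmem y
    obtain ⟨g, hg⟩ := hzmem y
    have hmw : ∀ (xs : List (ι → F)) (x : U) (_ : ∀ f, act (reflProd Q xs) (J f x) = -J f x) f',
        polar ⇑Q (J f' x) (y - act (reflProd Q xs) y) = 2 * polar ⇑Q (J f' x) y :=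
      fun xs x hneg f' => by
        have := act_polar (reflProd Q xs) (J f' x) y
        rw [hneg, polar_neg_left] at this
        rw [polar_sub_right]
        linear_combination this
    have hperp : ∀ f g, polar ⇑Q (J f w) (J g v) = 0 := fun f g => by
      show polar ⇑Q (J f w) (J g (J (-(t / 2)) w + J 1 (a w))) = 0
      rw [hJadd g _ _ (hJU _ _ w.2) (hJU _ _ haw), hJmul _ _ _ w.2, hJmul _ _ _ haw, mul_one,
        polar_add_right, hgen _ _ _ _ w.2 w.2, hgen _ _ _ _ w.2 haw, ← hβ,
        show f * (g * -(t / 2)) = -((f * g) * t / 2) by ring, map_neg]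
      have h2' : (2 : F) * (polar ⇑Q (J (f * g) w) (a w) - β ((f * g) * t / 2)) = 0 := by
        rw [mul_sub, hS, ← smul_eq_mul (2 : F) (β _), ← map_smul,
          show (2 : F) • (f * g * t / 2) = f * g * t by
            rw [Algebra.smul_def, map_ofNat]; field_simp, sub_self]
      linear_combination (mul_eq_zero.1 h2').resolve_left h2
    have hvw : ∀ g, J g v = J (g * -(t / 2)) w + J g (a w) := fun g => by
      show J g (J (-(t / 2)) w + J 1 (a w)) = _
      rw [hJadd g _ _ (hJU _ _ w.2) (hJU _ _ haw), hJmul _ _ _ w.2, hJmul _ _ _ haw, mul_one]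
    refine ⟨J (f / 2) w + J (g / 2) v, y - (J (f / 2) w + J (g / 2) v),
      ⟨f / 2 + g / 2 * -(t / 2), g / 2, by rw [hvw, hJadd' _ _ _ w.2]; abel⟩, fun f' g' => ?_,
      by abel⟩
    have hhalf : ∀ (c : AdjoinRoot φ) (x : U), J c x = (2 : F) • J (c / 2) x := fun c x => by
      rw [← hJ, ← hJ, ← Submodule.coe_smul, ← LinearMap.smul_apply, ← map_smul]
      congr 4
      rw [Algebra.smul_def, map_ofNat]; field_simp
    have k1 : ∀ c, polar ⇑Q (J c w) (y - (J (f / 2) w + J (g / 2) v)) = 0 := fun c => by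
      have := hmw ws w hwneg c
      rw [hf, hhalf f w, polar_smul_right, smul_eq_mul] at this
      rw [polar_sub_right, polar_add_right, hperp, mul_left_cancel₀ h2 this]; ring
    have k2 : ∀ c, polar ⇑Q (J c v) (y - (J (f / 2) w + J (g / 2) v)) = 0 := fun c => by
      have := hmw zs v hzneg c
      rw [hg, hhalf g v, polar_smul_right, smul_eq_mul] at this
      rw [polar_sub_right, polar_add_right, polar_comm ⇑Q (J c v) (J (f / 2) w), hperp,
        mul_left_cancel₀ h2 this]; ring
    rw [show J f' w + J g' (a w) = J (f' + g' * (t / 2)) w + J g' v by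
      rw [hvw, hJadd' _ _ _ w.2, mul_neg, hJneg _ _ w.2]; abel, polar_add_left, k1, k2, add_zero]
  -- both negations turn `a` into the same map
  have key : ∀ (xs : List (ι → F)) (x : U) (α b : AdjoinRoot φ), (x : ι → F) = J α w + J b (a w) →
      α * α + α * b * t + b * b ≠ 0 →
      (∀ f, act (reflProd Q xs) (J f x) = -J f x) →
      (∀ y, (∀ f, polar ⇑Q (J f x) y = 0) → act (reflProd Q xs) y = y) →
      (∀ p, P p → act (reflProd Q xs) (a (act (reflProd Q xs) p)) = a' p) ∧
      ∀ o, O o → act (reflProd Q xs) (a (act (reflProd Q xs) o)) = a o := by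
    intro xs x α b hx hN hneg hfx
    have hcomb : ∀ f, J f x = J (f * α) w + J (f * b) (a w) := fun f => by
      rw [hx, hJadd f _ _ (hJU _ _ w.2) (hJU _ _ haw), hJmul _ _ _ w.2, hJmul _ _ _ haw]
    have hOx : ∀ o, O o → act (reflProd Q xs) o = o := fun o ho =>
      hfx o fun f => by rw [hcomb]; exact ho _ _
    refine ⟨?_, fun o ho => by rw [hOx o ho, hOx _ (hao o ho)]⟩
    rintro p ⟨f0, g0, rfl⟩
    have hax' : a (x : ι → F) ∈ U := haU _ x.2
    have hxa' : ∀ f, J f (a (x : ι → F)) = J (f * -b) w + J (f * (α + b * t)) (a w) := fun f => by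
      rw [hx, haP, hJadd f _ _ (hJU _ _ w.2) (hJU _ _ haw), hJmul _ _ _ w.2, hJmul _ _ _ haw]
    obtain ⟨f, g, e⟩ : ∃ f g, J f0 w + J g0 (a w) = J f x + J g (a (x : ι → F)) := by
      refine ⟨(f0 * (α + b * t) + g0 * b) / (α * α + α * b * t + b * b),
        (g0 * α - f0 * b) / (α * α + α * b * t + b * b), ?_⟩
      rw [hcomb, hxa', add_add_add_comm, ← hJadd' _ _ _ w.2, ← hJadd' _ _ _ haw]
      congr 2 <;>
        (rw [div_mul_eq_mul_div, div_mul_eq_mul_div, ← add_div, eq_div_iff hN]; ring)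
    have hR : ∀ g, act (reflProd Q xs) (J g (a (x : ι → F))) = J g (a (x : ι → F)) - J (g * t) x :=
      fun g => by
        have hperp : act (reflProd Q xs) (J g (a (x : ι → F)) - J (g * (t / 2)) x) =
            J g (a (x : ι → F)) - J (g * (t / 2)) x := hfx _ fun c => by
          rw [polar_sub_right, hgen _ _ _ _ x.2 hax', hgen _ _ _ _ x.2 x.2]
          have e1 : polar ⇑Q (J (c * g) x) (a' (x : ι → F)) = polar ⇑Q (J (c * g) x) (a (x : ι → F)) := by
            rw [← hadj, ← hJa _ _ x.2, hJadj _ _ _ hax' x.2, polar_comm]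
          have e2 : polar ⇑Q (J (c * g * t) x) x = 2 * polar ⇑Q (J (c * g) x) (a (x : ι → F)) := by
            rw [← hJmul (c * g) t _ x.2, hJadj _ _ _ (hJU t _ x.2) x.2, polar_comm, hJt _ x.2,
              polar_add_right, e1]; ring
          have e3 : polar ⇑Q (J (c * g * t) x) x = 2 * polar ⇑Q (J (c * (g * (t / 2))) x) x := by
            rw [show c * g * t = c * (g * (t / 2)) + c * (g * (t / 2)) by field_simp; ring,
              hJadd' _ _ _ x.2, polar_add_left]; ring
          exact mul_left_cancel₀ h2 (by linear_combination e3 - e2)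
        rw [act_sub, hneg, sub_neg_eq_add] at hperp
        rw [eq_sub_iff_add_eq.2 hperp,
          show g * t = g * (t / 2) + g * (t / 2) by field_simp; ring, hJadd' _ _ _ x.2]
        abel
    rw [e, act_add, hneg, hR, map_add, map_neg, map_sub, ← hJa f _ x.2, ← hJa g _ hax',
      ← hJa (g * t) _ x.2]
    have e4 : a (a (x : ι → F)) = J t (a (x : ι → F)) - x := by
      rw [hJt _ hax', hax]; abel
    have e5 : J g (a (a (x : ι → F))) = J (g * t) (a (x : ι → F)) - J g x := by
      rw [e4, eq_sub_iff_add_eq, ← hJadd g _ _ (U.sub_mem (hJU t _ hax') x.2) x.2, sub_add_cancel,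
        hJmul _ _ _ hax']
    rw [e5, show -J f (a (x : ι → F)) + (J (g * t) (a (x : ι → F)) - J g x - J (g * t) (a (x : ι → F))) =
      -(J f (a (x : ι → F)) + J g x) by abel, act_neg, act_add, hR, hneg]
    have e6 : ∀ y ∈ U, a' y = J t y - a y := fun y hy => by rw [hJt y hy]; abel
    rw [map_add, e6 _ (hJU f _ x.2), e6 _ (hJU g _ hax'), hJmul _ _ _ x.2, hJmul _ _ _ hax',
      ← hJa f _ x.2, ← hJa g _ hax', e5, mul_comm t f, mul_comm t g]
    abel
  obtain ⟨hw1, hw2⟩ := key ws w 1 0 (by
      rw [hJ1 _ w.2]; simp [J, haw]) (by simp) hwneg hwfix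
  obtain ⟨hu1, hu2⟩ := key us u α b rfl (hN' ▸ hh0) huneg hufix
  have hself : ∀ xs : List (ι → F), (∀ v ∈ xs, Q v ≠ 0) → ∀ (x : U),
      (∀ f, act (reflProd Q xs) (J f x) = -J f x) →
      (∀ y, (∀ f, polar ⇑Q (J f x) y = 0) → act (reflProd Q xs) y = y) →
      (∀ y, ∃ f, y - act (reflProd Q xs) y = J f x) →
      ∀ y, act (reflProd Q xs) (act (reflProd Q xs) y) = y := fun xs _ x hneg _ hmem y => by
    obtain ⟨f, hf⟩ := hmem y
    have h1 : act (reflProd Q xs) y = y - J f x := by rw [← hf]; abel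
    rw [h1, act_sub, hneg, h1]; abel
  refine ⟨reflProd Q (us ++ ws), ?_, ?_, fun y => ?_⟩
  · have hdet : ∀ xs : List (ι → F), (∀ v ∈ xs, Q v ≠ 0) →
        detHom Q (reflProd Q xs) = (-1) ^ xs.length := by
      intro xs hxs
      induction xs with
      | nil => simp [Forms59.reflProd]
      | cons v xs ih =>
        rw [Forms59.reflProd_cons, map_mul, detHom_refl (hxs v (by simp)),
          ih (fun u hu => hxs u (by simp [hu])), List.length_cons, pow_succ']
    rw [hdet _ (fun v hv => (List.mem_append.1 hv).elim (hus v) (hws v)), List.length_append,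
      hulen, hwlen]
    exact Even.neg_one_pow ⟨_, rfl⟩
  · rw [Forms59.reflProd_mem_omega_iff h2 hQ hn _
      (fun v hv => (List.mem_append.1 hv).elim (hus v) (hws v))]
    rintro ⟨-, r, hr⟩
    rw [List.map_append, List.prod_append] at hr
    set D := (Matrix.of fun i j => β (finBasis F (AdjoinRoot φ) i * finBasis F (AdjoinRoot φ) j)).det
    set d := finrank F (AdjoinRoot φ)
    have h2d : (2 : F) ^ d ≠ 0 := pow_ne_zero _ h2
    have hprod : (r * 2 ^ d) ^ 2 = (du * dw * D) ^ 2 * ε := by
      rw [hh] at huprod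
      rw [map_one] at hwprod
      calc (r * 2 ^ d) ^ 2 = (us.map fun v => Q v).prod * 2 ^ d * ((ws.map fun v => Q v).prod * 2 ^ d) := by
            linear_combination (-(2 ^ d * 2 ^ d : F)) * hr
        _ = _ := by rw [huprod, hwprod]; ring
    have hne : du * dw * D ≠ 0 := fun h0 => by
      have hp : (ws.map fun v => Q v).prod ≠ 0 := List.prod_ne_zero fun h => by
        obtain ⟨v, hv, h0⟩ := List.mem_map.1 h; exact hws v hv h0
      have := mul_ne_zero hp h2d
      rw [hwprod, map_one, mul_one] at this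
      exact mul_ne_zero (mul_ne_zero hdu hdw) (right_ne_zero_of_mul this) h0
    refine hε ⟨r * 2 ^ d / (du * dw * D), ?_⟩
    rw [div_mul_div_comm, eq_div_iff (mul_ne_zero hne hne)]
    linear_combination -hprod
  · rw [reflProd_append, act_mul, act_mul]
    have hsame : ∀ y, act (reflProd Q us) (a (act (reflProd Q us) y)) =
        act (reflProd Q ws) (a (act (reflProd Q ws) y)) := fun y => by
      obtain ⟨p, o, hp, ho, rfl⟩ := hsplit y
      simp only [act_add, map_add, hu1 p hp, hu2 o ho, hw1 p hp, hw2 o ho]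
    have hu' := hself us hus u huneg hufix humem
    have hw' := hself ws hws w hwneg hwfix hwmem
    have := hsame (act (reflProd Q ws) y)
    rw [hw'] at this
    rw [← this, hu']

end Cfsg.Agent.CG26.SemiCent
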