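import Cfsg.Prelude.Def_ClassicalGeometry

/-!
Homomorphisms from symmetric groups to small isometry groups, through the heart of the permutation
module, and transport of isometry groups along field isomorphisms.
-/

namespace Cfsg.Agent.CG26

open Matrix

variable {K : Type*} [Field K] {n : ℕ} {ι : Type} [Fintype ι] [DecidableEq ι]

/-- permutation of coordinates -/
def pAct (K : Type*) [Field K] (σ : Equiv.Perm (Fin n)) : (Fin n → K) →ₗ[K] (Fin n → K) :=
  LinearMap.funLeft K K σ.symm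

/-- data of a model of the heart -/
structure Model (K : Type*) [Field K] (n : ℕ) {ι : Type} [Fintype ι] [DecidableEq ι] (Q : (ι → K) → K) where
  E : Matrix (Fin n) ι K
  C : Matrix ι (Fin n) K
  q : (Fin n → K) → K
  sum_E : ∀ X, ∑ i, (E *ᵥ X) i = 0
  C_E : C * E = 1
  E_C : ∀ v : Fin n → K, ∑ i, v i = 0 → ∃ c : K, E *ᵥ (C *ᵥ v) = v + fun _ => c
  C_const : ∀ c : K, C *ᵥ (fun _ : Fin n => c) = 0 ∨ (n : K) * c ≠ 0
  q_E : ∀ X, q (E *ᵥ X) = Q X
  q_perm : ∀ (σ : Equiv.Perm (Fin n)) (v : Fin n → K), q (fun i => v (σ i)) = q v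
  q_const : ∀ (v : Fin n → K) (c : K), ∑ i, v i = 0 → (n : K) * c = 0 → q (v + fun _ => c) = q v

variable {Q : (ι → K) → K}

namespace Model

variable (M : Model K n Q)

/-- the action -/
def h (σ : Equiv.Perm (Fin n)) : (ι → K) →ₗ[K] (ι → K) :=
  M.C.mulVecLin ∘ₗ pAct K σ ∘ₗ M.E.mulVecLin

theorem h_apply (σ : Equiv.Perm (Fin n)) (X : ι → K) :
    M.h σ X = M.C *ᵥ (fun i => (M.E *ᵥ X) (σ.symm i)) := rfl

theorem C_E_apply (X : ι → K) : M.C *ᵥ (M.E *ᵥ X) = X := by
  rw [Matrix.mulVec_mulVec, M.C_E, Matrix.one_mulVec]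

theorem sum_shift (σ : Equiv.Perm (Fin n)) (X : ι → K) : ∑ i, (M.E *ᵥ X) (σ i) = 0 := by
  rw [Equiv.sum_comp σ (fun i => (M.E *ᵥ X) i)]
  exact M.sum_E X

theorem C_const' {v : Fin n → K} (hv : ∑ i, v i = 0) :
    ∃ c : K, M.E *ᵥ (M.C *ᵥ v) = v + (fun _ => c) ∧ M.C *ᵥ (fun _ : Fin n => c) = 0 ∧ (n : K) * c = 0 := by
  obtain ⟨c, hc⟩ := M.E_C v hv
  have hs := M.sum_E (M.C *ᵥ v)
  rw [hc] at hs
  simp [Finset.sum_add_distrib, hv] at hs
  have hn : (n : K) * c = 0 := by
    rcases hs with h | h <;> simp [h]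
  exact ⟨c, hc, (M.C_const c).resolve_right (not_not.2 hn), hn⟩

theorem h_coord (σ : Equiv.Perm (Fin n)) {v : Fin n → K} (hv : ∑ i, v i = 0) :
    M.h σ (M.C *ᵥ v) = M.C *ᵥ (fun i => v (σ.symm i)) := by
  obtain ⟨c, hc, hC, -⟩ := M.C_const' hv
  rw [h_apply, hc]
  have e : (fun i => ((v + fun _ => c : Fin n → K)) (σ.symm i)) = (fun i => v (σ.symm i)) + fun _ => c := rfl
  rw [e, Matrix.mulVec_add, hC, add_zero]

theorem h_mul (σ τ : Equiv.Perm (Fin n)) : M.h (σ * τ) = M.h σ ∘ₗ M.h τ := by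
  refine LinearMap.ext fun X => ?_
  rw [LinearMap.comp_apply, h_apply M τ, h_coord M σ (M.sum_shift τ.symm X), h_apply]
  rfl

theorem h_one : M.h 1 = LinearMap.id := LinearMap.ext fun X => by
  rw [h_apply]
  exact M.C_E_apply X

theorem h_pres (σ : Equiv.Perm (Fin n)) (X : ι → K) : Q (M.h σ X) = Q X := by
  obtain ⟨c, hc, -, hn⟩ := M.C_const' (v := fun i => (M.E *ᵥ X) (σ.symm i)) (M.sum_shift σ.symm X)
  rw [h_apply, ← M.q_E (M.C *ᵥ _), hc, M.q_const _ c (M.sum_shift σ.symm X) hn, M.q_perm, M.q_E]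

/-- the representation -/
noncomputable def hom : Equiv.Perm (Fin n) →* Cfsg.isometryGroup K Q :=
  MonoidHom.mk' (fun σ => ⟨⟨LinearMap.toMatrix' (M.h σ), LinearMap.toMatrix' (M.h σ⁻¹),
      by rw [← LinearMap.toMatrix'_comp, ← h_mul, mul_inv_cancel, h_one, LinearMap.toMatrix'_id],
      by rw [← LinearMap.toMatrix'_comp, ← h_mul, inv_mul_cancel, h_one, LinearMap.toMatrix'_id]⟩,
      fun u _ => by
        show Q (LinearMap.toMatrix' (M.h σ) *ᵥ u) = Q u
        rw [LinearMap.toMatrix'_mulVec, M.h_pres]⟩)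
    (fun σ τ => Subtype.ext (Units.ext (by
      show LinearMap.toMatrix' (M.h (σ * τ)) = LinearMap.toMatrix' (M.h σ) * LinearMap.toMatrix' (M.h τ)
      rw [h_mul, LinearMap.toMatrix'_comp])))

theorem hom_coe (σ : Equiv.Perm (Fin n)) :
    (((M.hom σ).1 : GL ι K) : Matrix ι ι K) = LinearMap.toMatrix' (M.h σ) := rfl

theorem hom_eq_one_iff (σ : Equiv.Perm (Fin n)) : M.hom σ = 1 ↔ M.h σ = LinearMap.id := by
  constructor
  · intro h1
    have := congrArg (fun g : Cfsg.isometryGroup K Q => ((g.1 : GL ι K) : Matrix ι ι K)) h1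
    simp only [hom_coe] at this
    exact LinearMap.toMatrix'.injective (by rw [this, LinearMap.toMatrix'_id]; rfl)
  · intro h1
    exact Subtype.ext (Units.ext (by rw [hom_coe, h1, LinearMap.toMatrix'_id]; rfl))

/-- A permutation acting as a scalar `s` on the heart maps every `e i - e j` into `s (e i - e j) + const`. -/
theorem eq_one_of_scalar (hn : 3 ≤ n) (hn4 : 5 ≤ n ∨ (n : K) ≠ 0) {σ : Equiv.Perm (Fin n)} {s : K}
    (hσ : ∀ X, M.h σ X = s • X) : σ = 1 := by
  refine Equiv.ext fun x => ?_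
  by_contra hx
  simp only [Equiv.Perm.coe_one, id_eq] at hx
  have hfind : ∀ t : Finset (Fin n), t.card < n → ∃ q, q ∉ t := by
    intro t ht
    by_contra hne
    push Not at hne
    have := Finset.card_le_card (fun q _ => hne q : (Finset.univ : Finset (Fin n)) ⊆ t)
    simp at this
    omega
  obtain ⟨y, hy⟩ := hfind {x, σ x} (lt_of_le_of_lt Finset.card_le_two (by omega))
  simp only [Finset.mem_insert, Finset.mem_singleton, not_or] at hy
  have key : ∀ v : Fin n → K, ∑ i, v i = 0 → ∃ c, (∀ i, v (σ.symm i) = s * v i + c) ∧ (n : K) * c = 0 := by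
    intro v hv
    have hw : ∑ i, v (σ.symm i) = 0 := (Equiv.sum_comp σ.symm v).trans hv
    obtain ⟨c, hc, -, hnc⟩ := M.C_const' hv
    obtain ⟨d, hd, -, hnd⟩ := M.C_const' hw
    refine ⟨s * c - d, fun i => ?_, by linear_combination s * hnc - hnd⟩
    have h1 := M.h_coord σ hv
    rw [hσ] at h1
    rw [← h1, Matrix.mulVec_smul, hc] at hd
    have := congrFun hd i
    simp only [Pi.smul_apply, Pi.add_apply, smul_eq_mul] at this
    linear_combination -this
  obtain ⟨c, hc, hcn⟩ := key (Pi.single x 1 - Pi.single y 1) (by simp [Finset.sum_sub_distrib])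
  have hsx : σ.symm (σ x) = x := σ.symm_apply_apply x
  have e1 := hc (σ x)
  simp [hsx, hx, Ne.symm hy.1, Ne.symm hy.2] at e1
  have hc1 : c = 1 := e1.symm
  have hn0 : (n : K) = 0 := by simpa [hc1] using hcn
  obtain ⟨r, hr⟩ := hfind {x, y, σ x, σ y} (lt_of_le_of_lt Finset.card_le_four (by
    rcases hn4 with h4 | h4
    · omega
    · exact absurd hn0 h4))
  simp only [Finset.mem_insert, Finset.mem_singleton, not_or] at hr
  have hr1 : σ.symm r ≠ x := fun e => hr.2.2.1 (by rw [← e, Equiv.apply_symm_apply])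
  have hr2 : σ.symm r ≠ y := fun e => hr.2.2.2 (by rw [← e, Equiv.apply_symm_apply])
  have e2 := hc r
  simp [hr1, hr2, hr.1, hr.2.1, hc1] at e2

theorem hom_injective (hn : 3 ≤ n) (hn4 : 5 ≤ n ∨ (n : K) ≠ 0) : Function.Injective M.hom := by
  rw [injective_iff_map_eq_one]
  intro σ hσ
  exact M.eq_one_of_scalar hn hn4 (s := 1) fun X => by rw [(M.hom_eq_one_iff σ).1 hσ]; simp

end Model

variable {F : Type*} [Field F]

/-- transport of an isometry group along a field isomorphism -/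
noncomputable def isometryGroupCongr (e : K ≃+* F) {Q' : (ι → F) → F}
    (hQ : ∀ v, Q' (e ∘ v) = e (Q v)) : Cfsg.isometryGroup K Q ≃* Cfsg.isometryGroup F Q' :=
  let φ : GL ι K ≃* GL ι F := Units.mapEquiv e.mapMatrix.toMulEquiv
  (Subgroup.equivMapOfInjective (Cfsg.isometryGroup K Q) φ.toMonoidHom φ.injective).trans
    (MulEquiv.subgroupCongr (by
      have key : ∀ (M : Matrix ι ι K) (v : ι → K), (M.map e) *ᵥ (e ∘ v) = e ∘ (M *ᵥ v) := fun M v => by
        funext i
        simp [Matrix.mulVec, dotProduct, map_sum]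
      ext g
      constructor
      · rintro ⟨g, hg, rfl⟩ u w
        obtain ⟨v, rfl⟩ : ∃ v, e ∘ v = u := ⟨e.symm ∘ u, funext fun i => e.apply_symm_apply _⟩
        show Q' ((((g : GL ι K) : Matrix ι ι K).map e) *ᵥ (e ∘ v)) = Q' (e ∘ v)
        rw [key, hQ, hQ]
        exact congrArg e (hg v v)
      · intro hg
        refine ⟨φ.symm g, fun v w => e.injective ?_, φ.apply_symm_apply g⟩
        rw [← hQ, ← hQ]
        show Q' (e ∘ (((φ.symm g : GL ι K) : Matrix ι ι K) *ᵥ v)) = Q' (e ∘ v)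
        rw [← key]
        have e2 : ((φ.symm g : GL ι K) : Matrix ι ι K).map e = (g : Matrix ι ι F) :=
          congrArg (fun z : GL ι F => (z : Matrix ι ι F)) (φ.apply_symm_apply g)
        rw [e2]
        exact hg (e ∘ v) (e ∘ v)))

/-- a field with a prime number of elements is `ZMod p` -/
theorem exists_zmod_equiv [Fintype F] (p : ℕ) [Fact p.Prime] (hF : Fintype.card F = p) :
    Nonempty (ZMod p ≃+* F) :=
  ⟨ZMod.ringEquivOfPrime F (Fact.out) hF⟩

/-- An isometry group of the right order is the symmetric group. -/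
theorem Model.nonempty_equiv [Finite K] (M : Model K n Q) (hn : 3 ≤ n) (hn4 : 5 ≤ n ∨ (n : K) ≠ 0)
    (hcard : Nat.card (Cfsg.isometryGroup K Q) = n.factorial) :
    Nonempty (Cfsg.isometryGroup K Q ≃* Equiv.Perm (Fin n)) :=
  ⟨(MulEquiv.ofBijective M.hom ((Nat.bijective_iff_injective_and_card M.hom).2
    ⟨M.hom_injective hn hn4, by rw [Nat.card_perm, Nat.card_fin, hcard]⟩)).symm⟩

end Cfsg.Agent.CG26
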