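import Mathlib

/-!
Quadratic form on even subsets.
-/

namespace Cfsg.Agent.CG26

/-- `wt (v) choose 2` -/
def qWt {n : ℕ} (v : Fin n → ZMod 2) : ZMod 2 := (((Finset.univ.filter fun i => v i = 1).card.choose 2 : ℕ) : ZMod 2)

theorem qWt_perm {n : ℕ} (σ : Equiv.Perm (Fin n)) (v : Fin n → ZMod 2) : qWt (fun i => v (σ i)) = qWt v := by
  unfold qWt
  congr 2
  exact Finset.card_equiv σ (by simp)

end Cfsg.Agent.CG26
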