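import Cfsg.Agent.CG26.TSLines
import Cfsg.Agent.Lib.Unitary.Count

/-!
Totally isotropic lines of Hermitian spaces.
-/

namespace Cfsg.Agent.CG26

open Cfsg.Agent.Unitary

variable {F : Type*} [Field F] [Fintype F] {q : ℕ}

/-- the Hermitian form as a `LineForm` -/
noncomputable def hermLine (hF : Fintype.card F = q ^ 2) (n : ℕ) : LineForm F (Fin n → F) where
  f := Cfsg.hermForm n F q
  add_left := herm_add_left
  add_right := herm_add_right hF
  smul_left a u w h := by
    show herm q (a • u) w = 0
    rw [herm_smul_left, show herm q u w = 0 from h, mul_zero]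
  smul_right a u w h := by
    show herm q u (a • w) = 0
    rw [herm_smul_right hF, show herm q u w = 0 from h, mul_zero]
  refl _ _ h := (herm_eq_zero_comm hF).1 h

theorem exists_smul_isotropic (hF : Fintype.card F = q ^ 2) {n : ℕ} {x x' : Fin n → F} (hx0 : x ≠ 0)
    (hx'0 : x' ≠ 0) (hx : herm q x x = 0) (hx' : herm q x' x' = 0) : ∃ g : GU n F q, g • x = x' := by
  classical
  obtain ⟨i, hi⟩ := Function.ne_iff.1 hx0
  let f : (Fin n → F) →ₗ[F] (Fin n → F) :=
    { toFun := fun v => (v i / x i) • x'
      map_add' := fun v w => by rw [Pi.add_apply, add_div, add_smul]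
      map_smul' := fun a v => by rw [Pi.smul_apply, smul_eq_mul, RingHom.id_apply, smul_smul, mul_div_assoc] }
  have hfx : f x = x' := by
    show (x i / x i) • x' = x'
    rw [div_self (by simpa using hi), one_smul]
  obtain ⟨g, -, hg⟩ := exists_fixGU_of_map hF ∅ (F ∙ x) f (by simp) (by simp)
    (fun v hv h => by
      obtain ⟨a, rfl⟩ := Submodule.mem_span_singleton.1 hv
      rw [map_smul, hfx, smul_eq_zero] at h
      rw [h.resolve_right hx'0, zero_smul])
    (fun u hu v hv => by
      obtain ⟨a, rfl⟩ := Submodule.mem_span_singleton.1 hu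
      obtain ⟨b, rfl⟩ := Submodule.mem_span_singleton.1 hv
      rw [map_smul, map_smul, hfx, herm_smul_left, herm_smul_right hF, hx', herm_smul_left,
        herm_smul_right hF, hx])
  exact ⟨g, by rw [hg x (Submodule.mem_span_singleton_self x), hfx]⟩

/-- singular vectors orthogonal to a fixed isotropic point -/
theorem card_singular_perp (hF : Fintype.card F = q ^ 2) (n : ℕ) {v : Fin (n + 2) → F} (hv0 : v ≠ 0)
    (hv : herm q v v = 0) :
    Nat.card {w : Fin (n + 2) → F // herm q v w = 0 ∧ herm q w w = 0} = Nat.card F * nvec n F q 0 := by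
  obtain ⟨c, hc⟩ : ∃ c : F, c ^ (q + 1) = -1 :=
    exists_norm_eq hF (by rw [neg_pow_q hF, one_pow])
  let u : Fin (n + 2) → F := Fin.cons 1 (Fin.cons c 0)
  have hu : herm q u u = 0 := by
    simp only [u, herm_cons, one_pow, hc, herm_zero_left]
    ring
  have hu0 : u ≠ 0 := fun h => by simpa [u] using congrFun h 0
  obtain ⟨g, hg⟩ := exists_smul_isotropic hF hv0 hu0 hv hu
  let e₁ : {w : Fin (n + 2) → F // herm q v w = 0 ∧ herm q w w = 0} ≃
      {w : Fin (n + 2) → F // herm q u w = 0 ∧ herm q w w = 0} :=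
    (MulAction.toPerm g).subtypeEquiv fun w => by
      simp only [MulAction.toPerm_apply]
      rw [← hg, herm_smul_GU, herm_smul_GU]
  rw [Nat.card_congr e₁]
  have hperp : ∀ w : Fin (n + 2) → F, herm q u w = w 0 ^ q + c * w 1 ^ q := by
    intro w
    simp only [herm, hermForm, u, Fin.sum_univ_succ, Fin.cons_zero, Fin.cons_succ]
    simp
  have hnorm : ∀ (b : F) (r : Fin n → F),
      herm q (Fin.cons (-(c ^ q) * b) (Fin.cons b r) : Fin (n + 2) → F)
        (Fin.cons (-(c ^ q) * b) (Fin.cons b r)) = herm q r r := by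
    intro b r
    have e : (-(c ^ q) * b) ^ (q + 1) + b ^ (q + 1) = 0 := by
      have hcq : (c ^ q) ^ (q + 1) = -1 := by rw [← pow_mul, mul_comm, pow_mul, hc, neg_pow_q hF, one_pow]
      have hneg : (-1 : F) ^ (q + 1) = 1 := by
        rw [pow_succ, neg_pow_q hF, one_pow]
        ring
      rw [mul_pow, show -(c ^ q) = (-1) * c ^ q by ring, mul_pow, hneg, hcq]
      ring
    rw [herm_cons, herm_cons, ← add_assoc, e, zero_add]
  let e₂ : {w : Fin (n + 2) → F // herm q u w = 0 ∧ herm q w w = 0} ≃
      F × {r : Fin n → F // herm q r r = 0} :=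
    { toFun := fun w => (w.1 1, ⟨Fin.tail (Fin.tail w.1), by
        have hw0 : w.1 0 = -(c ^ q) * w.1 1 := by
          have h := congrArg (fun x => x ^ q) ((hperp w.1).symm.trans w.2.1)
          simp only [add_pow_q hF, mul_pow, pow_q_pow_q hF, zero_pow_q hF] at h
          linear_combination h
        have hdec : w.1 = Fin.cons (-(c ^ q) * w.1 1) (Fin.cons (w.1 1) (Fin.tail (Fin.tail w.1))) := by
          funext k
          refine Fin.cases ?_ (fun k => ?_) k
          · simpa using hw0
          · refine Fin.cases ?_ (fun k => ?_) k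
            · simp
            · simp [Fin.tail]
        have h2 := w.2.2
        rw [hdec, hnorm] at h2
        exact h2⟩)
      invFun := fun p => ⟨Fin.cons (-(c ^ q) * p.1) (Fin.cons p.1 p.2.1), by
          rw [hperp]
          simp only [Fin.cons_zero, Fin.cons_one]
          rw [mul_pow, neg_pow_q hF, pow_q_pow_q hF]
          ring, by rw [hnorm]; exact p.2.2⟩
      left_inv := fun w => Subtype.ext (by
        funext k
        refine Fin.cases ?_ (fun k => ?_) k
        · have h := congrArg (fun x => x ^ q) ((hperp w.1).symm.trans w.2.1)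
          simp only [add_pow_q hF, mul_pow, pow_q_pow_q hF, zero_pow_q hF] at h
          simp only [Fin.cons_zero]
          linear_combination -h
        · refine Fin.cases ?_ (fun k => ?_) k
          · simp
          · simp [Fin.tail])
      right_inv := fun p => by
        refine Prod.ext (by simp) (Subtype.ext ?_)
        funext k
        simp [Fin.tail] }
  rw [Nat.card_congr e₂, Nat.card_prod]
  rfl

theorem card_hermPlanes (hF : Fintype.card F = q ^ 2) (n : ℕ) {M : ℕ}
    (hM : M * ((q ^ 2) ^ 2 - q ^ 2) = q ^ 2 * nvec n F q 0 - q ^ 2) :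
    Nat.card {W : Submodule F (Fin (n + 2) → F) // (hermLine hF (n + 2)).Plane W} * ((q ^ 2) ^ 2 - 1) =
      (nvec (n + 2) F q 0 - 1) * M := by
  have hQ : Nat.card F = q ^ 2 := by rw [Nat.card_eq_fintype_card, hF]
  have hq2 : 2 ≤ q := two_le_q hF
  have hpos : 0 < (q ^ 2) ^ 2 - q ^ 2 := by
    have h4 : 2 ≤ q ^ 2 := le_trans hq2 (Nat.le_self_pow two_ne_zero q)
    have h5 : q ^ 2 < (q ^ 2) ^ 2 := by nlinarith
    omega
  have h := (hermLine hF (n + 2)).card_planes (M := M) (fun v hv0 hv => by
    have h1 := (hermLine hF (n + 2)).card_through hv0 hv (A := q ^ 2 * nvec n F q 0) (by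
      rw [← hQ]; exact card_singular_perp hF n hv0 hv)
    rw [hQ, ← hM] at h1
    exact Nat.eq_of_mul_eq_mul_right hpos h1)
  rw [hQ] at h
  have h2 := (hermLine hF (n + 2)).card_singular
  have h3 : Nat.card {v : Fin (n + 2) → F // (hermLine hF (n + 2)).f v v = 0} = nvec (n + 2) F q 0 := rfl
  rw [h, show nvec (n + 2) F q 0 - 1 = Nat.card {v : Fin (n + 2) → F //
    v ≠ 0 ∧ (hermLine hF (n + 2)).f v v = 0} by omega]

end Cfsg.Agent.CG26
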