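import Cfsg.Agent.CG26.SL2Inv
import Cfsg.Agent.Classification.FourGroup

/-!
Conjugacy classes of Klein four-subgroups of `PSL₂(q)`, `q` odd.
-/

set_option autoImplicit false

namespace Cfsg.Agent.CG26.KleinClasses

open Matrix

variable {F : Type*} [Field F]

local notation "SL2" => Matrix.SpecialLinearGroup (Fin 2) F
local notation "M2" => Matrix (Fin 2) (Fin 2) F
local notation "PSL2" => Matrix.ProjectiveSpecialLinearGroup (Fin 2) F

/-- The projection. -/
abbrev pr : SL2 →* PSL2 := QuotientGroup.mk' _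

theorem pr_eq_iff (h2 : (2 : F) ≠ 0) (x y : SL2) : pr x = pr y ↔ y = x ∨ y = -x := mk_eq_mk_iff h2 x y

theorem pr_neg (h2 : (2 : F) ≠ 0) (x : SL2) : pr (-x) = pr x :=
  (pr_eq_iff h2 _ _).2 (Or.inr (neg_neg x).symm)

/-- The four-group of two commuting involutions. -/
def four {G : Type*} [Group G] (a b : G) (ha : a * a = 1) (hb : b * b = 1) (hab : a * b = b * a) :
    Subgroup G where
  carrier := {x | x = 1 ∨ x = a ∨ x = b ∨ x = a * b}
  one_mem' := Or.inl rfl
  inv_mem' := by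
    have ia : a⁻¹ = a := inv_eq_of_mul_eq_one_right ha
    have ib : b⁻¹ = b := inv_eq_of_mul_eq_one_right hb
    rintro x (rfl | rfl | rfl | rfl) <;> simp [ia, ib, hab]
  mul_mem' := by
    have e1 : a * (a * b) = b := by rw [← mul_assoc, ha, one_mul]
    have e2 : b * (a * b) = a := by rw [hab, ← mul_assoc, hb, one_mul]
    have e3 : a * b * a = b := by rw [mul_assoc, ← hab, e1]
    have e4 : a * b * b = a := by rw [mul_assoc, hb, mul_one]
    have e5 : a * b * (a * b) = 1 := by rw [← mul_assoc, e3, hb]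
    rintro x y (rfl | rfl | rfl | rfl) (rfl | rfl | rfl | rfl) <;>
      simp [ha, hb, e1, e2, e3, e4, e5, ← hab]

theorem mem_four {G : Type*} [Group G] {a b x : G} {ha : a * a = 1} {hb : b * b = 1}
    {hab : a * b = b * a} : x ∈ four a b ha hb hab ↔ x = 1 ∨ x = a ∨ x = b ∨ x = a * b := Iff.rfl

theorem four_klein {G : Type*} [Group G] {a b : G} (ha : a * a = 1) (hb : b * b = 1)
    (hab : a * b = b * a) (a1 : a ≠ 1) (b1 : b ≠ 1) (ne : a ≠ b) :
    IsKleinFour (four a b ha hb hab) := by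
  classical
  have hc : a * b ≠ 1 := fun e => ne (by
    have := congrArg (· * b) e
    simpa [mul_assoc, hb] using this)
  have hset : ((four a b ha hb hab : Subgroup G) : Set G) = {1, a, b, a * b} := Set.ext fun x => mem_four
  rw [Classification.isKleinFour_iff]
  refine ⟨?_, fun x hx => ?_⟩
  · show Nat.card ((four a b ha hb hab : Subgroup G) : Set G) = 4
    rw [hset, Nat.card_coe_set_eq, Set.ncard_insert_of_notMem, Set.ncard_insert_of_notMem,
      Set.ncard_pair]
    · intro e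
      exact a1 (by simpa using congrArg (· * b⁻¹) e.symm)
    · simp [ne, b1]
    · simp [Ne.symm a1, Ne.symm b1, Ne.symm hc]
  · have h5 : a * b * (a * b) = 1 := by
      rw [mul_assoc, ← mul_assoc b, ← hab, mul_assoc a b b, hb, mul_one, ha]
    rcases hx with rfl | rfl | rfl | rfl <;> simp [pow_two, ha, hb, h5]

section Finite

variable [Fintype F] (h2 : (2 : F) ≠ 0)

include h2

theorem pr_ne_one {x : SL2} (hx : x * x = -1) : pr x ≠ 1 := fun h => by
  rcases (pr_eq_iff h2 x 1).1 (by rw [h, map_one]) with e | e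
  · rw [← e, one_mul] at hx; exact neg_one_ne h2 hx.symm
  · rw [show x = -1 by rw [e, neg_neg]] at hx
    simp at hx
    exact neg_one_ne h2 hx.symm

theorem anti_sq {y : SL2} (hy : y * jj = -(jj * y)) : y * y = -1 := by
  obtain ⟨a, b, h, rfl⟩ := (mem_anti_iff h2 _).1 hy
  exact flp_sq a b h

theorem anti_comm {y : SL2} (hy : y * jj = -(jj * y)) :
    pr (jj : SL2) * pr y = pr y * pr (jj : SL2) := by
  rw [← map_mul, ← map_mul, hy, pr_neg h2]

theorem pr_sq {y : SL2} (hy : y * y = -1) : pr y * pr y = 1 := by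
  rw [← map_mul, hy, pr_neg h2, map_one]

/-- The four-group attached to an element inverting `jj`. -/
def V {y : SL2} (hy : y * jj = -(jj * y)) : Subgroup PSL2 :=
  four (pr jj) (pr y) (pr_sq h2 jj_sq) (pr_sq h2 (anti_sq h2 hy)) (anti_comm h2 hy)

theorem jj_ne_anti {y : SL2} (hy : y * jj = -(jj * y)) : pr (jj : SL2) ≠ pr y := by
  intro h
  have e1 := jj_sq (F := F)
  apply neg_one_ne h2
  rcases (pr_eq_iff h2 _ _).1 h with rfl | rfl
  · rw [e1, neg_neg] at hy; exact hy
  · rw [neg_mul, mul_neg, e1, neg_neg] at hy; exact hy.symm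

theorem V_klein {y : SL2} (hy : y * jj = -(jj * y)) : IsKleinFour (V h2 hy) :=
  four_klein _ _ _ (pr_ne_one h2 jj_sq) (pr_ne_one h2 (anti_sq h2 hy)) (jj_ne_anti h2 hy)

/-- Conjugation of the whole four-group. -/
theorem eq_map_V {W : Subgroup PSL2} (hW : IsKleinFour W) {y : SL2} (hy : y * jj = -(jj * y))
    (g : PSL2) (h1 : g * pr jj * g⁻¹ ∈ W) (h2' : g * pr y * g⁻¹ ∈ W) :
    W = (V h2 hy).map (MulAut.conj g).toMonoidHom := by
  have hle : (V h2 hy).map (MulAut.conj g).toMonoidHom ≤ W := by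
    rintro _ ⟨x, hx, rfl⟩
    rcases hx with rfl | rfl | rfl | rfl
    · simp
    · exact h1
    · exact h2'
    · rw [map_mul]; exact mul_mem h1 h2'
  haveI : Finite W := Nat.finite_of_card_ne_zero (by rw [hW.card_four]; norm_num)
  refine (Subgroup.eq_of_le_of_card_ge hle ?_).symm
  rw [hW.card_four]
  exact (Classification.isKleinFour_cj g (V_klein h2 hy)).card_four.ge

theorem mul_anti {y c : SL2} (hy : y * jj = -(jj * y)) (hc : c ∈ cent) :
    c * y * jj = -(jj * (c * y)) := by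
  rw [mul_assoc, hy, mul_neg, ← mul_assoc, mem_cent.1 hc, mul_assoc]

theorem anti_conj {y c : SL2} (hy : y * jj = -(jj * y)) (hc : c ∈ cent) : y * c = c⁻¹ * y := by
  have e := (anti_sq h2 (mul_anti h2 hy hc)).trans (anti_sq h2 hy).symm
  rw [← mul_assoc, mul_left_inj] at e
  rw [eq_inv_mul_iff_mul_eq, ← mul_assoc]
  exact e

theorem cent_comm {c d : SL2} (hc : c ∈ cent) (hd : d ∈ cent) : c * d = d * c := by
  obtain ⟨a, b, h, rfl⟩ := (mem_cent_iff h2 _).1 (mem_cent.1 hc)
  obtain ⟨a', b', h', rfl⟩ := (mem_cent_iff h2 _).1 (mem_cent.1 hd)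
  apply sl_ext <;> simp [rot_coe, Matrix.mul_apply, Fin.sum_univ_two] <;> ring

theorem conj_anti {y d : SL2} (hy : y * jj = -(jj * y)) (hd : d ∈ cent) :
    d * y * d⁻¹ = d * d * y := by
  rw [mul_assoc, anti_conj h2 hy (inv_mem hd), inv_inv, mul_assoc]

/-- The squares in the centraliser of `jj`. -/
theorem sq_dichotomy : ∀ c ∈ (cent : Subgroup SL2), ∀ c' ∈ (cent : Subgroup SL2),
    (¬ ∃ d ∈ (cent : Subgroup SL2), d * d = c) → (¬ ∃ d ∈ (cent : Subgroup SL2), d * d = c') →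
      ∃ d ∈ (cent : Subgroup SL2), d * d = c' * c := by
  classical
  let f : (cent : Subgroup SL2) →* (cent : Subgroup SL2) :=
    { toFun := fun x => x * x
      map_one' := mul_one 1
      map_mul' := fun x y => Subtype.ext (by
        have := cent_comm h2 x.2 y.2
        show (x.1 * y.1) * (x.1 * y.1) = x.1 * x.1 * (y.1 * y.1)
        rw [mul_assoc, ← mul_assoc y.1, ← this, mul_assoc x.1 y.1 y.1, mul_assoc]) }
  have hker : Nat.card f.ker = 2 := by
    have hset : (f.ker : Set (cent : Subgroup SL2)) = {1, ⟨-1, neg_one_mem_cent⟩} := Set.ext fun x => by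
      show f x = 1 ↔ _
      refine ⟨fun h => ?_, ?_⟩
      · exact ((sq_eq_one_iff h2 x.1).1 (congrArg Subtype.val h)).imp Subtype.ext Subtype.ext
      · rintro (rfl | rfl) <;> exact Subtype.ext (by simp [f])
    show Nat.card (f.ker : Set (cent : Subgroup SL2)) = 2
    rw [hset, Nat.card_coe_set_eq,
      Set.ncard_pair fun e => neg_one_ne h2 (congrArg Subtype.val e).symm]
  have hidx : f.range.index = 2 := by
    have h1 := f.range.card_mul_index
    have h2' := Subgroup.card_mul_index f.ker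
    rw [Subgroup.index_ker, hker] at h2'
    rw [← h2', mul_comm 2] at h1
    exact Nat.eq_of_mul_eq_mul_left Nat.card_pos h1
  intro c hc c' hc' hn hn'
  obtain ⟨d, hd⟩ : (⟨c', hc'⟩ * ⟨c, hc⟩ : (cent : Subgroup SL2)) ∈ f.range := by
    rw [Subgroup.mul_mem_iff_of_index_two hidx]
    exact iff_of_false (fun ⟨d, hd⟩ => hn' ⟨d, d.2, congrArg Subtype.val hd⟩)
      (fun ⟨d, hd⟩ => hn ⟨d, d.2, congrArg Subtype.val hd⟩)
  exact ⟨d, d.2, congrArg Subtype.val hd⟩

theorem jj_sq_iff : (∃ d ∈ (cent : Subgroup SL2), d * d = jj) ↔ IsSquare (2 : F) := by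
  constructor
  · rintro ⟨d, hd, e⟩
    obtain ⟨a, b, h, rfl⟩ := (mem_cent_iff h2 _).1 (mem_cent.1 hd)
    have e1 := congrArg (fun z : SL2 => (z : M2) 0 0) e
    have e2 := congrArg (fun z : SL2 => (z : M2) 1 0) e
    simp [rot_coe, jj_coe, Matrix.mul_apply, Fin.sum_univ_two] at e1 e2
    refine ⟨(a + b)⁻¹ * 2, ?_⟩
    have hab : (a + b) ^ 2 = 2 := by linear_combination h + e2
    have hne : a + b ≠ 0 := fun e => h2 (by rw [← hab, e]; ring)
    field_simp
    linear_combination hab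
  · rintro ⟨s, hs⟩
    have hs0 : s ≠ 0 := fun e => h2 (by rw [hs, e, mul_zero])
    refine ⟨rot s⁻¹ s⁻¹ (by field_simp; linear_combination hs), mem_cent.2 ((mem_cent_iff h2 _).2
      ⟨_, _, by field_simp; linear_combination hs, rfl⟩), ?_⟩
    apply sl_ext <;> simp [rot_coe, jj_coe, Matrix.mul_apply, Fin.sum_univ_two] <;> field_simp <;>
      first | ring1 | linear_combination -hs | linear_combination hs | linear_combination 2 * hs | linear_combination -2 * hs

/-- An element of order three cycling `jj`, `y`, `jj y`. -/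
theorem exists_cycle {y : SL2} (hy : y * jj = -(jj * y)) :
    ∃ r : SL2, r * jj = y * r ∧ r * y = jj * y * r ∧ r * (jj * y) = jj * r := by
  obtain ⟨a, b, h, rfl⟩ := (mem_anti_iff h2 _).1 hy
  let R : M2 := (-(2 : F)⁻¹) • !![1 + a - b, -1 + b + a; 1 + b + a, 1 - a + b]
  have hR : R.det = 1 := by
    simp [R, Matrix.det_fin_two]
    field_simp
    linear_combination (-2 : F) * h
  let r : SL2 := ⟨R, hR⟩
  have hr : (r : M2) = R := rfl
  refine ⟨r, ?_, ?_, ?_⟩ <;>
    apply sl_ext <;> simp [hr, R, flp_coe, jj_coe, Matrix.mul_apply, Fin.sum_univ_two] <;> grind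

/-- Every four-group is conjugate to a standard one. -/
theorem exists_std {y₀ : SL2} (hy₀ : y₀ * jj = -(jj * y₀)) {W : Subgroup PSL2} (hW : IsKleinFour W) :
    ∃ (g : PSL2) (c : SL2) (hc : c ∈ cent),
      W = (V h2 (mul_anti h2 hy₀ hc)).map (MulAut.conj g).toMonoidHom := by
  haveI : Finite W := Nat.finite_of_card_ne_zero (by rw [hW.card_four]; norm_num)
  haveI : Nontrivial W := Finite.one_lt_card_iff_nontrivial.1 (by rw [hW.card_four]; norm_num)
  obtain ⟨⟨a, ha⟩, ha1⟩ := exists_ne (1 : W)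
  have ha1' : a ≠ 1 := fun e => ha1 (Subtype.ext e)
  obtain ⟨⟨b, hb⟩, hb1, hba⟩ : ∃ b : W, b ≠ 1 ∧ b ≠ ⟨a, ha⟩ := by
    by_contra hcon
    push Not at hcon
    have hsub : (Set.univ : Set W) ⊆ {1, ⟨a, ha⟩} := fun b _ =>
      (em (b = 1)).imp id (hcon b)
    have := Set.ncard_le_ncard hsub
    rw [Set.ncard_univ, hW.card_four, Set.ncard_pair (Ne.symm ha1)] at this
    omega
  have hsq : ∀ x ∈ W, x ^ 2 = 1 := fun x hx => Classification.isKleinFour_sq hW hx
  obtain ⟨x, rfl, hx⟩ := exists_lift_sq h2 (orderOf_eq_prime (hsq a ha) ha1')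
  obtain ⟨g, rfl⟩ := exists_conj_jj h2 x hx
  obtain ⟨z, rfl, hz⟩ := exists_lift_sq h2 (orderOf_eq_prime (hsq b hb) (fun e => hb1 (Subtype.ext e)))
  set y := g⁻¹ * z * g with hy
  have hyy : y * y = -1 := by
    rw [hy, show g⁻¹ * z * g * (g⁻¹ * z * g) = g⁻¹ * (z * z) * g by group, hz]; simp
  have hzy : z = g * y * g⁻¹ := by rw [hy]; group
  have hcomm := Classification.isKleinFour_comm hW ha hb
  rw [hzy, ← QuotientGroup.mk_mul, ← QuotientGroup.mk_mul,
    show g * jj * g⁻¹ * (g * y * g⁻¹) = g * (jj * y) * g⁻¹ by group,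
    show g * y * g⁻¹ * (g * jj * g⁻¹) = g * (y * jj) * g⁻¹ by group, mk_eq_mk_iff h2] at hcomm
  have hanti : y * jj = -(jj * y) := by
    rcases hcomm with h | h
    · exfalso
      have hc : y * jj = jj * y := mul_left_cancel (mul_right_cancel h)
      have h1 : (y * jj) * (y * jj) = 1 := by
        rw [mul_assoc, ← mul_assoc jj, ← hc, mul_assoc y jj jj, jj_sq, ← mul_assoc, hyy]; simp
      apply hba
      apply Subtype.ext
      show (QuotientGroup.mk z : PSL2) = QuotientGroup.mk _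
      rw [hzy, mk_eq_mk_iff h2]
      rcases (sq_eq_one_iff h2 _).1 h1 with e | e
      · right
        rw [show y = -jj by
          rw [← mul_one y, show (1 : SL2) = -(jj * jj) by rw [jj_sq, neg_neg], mul_neg,
            ← mul_assoc, e, one_mul]]
        simp
      · left
        rw [show y = jj by
          rw [← mul_one y, show (1 : SL2) = -(jj * jj) by rw [jj_sq, neg_neg], mul_neg,
            ← mul_assoc, e]; simp]
    · rw [show -(g * (jj * y) * g⁻¹) = g * -(jj * y) * g⁻¹ by simp] at h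
      exact mul_left_cancel (mul_right_cancel h)
  have hc : y * y₀⁻¹ ∈ cent := by
    have h' : y₀⁻¹ * jj = -(jj * y₀⁻¹) := by
      rw [inv_eq_of_mul_eq_one_right (show y₀ * -y₀ = 1 by rw [mul_neg, anti_sq h2 hy₀, neg_neg])]
      simp [hy₀]
    rw [mem_cent, mul_assoc, h', mul_neg, ← mul_assoc, hanti, neg_mul, neg_neg, mul_assoc]
  refine ⟨pr g, _, hc, eq_map_V h2 hW _ _ ?_ ?_⟩
  · rw [← map_inv, ← map_mul, ← map_mul]; exact ha
  · rw [inv_mul_cancel_right, ← map_inv, ← map_mul, ← map_mul, ← hzy]; exact hb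

omit h2 [Fintype F] in
theorem map_map_conj {G : Type*} [Group G] (a b : G) (H : Subgroup G) :
    (H.map (MulAut.conj b).toMonoidHom).map (MulAut.conj a).toMonoidHom =
      H.map (MulAut.conj (a * b)).toMonoidHom := Classification.cj_mul a b H

/-- A square twist does not change the class. -/
theorem exists_conj_of_sq {y₀ c c₁ : SL2} (hy₀ : y₀ * jj = -(jj * y₀)) (hc : c ∈ cent) (hc₁ : c₁ ∈ cent)
    (h : ∃ d ∈ (cent : Subgroup SL2), d * d * c₁ = c) :
    ∃ g : PSL2, V h2 (mul_anti h2 hy₀ hc) =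
      (V h2 (mul_anti h2 hy₀ hc₁)).map (MulAut.conj g).toMonoidHom := by
  obtain ⟨d, hd, rfl⟩ := h
  refine ⟨pr d, eq_map_V h2 (V_klein h2 _) _ _ ?_ ?_⟩
  · rw [← map_inv, ← map_mul, ← map_mul, mem_cent.1 hd, mul_inv_cancel_right]
    exact mem_four.2 (Or.inr (Or.inl rfl))
  · rw [← map_inv, ← map_mul, ← map_mul, conj_anti h2 (mul_anti h2 hy₀ hc₁) hd, ← mul_assoc]
    exact mem_four.2 (Or.inr (Or.inr (Or.inl rfl)))

theorem classes_one (hns : ¬ IsSquare (2 : F)) (V₁ W : Subgroup PSL2) (hV : IsKleinFour V₁)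
    (hW : IsKleinFour W) : ∃ g : PSL2, W = V₁.map (MulAut.conj g).toMonoidHom := by
  obtain ⟨y₀, hy₀⟩ := exists_flp (F := F) h2
  have hnj : ¬ ∃ d ∈ (cent : Subgroup SL2), d * d = jj := fun h => hns ((jj_sq_iff h2).1 h)
  have one : ∀ W : Subgroup PSL2, IsKleinFour W → ∃ g : PSL2,
      W = (V h2 hy₀).map (MulAut.conj g).toMonoidHom := by
    intro W hW
    obtain ⟨g, c, hc, rfl⟩ := exists_std h2 hy₀ hW
    by_cases h : ∃ d ∈ (cent : Subgroup SL2), d * d = c
    · obtain ⟨d, hd, rfl⟩ := h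
      obtain ⟨k, hk⟩ := exists_conj_of_sq h2 hy₀ hc (one_mem _) ⟨d, hd, mul_one _⟩
      refine ⟨g * k, ?_⟩
      rw [hk, map_map_conj]
      simp only [one_mul]
    · obtain ⟨d, hd, e⟩ := sq_dichotomy h2 c hc jj jj_mem_cent h hnj
      refine ⟨g * pr d, ?_⟩
      rw [← map_map_conj]
      congr 1
      refine eq_map_V h2 (V_klein h2 _) _ _ ?_ ?_
      · rw [← map_inv, ← map_mul, ← map_mul, mem_cent.1 hd, mul_inv_cancel_right]
        exact mem_four.2 (Or.inr (Or.inl rfl))
      · rw [← map_inv, ← map_mul, ← map_mul, conj_anti h2 hy₀ hd, e, mul_assoc, map_mul]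
        exact mem_four.2 (Or.inr (Or.inr (Or.inr rfl)))
  obtain ⟨a, ha⟩ := one V₁ hV
  obtain ⟨b, hb⟩ := one W hW
  refine ⟨b * a⁻¹, ?_⟩
  rw [ha, map_map_conj, inv_mul_cancel_right]
  exact hb

theorem classes_two (hs : IsSquare (2 : F)) :
    ∃ V₁ V₂ : Subgroup PSL2, IsKleinFour V₁ ∧ IsKleinFour V₂ ∧
      (¬ ∃ g : PSL2, V₂ = V₁.map (MulAut.conj g).toMonoidHom) ∧
      ∀ W : Subgroup PSL2, IsKleinFour W → (∃ g : PSL2, W = V₁.map (MulAut.conj g).toMonoidHom) ∨
        (∃ g : PSL2, W = V₂.map (MulAut.conj g).toMonoidHom) := by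
  classical
  obtain ⟨y₀, hy₀⟩ := exists_flp (F := F) h2
  obtain ⟨j₀, hj₀, hjj⟩ := (jj_sq_iff h2).2 hs
  obtain ⟨c₁, hc₁, hn₁⟩ : ∃ c ∈ (cent : Subgroup SL2), ¬ ∃ d ∈ (cent : Subgroup SL2), d * d = c := by
    by_contra hall
    push Not at hall
    let sq' : ↥(cent : Subgroup SL2) → ↥(cent : Subgroup SL2) := fun x => x * x
    have hsurj : Function.Surjective sq' := fun c => by
      obtain ⟨d, hd, e⟩ := hall c.1 c.2
      exact ⟨⟨d, hd⟩, Subtype.ext e⟩
    have hinj := Finite.injective_iff_surjective.2 hsurj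
    have := @hinj ⟨-1, neg_one_mem_cent⟩ 1 (Subtype.ext (by simp [sq']))
    exact neg_one_ne h2 (congrArg Subtype.val this)
  set y := c₁ * y₀ with hy
  have hyA : y * jj = -(jj * y) := mul_anti h2 hy₀ hc₁
  refine ⟨V h2 hy₀, V h2 hyA, V_klein h2 _, V_klein h2 _, ?_, fun W hW => ?_⟩
  · rintro ⟨g, hg⟩
    obtain ⟨s, rfl⟩ := QuotientGroup.mk'_surjective _ g
    obtain ⟨r, r1, r2, r3⟩ := exists_cycle h2 hyA
    have himg : ∀ x, pr x ∈ V h2 hy₀ → pr (s * x * s⁻¹) ∈ V h2 hyA := fun x hx => by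
      rw [hg]; exact ⟨_, hx, by simp [MulAut.conj_apply]⟩
    -- normalisers of the target four-group
    have hr : ∀ x, pr x ∈ V h2 hyA → pr (r * x * r⁻¹) ∈ V h2 hyA := by
      intro x hx
      rw [map_mul, map_mul, map_inv]
      rcases hx with h | h | h | h <;> rw [h]
      · simp
      · rw [← map_inv, ← map_mul, ← map_mul, r1, mul_inv_cancel_right]; exact Or.inr (Or.inr (Or.inl rfl))
      · rw [← map_inv, ← map_mul, ← map_mul, r2, mul_inv_cancel_right, map_mul]
        exact Or.inr (Or.inr (Or.inr rfl))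
      · rw [← map_mul, ← map_inv, ← map_mul, ← map_mul, r3, mul_inv_cancel_right]
        exact Or.inr (Or.inl rfl)
    have key : ∀ s : SL2, pr (s * jj * s⁻¹) = pr jj →
        pr (s * y₀ * s⁻¹) ∈ V h2 hyA → False := by
      intro s hs1 hs2
      obtain ⟨t, ht, ht2⟩ : ∃ t ∈ (cent : Subgroup SL2), pr (t * y₀ * t⁻¹) ∈ V h2 hyA := by
        rcases (pr_eq_iff h2 _ _).1 hs1 with e | e
        · exact ⟨s, mem_cent.2 (mul_inv_eq_iff_eq_mul.1 e.symm), hs2⟩
        · refine ⟨s * y₀, mem_cent.2 ?_, by rwa [show s * y₀ * y₀ * (s * y₀)⁻¹ = s * y₀ * s⁻¹ by group]⟩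
          have e'' : s * jj * s⁻¹ = -jj := (neg_eq_iff_eq_neg.2 e).symm
          have e' : s * jj = -(jj * s) := by rw [← neg_mul, ← mul_inv_eq_iff_eq_mul, e'']
          rw [mul_assoc, hy₀, mul_neg, ← mul_assoc, e', neg_mul, neg_neg, mul_assoc]
      rw [conj_anti h2 hy₀ ht] at ht2
      have htt : t * t ∈ cent := mul_mem ht ht
      have hA := mul_anti h2 hy₀ htt
      rcases ht2 with h | h | h | h
      · exact pr_ne_one h2 (anti_sq h2 hA) h
      · exact jj_ne_anti h2 hA h.symm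
      · rcases (pr_eq_iff h2 _ _).1 h with e | e
        · exact hn₁ ⟨t, ht, (mul_right_cancel e).symm⟩
        · rw [hy, ← neg_mul] at e
          exact hn₁ ⟨t * jj, mul_mem ht jj_mem_cent, by
            rw [mul_right_cancel e, show t * jj * (t * jj) = t * (jj * t) * jj by group, ← mem_cent.1 ht,
              show t * (t * jj) * jj = t * t * (jj * jj) by group, jj_sq, mul_neg, mul_one]⟩
      · rw [← map_mul, hy, ← mul_assoc] at h
        rcases (pr_eq_iff h2 _ _).1 h with e | e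
        · exact hn₁ ⟨t * j₀⁻¹, mul_mem ht (inv_mem hj₀), by
            have e' : jj * c₁ = t * t := mul_right_cancel e
            rw [show t * j₀⁻¹ * (t * j₀⁻¹) = t * (j₀⁻¹ * t) * j₀⁻¹ by group,
              cent_comm h2 (inv_mem hj₀) ht,
              show t * (t * j₀⁻¹) * j₀⁻¹ = (t * t) * (j₀ * j₀)⁻¹ by group, ← e', hjj,
              cent_comm h2 jj_mem_cent hc₁, mul_inv_cancel_right]⟩
        · rw [← neg_mul] at e
          exact hn₁ ⟨t * j₀, mul_mem ht hj₀, by
            have e' : jj * c₁ = -(t * t) := mul_right_cancel e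
            rw [show t * j₀ * (t * j₀) = t * (j₀ * t) * j₀ by group, cent_comm h2 hj₀ ht,
              show t * (t * j₀) * j₀ = (t * t) * (j₀ * j₀) by group, hjj,
              show t * t = -(jj * c₁) by rw [e', neg_neg], neg_mul, cent_comm h2 jj_mem_cent hc₁,
              mul_assoc, jj_sq]
            simp⟩
    have hJ : pr (jj : SL2) ∈ V h2 hy₀ := Or.inr (Or.inl rfl)
    have hY : pr y₀ ∈ V h2 hy₀ := Or.inr (Or.inr (Or.inl rfl))
    rcases himg _ hJ with h | h | h | h
    · exact pr_ne_one h2 (by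
        rw [show s * jj * s⁻¹ * (s * jj * s⁻¹) = s * (jj * jj) * s⁻¹ by group, jj_sq]; simp) h
    · exact key s h (himg _ hY)
    · refine key (r * (r * s)) ?_ ?_
      · rw [show r * (r * s) * jj * (r * (r * s))⁻¹ = r * (r * (s * jj * s⁻¹) * r⁻¹) * r⁻¹ by group,
          map_mul, map_mul, map_inv, map_mul, map_mul, map_inv, h, ← map_inv, ← map_mul, ← map_mul, r2,
          mul_inv_cancel_right, ← map_mul, ← map_mul, r3, mul_inv_cancel_right]
      · rw [show r * (r * s) * y₀ * (r * (r * s))⁻¹ = r * (r * (s * y₀ * s⁻¹) * r⁻¹) * r⁻¹ by group]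
        exact hr _ (hr _ (himg _ hY))
    · refine key (r * s) ?_ ?_
      · rw [show r * s * jj * (r * s)⁻¹ = r * (s * jj * s⁻¹) * r⁻¹ by group, map_mul, map_mul, map_inv,
          h, ← map_mul, ← map_inv, ← map_mul, ← map_mul, r3, mul_inv_cancel_right]
      · rw [show r * s * y₀ * (r * s)⁻¹ = r * (s * y₀ * s⁻¹) * r⁻¹ by group]
        exact hr _ (himg _ hY)
  · obtain ⟨g, c, hc, rfl⟩ := exists_std h2 hy₀ hW
    by_cases h : ∃ d ∈ (cent : Subgroup SL2), d * d = c
    · obtain ⟨d, hd, rfl⟩ := h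
      obtain ⟨k, hk⟩ := exists_conj_of_sq h2 hy₀ hc (one_mem _) ⟨d, hd, mul_one _⟩
      refine Or.inl ⟨g * k, ?_⟩
      rw [hk, map_map_conj]
      simp only [one_mul]
    · have hn' : ¬ ∃ d ∈ (cent : Subgroup SL2), d * d = c₁⁻¹ := fun ⟨d, hd, e⟩ =>
        hn₁ ⟨d⁻¹, inv_mem hd, by rw [← _root_.mul_inv_rev, e, inv_inv]⟩
      obtain ⟨d, hd, e⟩ := sq_dichotomy h2 c₁⁻¹ (inv_mem hc₁) c hc hn' h
      obtain ⟨k, hk⟩ := exists_conj_of_sq h2 hy₀ hc hc₁ ⟨d, hd, by rw [e, inv_mul_cancel_right]⟩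
      exact Or.inr ⟨g * k, by rw [hk, map_map_conj]⟩

end Finite

end Cfsg.Agent.CG26.KleinClasses
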