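import Cfsg.Agent.CG26.PSpLB
import Cfsg.Agent.FieldAutGen.Odd
import Cfsg.Agent.Lib.UnitaryOrthogonal.OmegaStandard

/-!
Local balance in almost simple groups with odd-dimensional orthogonal socle.
-/

set_option autoImplicit false

namespace Cfsg.Agent.CG26.OddLB

open Matrix QuadraticMap
open Cfsg.Agent.AutPSL (fieldMap scalarGL Induced act)
open Cfsg.Agent.FieldAutGen Cfsg.Agent.FieldAutGen.Orth
open Cfsg.Agent.FieldAutGen.Odd (qf qf_apply qf_e0 qf_nondeg qf_map qf_sigma frame H e0 Idx)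
open Cfsg.Agent.CG26.PSpLB (Fix mem_fix)

universe u v

/-- The group `Ω_{2m+1}(F)`. -/
abbrev Om (m : ℕ) (F : Type u) [Field F] : Type u := ↥(Cfsg.Omega F (Cfsg.quadFormOdd m F))

/-- The group `PΩ_{2m+1}(F)`. -/
abbrev PG (m : ℕ) (F : Type u) [Field F] : Type u := Cfsg.POmega F (Cfsg.quadFormOdd m F)

variable {m : ℕ} {F : Type u} [Field F]

/-- The inclusion into the matrices. -/
abbrev ro (m : ℕ) (F : Type u) [Field F] : Om m F →* GL (Idx m) F := rho (Cfsg.quadFormOdd m F)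

/-- The projection. -/
abbrev pi (m : ℕ) (F : Type u) [Field F] : Om m F →* PG m F := QuotientGroup.mk' _

section rational

/-- Vectors with fixed coordinates. -/
def Rat (σ : F ≃+* F) (v : Idx m → F) : Prop := ∀ j, σ (v j) = v j

theorem rat_single (σ : F ≃+* F) (i : Idx m) : Rat σ (Pi.single i 1 : Idx m → F) := fun j => by
  by_cases h : j = i <;> simp [h]

theorem Rat.add {σ : F ≃+* F} {v w : Idx m → F} (hv : Rat σ v) (hw : Rat σ w) : Rat σ (v + w) :=
  fun j => by simp [hv j, hw j]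

theorem Rat.sub {σ : F ≃+* F} {v w : Idx m → F} (hv : Rat σ v) (hw : Rat σ w) : Rat σ (v - w) :=
  fun j => by simp [hv j, hw j]

theorem Rat.smul {σ : F ≃+* F} {v : Idx m → F} {t : F} (hv : Rat σ v) (ht : σ t = t) :
    Rat σ (t • v) := fun j => by simp [hv j, ht]

theorem rat_e (σ : F ≃+* F) (i : Fin m) : Rat σ ((frame m F).e i) := rat_single σ _

theorem rat_f (σ : F ≃+* F) (i : Fin m) : Rat σ ((frame m F).f i) := rat_single σ _

theorem rat_e0 (σ : F ≃+* F) : Rat σ (e0 m F) := rat_single σ _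

/-- A semilinear map commuting with the rational Siegel transformations is a scalar. -/
theorem scalar_of_rat (hm : 3 ≤ m) (σ : F ≃+* F) (g : GL (Idx m) F) (τ : F ≃+* F)
    (hcomm : ∀ u v : Idx m → F, Rat σ u → Rat σ v → qf m F u = 0 → qf m F v = 0 →
      polar ⇑(qf m F) u v = 0 → ∀ x : Idx m → F,
        (g : Matrix (Idx m) (Idx m) F) *ᵥ (τ ∘ (Cfsg.siegelMatrix ⇑(qf m F) u v 1 *ᵥ x)) =
          Cfsg.siegelMatrix ⇑(qf m F) u v 1 *ᵥ ((g : Matrix (Idx m) (Idx m) F) *ᵥ (τ ∘ x))) :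
    (∀ t, σ t = t → τ t = t) ∧ ∃ c : Fˣ, g = scalarGL (Idx m) c := by
  classical
  set T : (Idx m → F) → (Idx m → F) := fun x => (g : Matrix (Idx m) (Idx m) F) *ᵥ (τ ∘ x) with hT
  have Tadd : ∀ x y, T (x + y) = T x + T y := fun x y => by
    show (g : Matrix (Idx m) (Idx m) F) *ᵥ _ = _
    rw [← mulVec_add]; congr 1; funext i; exact map_add τ _ _
  have Tsmul : ∀ (t : F) x, T (t • x) = τ t • T x := fun t x => by
    show (g : Matrix (Idx m) (Idx m) F) *ᵥ _ = _
    rw [← mulVec_smul]; congr 1; funext i; exact map_mul τ _ _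
  have Tsub : ∀ x y, T (x - y) = T x - T y := fun x y => by
    have h := Tadd (x - y) y
    rw [sub_add_cancel] at h
    rw [h, add_sub_cancel_right]
  have Tne : ∀ x, x ≠ 0 → T x ≠ 0 := fun x hx h => by
    have h1 := congrArg (((g⁻¹ : GL (Idx m) F) : Matrix (Idx m) (Idx m) F) *ᵥ ·) h
    simp only [hT, mulVec_mulVec, ← Units.val_mul, inv_mul_cancel, Units.val_one, one_mulVec,
      mulVec_zero] at h1
    exact hx (funext fun i => τ.injective ((congrFun h1 i).trans (map_zero τ).symm))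
  have plane : ∀ u v d, Rat σ u → Rat σ v → qf m F u = 0 → qf m F v = 0 →
      polar ⇑(qf m F) u v = 0 → polar ⇑(qf m F) v d = 1 → polar ⇑(qf m F) u d = 0 →
      ∃ p q : F, T u = p • u + q • v := by
    intro u v d hru hrv hu hv huv hvd hud
    have h := hcomm u v hru hrv hu hv huv d
    rw [Reflections.siegel_mulVec, Reflections.siegel_mulVec, one_mul, one_mul, hvd, hud, zero_smul,
      add_zero, one_smul] at h
    change T (d - u) = T d + _ - _ at h
    rw [Tsub] at h
    refine ⟨1 * polar ⇑(qf m F) v (T d), -(1 * polar ⇑(qf m F) u (T d)), ?_⟩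
    linear_combination (norm := module) -h
  have line : ∀ (u : Idx m → F) (l : Fin m), Rat σ u → qf m F u = 0 →
      polar ⇑(qf m F) u ((frame m F).e l) = 0 → polar ⇑(qf m F) u ((frame m F).f l) = 0 → ∃ a : F, T u = a • u := by
    intro u l hr hu hue huf
    obtain ⟨p, q, h1⟩ := plane u ((frame m F).e l) ((frame m F).f l) hr (rat_e σ l) hu ((frame m F).Qe l) hue
      (by rw [(frame m F).ef, if_pos rfl]) huf
    obtain ⟨p', q', h2⟩ := plane u ((frame m F).f l) ((frame m F).e l) hr (rat_f σ l) hu ((frame m F).Qf l) huf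
      (by rw [(frame m F).fe, if_pos rfl]) hue
    have hq : q = 0 := by
      have h3 := congrArg (fun y => polar ⇑(qf m F) y ((frame m F).f l)) (h1.symm.trans h2)
      simp only [polar_add_left, polar_smul_left, huf, (frame m F).ef, (frame m F).ff', smul_eq_mul, if_true] at h3
      linear_combination h3
    exact ⟨p, by rw [h1, hq, zero_smul, add_zero]⟩
  have hne : ∀ {x y : Idx m → F}, polar ⇑(qf m F) x y ≠ 0 → x ≠ 0 := fun {x y} h e => h (by
    rw [e, QuadraticMap.polar_zero_left])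
  have i₀ : Fin m := ⟨0, by omega⟩
  have he : ∀ i, ∃ a : F, a ≠ 0 ∧ T ((frame m F).e i) = a • (frame m F).e i := fun i => by
    obtain ⟨l, hl, -⟩ := exists_ne_ne hm i i
    obtain ⟨a, ha⟩ := line ((frame m F).e i) l (rat_e σ i) ((frame m F).Qe i) ((frame m F).ee' i l)
      (by rw [(frame m F).ef, if_neg (Ne.symm hl)])
    refine ⟨a, fun h0 => Tne ((frame m F).e i) (hne (y := (frame m F).f i) (by simp [(frame m F).ef])) ?_, ha⟩
    rw [ha, h0, zero_smul]
  have hf : ∀ i, ∃ a : F, T ((frame m F).f i) = a • (frame m F).f i := fun i => by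
    obtain ⟨l, hl, -⟩ := exists_ne_ne hm i i
    exact line ((frame m F).f i) l (rat_f σ i) ((frame m F).Qf i) (by rw [(frame m F).fe, if_neg hl]) ((frame m F).ff' i l)
  choose a ha0 ha using he
  choose b hb using hf
  have key : ∀ i j, i ≠ j → ∀ t : F, σ t = t → τ t * a j = a i * t := by
    intro i j hij t ht
    obtain ⟨l, hli, hlj⟩ := exists_ne_ne hm i j
    have hu : qf m F ((frame m F).e i + t • (frame m F).e j) = 0 := by
      rw [Reflections.map_add', Reflections.map_smul', (frame m F).Qe, (frame m F).Qe, polar_smul_right, (frame m F).ee i j hij,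
        smul_zero]
      ring
    obtain ⟨c, hc⟩ := line _ l ((rat_e σ i).add ((rat_e σ j).smul ht)) hu
      (by rw [polar_add_left, polar_smul_left, (frame m F).ee', (frame m F).ee', smul_zero, add_zero])
      (by rw [polar_add_left, polar_smul_left, (frame m F).ef, (frame m F).ef, if_neg (Ne.symm hli),
        if_neg (Ne.symm hlj), smul_zero, add_zero])
    rw [Tadd, Tsmul, ha, ha] at hc
    have h1 := congrArg (fun y => polar ⇑(qf m F) y ((frame m F).f i)) hc
    have h2 := congrArg (fun y => polar ⇑(qf m F) y ((frame m F).f j)) hc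
    simp only [polar_add_left, polar_smul_left, (frame m F).ef, if_pos, if_neg hij, if_neg (Ne.symm hij),
      smul_eq_mul, mul_one, mul_zero, add_zero, zero_add] at h1 h2
    rw [h1]; exact h2
  have hall : ∀ i j, a i = a j := fun i j => by
    by_cases hij : i = j
    · rw [hij]
    · have := key i j hij 1 (map_one σ)
      rw [map_one, one_mul, mul_one] at this
      exact this.symm
  set c := a i₀ with hc_def
  have hac : ∀ i, a i = c := fun i => hall i i₀
  have hbc : ∀ j, b j = c := fun j => by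
    obtain ⟨i, hij, -⟩ := exists_ne_ne hm j j
    obtain ⟨l, hli, hlj⟩ := exists_ne_ne hm i j
    have hu : qf m F ((frame m F).e i + (frame m F).f j) = 0 := by
      rw [Reflections.map_add', (frame m F).Qe, (frame m F).Qf, (frame m F).ef, if_neg hij]; ring
    obtain ⟨d, hd⟩ := line _ l ((rat_e σ i).add (rat_f σ j)) hu
      (by rw [polar_add_left, (frame m F).ee', (frame m F).fe, if_neg hlj, add_zero])
      (by rw [polar_add_left, (frame m F).ef, (frame m F).ff', if_neg (Ne.symm hli), add_zero])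
    rw [Tadd, ha, hb] at hd
    have h1 := congrArg (fun y => polar ⇑(qf m F) y ((frame m F).f i)) hd
    have h2 := congrArg (fun y => polar ⇑(qf m F) y ((frame m F).e j)) hd
    simp only [polar_add_left, polar_smul_left, (frame m F).ef, (frame m F).fe, (frame m F).ee', (frame m F).ff', if_pos,
      smul_eq_mul, mul_one, mul_zero, add_zero, zero_add] at h1 h2
    rw [h2, ← h1, hac]
  obtain ⟨j₀, hj₀, -⟩ := exists_ne_ne hm i₀ i₀
  have hτ : ∀ t, σ t = t → τ t = t := fun t ht => by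
    have := key i₀ j₀ (Ne.symm hj₀) t ht
    rw [hac, hac, mul_comm c] at this
    exact mul_right_cancel₀ (ha0 i₀) this
  have h0 : T (e0 m F) = c • e0 m F := by
    have he0 : ∀ i, polar ⇑(qf m F) (e0 m F) ((frame m F).e i) = 0 ∧ polar ⇑(qf m F) (e0 m F) ((frame m F).f i) = 0 := by
      intro i
      constructor <;> simp [polar, qf_apply, Cfsg.quadFormOdd, e0, frame]
    have hi : ∀ i : Fin m, ∃ d : F,
        T (e0 m F) + c • ((frame m F).e i - (frame m F).f i) = d • e0 m F + d • ((frame m F).e i - (frame m F).f i) := by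
      intro i
      obtain ⟨l, hli, -⟩ := exists_ne_ne hm i i
      have hu : qf m F (e0 m F + ((frame m F).e i - (frame m F).f i)) = 0 := by
        rw [Reflections.map_add', Reflections.map_sub', (frame m F).Qe, (frame m F).Qf, qf_e0, (frame m F).ef, if_pos rfl,
          polar_sub_right, (he0 i).1, (he0 i).2]
        ring
      obtain ⟨d, hd⟩ := line _ l ((rat_e0 σ).add ((rat_e σ i).sub (rat_f σ i))) hu
        (by rw [polar_add_left, polar_sub_left, (he0 l).1, (frame m F).ee', (frame m F).fe, if_neg hli, sub_zero,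
          add_zero])
        (by rw [polar_add_left, polar_sub_left, (he0 l).2, (frame m F).ef, (frame m F).ff', if_neg (Ne.symm hli),
          sub_zero, add_zero])
      refine ⟨d, ?_⟩
      rw [Tadd, Tsub, ha, hb, hbc, hac] at hd
      linear_combination (norm := module) hd
    obtain ⟨d, hd⟩ := hi i₀
    obtain ⟨d', hd'⟩ := hi j₀
    have h1 : (d - c) • ((frame m F).e i₀ - (frame m F).f i₀) + (d - d') • e0 m F = (d' - c) • ((frame m F).e j₀ - (frame m F).f j₀) := by
      linear_combination (norm := module) hd' - hd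
    have h2 := congrFun h1 (.inr (.inl i₀))
    simp [frame, e0, hj₀.symm] at h2
    rw [sub_eq_zero.1 h2] at hd
    linear_combination (norm := module) hd
  refine ⟨hτ, Units.mk0 c (ha0 i₀), Units.ext (Matrix.ext_of_mulVec_single fun i => ?_)⟩
  rw [AutPSL.scalarGL_coe, Units.val_mk0, smul_mulVec, one_mulVec]
  have hfix : τ ∘ (Pi.single i 1 : Idx m → F) = Pi.single i 1 :=
    funext fun j => by by_cases h : j = i <;> simp [h]
  rw [← hfix]
  show T (Pi.single i 1) = _
  rw [hfix]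
  rcases i with ⟨⟩ | i | i
  · exact h0
  · show T ((frame m F).e i) = c • (frame m F).e i
    rw [ha, hac]
  · show T ((frame m F).f i) = c • (frame m F).f i
    rw [hb, hbc]

theorem siegel_map {F₀ : Type v} [Field F₀] (i : F₀ →+* F) (u v : Idx m → F₀) :
    (Cfsg.siegelMatrix ⇑(qf m F₀) u v 1).map i = Cfsg.siegelMatrix ⇑(qf m F) (i ∘ u) (i ∘ v) 1 := by
  ext a b
  have h : ∀ w : Idx m → F₀, Cfsg.polarVec ⇑(qf m F) (i ∘ w) b = i (Cfsg.polarVec ⇑(qf m F₀) w b) := by
    intro w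
    show polar ⇑(qf m F) _ _ = i (polar ⇑(qf m F₀) _ _)
    rw [← polar_map i (qf_map i), comp_single]
  simp only [Cfsg.siegelMatrix, Matrix.map_apply, Matrix.add_apply, Matrix.sub_apply,
    Matrix.smul_apply, Matrix.vecMulVec_apply, smul_eq_mul, map_add, map_sub, map_mul, h,
    one_mul, map_one, Function.comp_apply]
  by_cases hab : a = b <;> simp [hab, Matrix.one_apply]

end rational

section centre

variable [Finite F]

theorem center_omega (h2 : (2 : F) ≠ 0) (hm : 3 ≤ m) : Subgroup.center (Om m F) = ⊥ := by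
  refine (Subgroup.eq_bot_iff_forall _).2 fun z hz => ?_
  obtain ⟨-, c, hc⟩ := scalar_of_rat hm (1 : F ≃+* F) (ro m F z) 1 fun u v _ _ hu hv huv x => by
    obtain ⟨s, hs⟩ := hasSiegel_of_two_ne_zero h2 (qf m F) (qf_nondeg h2) u v hu hv huv
    have h0 : ro m F s * ro m F z = ro m F z * ro m F s :=
      ((ro m F).map_mul s z).symm.trans ((congrArg (ro m F) (Subgroup.mem_center_iff.1 hz s)).trans
        ((ro m F).map_mul z s))
    have e := congrArg (fun y : GL (Idx m) F => (y : Matrix (Idx m) (Idx m) F) *ᵥ x) h0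
    simp only [Units.val_mul, ← mulVec_mulVec] at e
    rw [← hs]
    exact e.symm
  have hd : Matrix.GeneralLinearGroup.det (ro m F z) = 1 :=
    omega_le_special (Q := qf m F) z.2
  have h2c : c ^ 2 = 1 := by
    refine Units.ext ?_
    have h := mem_iso.1 (show ro m F z ∈ Cfsg.isometryGroup F (Cfsg.quadFormOdd m F) from z.1.2) (e0 m F)
    rw [hc, AutPSL.scalarGL_coe, smul_mulVec, one_mulVec, ← qf_apply, ← qf_apply,
      QuadraticMap.map_smul, qf_e0, smul_eq_mul, mul_one] at h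
    rw [Units.val_pow_eq_pow_val, pow_two]
    exact h
  rw [hc, Odd.det_scalar, pow_succ, pow_mul, h2c, one_pow, one_mul] at hd
  exact rho_injective _ (hc.trans (by rw [hd, map_one]; exact map_one _))

theorem center_pg (h2 : (2 : F) ≠ 0) (hm : 3 ≤ m) : Subgroup.center (PG m F) = ⊥ := by
  obtain ⟨k, rfl⟩ : ∃ k, m = k + 2 := ⟨m - 2, by omega⟩
  haveI := (UnitaryOrthogonal.pomega_odd h2 k).1
  refine (IsSimpleGroup.eq_bot_or_eq_top_of_normal _ inferInstance).resolve_right fun h => ?_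
  let e := (QuotientGroup.quotientMulEquivOfEq (center_omega h2 hm)).trans QuotientGroup.quotientBot
  have h1 : Subgroup.center (Om (k + 2) F) = ⊤ := (Subgroup.eq_top_iff' _).2 fun a =>
    Subgroup.mem_center_iff.2 fun b => e.symm.injective (by
      rw [map_mul, map_mul]
      exact Subgroup.mem_center_iff.1 (h.symm ▸ Subgroup.mem_top (e.symm a)) (e.symm b))
  haveI : Subsingleton (Om (k + 2) F) := subsingleton_iff.mpr fun a b => by
    have h3 := center_omega (m := k + 2) h2 hm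
    rw [h1] at h3
    rw [(Subgroup.eq_bot_iff_forall _).1 h3 a trivial, (Subgroup.eq_bot_iff_forall _).1 h3 b trivial]
  obtain ⟨x, hx⟩ := exists_ne (1 : PG (k + 2) F)
  obtain ⟨s, rfl⟩ := QuotientGroup.mk_surjective x
  exact hx (by rw [Subsingleton.elim s 1]; rfl)

theorem pi_injective (h2 : (2 : F) ≠ 0) (hm : 3 ≤ m) : Function.Injective (pi m F) := by
  rw [← MonoidHom.ker_eq_bot_iff, QuotientGroup.ker_mk', center_omega h2 hm]

end centre

section fixed

variable [Fintype F]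

theorem mem_fix_iff (h2 : (2 : F) ≠ 0) (hm : 3 ≤ m) {σ : F ≃+* F} {φ : MulAut (PG m F)}
    (hφ : Induced (ro m F) 1 σ φ) (s : Om m F) :
    pi m F s ∈ Fix φ ↔ fieldMap σ (ro m F s) = ro m F s := by
  obtain ⟨s', hs'⟩ := (Odd.setting hm h2).norm 1 (one_mem _) σ (Subgroup.mem_top _) s
  have he : φ (pi m F s) = pi m F s' := hφ s s' hs'
  rw [mem_fix, he, (pi_injective h2 hm).eq_iff]
  rw [AutPSL.act_apply, one_mul, inv_one, mul_one] at hs'
  constructor
  · intro h; rw [← hs', h]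
  · intro h; exact rho_injective _ (hs'.trans h)

variable {F₀ : Type v} [Field F₀] (i : F₀ →+* F)

theorem map_mem_iso {g : GL (Idx m) F₀} (hg : g ∈ Cfsg.isometryGroup F₀ (Cfsg.quadFormOdd m F₀)) :
    Matrix.GeneralLinearGroup.map i g ∈ Cfsg.isometryGroup F (Cfsg.quadFormOdd m F) := by
  obtain ⟨c, hc⟩ := (map_mem_sim_iff (qf m F) (qf m F₀) i (qf_map i) qf_e0 g).2 (iso_le_sim _ hg)
  have h1 := hc (i ∘ e0 m F₀)
  rw [show ((Matrix.GeneralLinearGroup.map i g : GL (Idx m) F) : Matrix (Idx m) (Idx m) F) *ᵥ (i ∘ e0 m F₀) =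
      i ∘ ((g : Matrix (Idx m) (Idx m) F₀) *ᵥ e0 m F₀) from funext fun a => (RingHom.map_mulVec i _ _ a).symm,
    qf_map, qf_map, qf_apply, mem_iso.1 hg, ← qf_apply, qf_e0, map_one, mul_one] at h1
  refine mem_iso.2 fun v => ?_
  rw [← qf_apply, ← qf_apply]
  exact (hc v).trans (by rw [← h1, one_mul])

/-- Extension of the scalars. -/
noncomputable def isoMap : ↥(Cfsg.isometryGroup F₀ (Cfsg.quadFormOdd m F₀)) →*
    ↥(Cfsg.isometryGroup F (Cfsg.quadFormOdd m F)) :=
  ((Matrix.GeneralLinearGroup.map i).comp (Cfsg.isometryGroup F₀ (Cfsg.quadFormOdd m F₀)).subtype).codRestrict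
    _ fun g => map_mem_iso i g.2

theorem isoMap_omega {g : ↥(Cfsg.isometryGroup F₀ (Cfsg.quadFormOdd m F₀))}
    (hg : g ∈ Cfsg.Omega F₀ (Cfsg.quadFormOdd m F₀)) :
    isoMap i g ∈ Cfsg.Omega F (Cfsg.quadFormOdd m F) := by
  have h1 : (Cfsg.Omega F₀ (Cfsg.quadFormOdd m F₀)).map (isoMap (m := m) i) ≤
      Cfsg.Omega F (Cfsg.quadFormOdd m F) := by
    rw [Cfsg.Omega, commutator_def, Subgroup.map_commutator]
    exact Subgroup.commutator_mono le_top le_top
  exact h1 ⟨g, hg, rfl⟩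

/-- The subfield group. -/
noncomputable def omMap : Om m F₀ →* Om m F :=
  ((isoMap i).comp (Cfsg.Omega F₀ (Cfsg.quadFormOdd m F₀)).subtype).codRestrict _
    fun g => isoMap_omega i g.2

theorem ro_omMap (t : Om m F₀) :
    ro m F (omMap i t) = Matrix.GeneralLinearGroup.map i (ro m F₀ t) := rfl

theorem map_injective : Function.Injective
    (Matrix.GeneralLinearGroup.map i : GL (Idx m) F₀ →* GL (Idx m) F) := fun a b h =>
  Units.ext (Matrix.ext fun x y => i.injective
    (congrArg (fun z : GL (Idx m) F => (z : Matrix (Idx m) (Idx m) F) x y) h))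

theorem omMap_injective : Function.Injective (omMap (m := m) i) := fun a b h =>
  rho_injective _ (map_injective i (by
    have := congrArg (ro m F) h; rwa [ro_omMap, ro_omMap] at this))

theorem omMap_fix (h2 : (2 : F) ≠ 0) (hm : 3 ≤ m) {σ : F ≃+* F} {φ : MulAut (PG m F)}
    (hφ : Induced (ro m F) 1 σ φ) (hi : ∀ x, σ (i x) = i x) (t : Om m F₀) :
    pi m F (omMap i t) ∈ Fix φ := by
  rw [mem_fix_iff h2 hm hφ, ro_omMap]
  exact Units.ext (Matrix.ext fun a b => hi _)

/-- Descent of a fixed element. -/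
theorem exists_rational {σ : F ≃+* F} (hi : ∀ x : F, σ x = x ↔ ∃ y, i y = x) {s : Om m F}
    (hs : fieldMap σ (ro m F s) = ro m F s) :
    ∃ g : ↥(Cfsg.isometryGroup F₀ (Cfsg.quadFormOdd m F₀)), isoMap i g = (s : ↥(Cfsg.isometryGroup F _)) := by
  have key : ∀ x : GL (Idx m) F, fieldMap σ x = x →
      ∃ M : Matrix (Idx m) (Idx m) F₀, M.map i = (x : Matrix (Idx m) (Idx m) F) := by
    intro x hx
    have h : ∀ a b, ∃ y, i y = (x : Matrix (Idx m) (Idx m) F) a b := fun a b =>
      (hi _).1 (congrArg (fun z : GL (Idx m) F => (z : Matrix (Idx m) (Idx m) F) a b) hx)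
    choose M hM using h
    exact ⟨Matrix.of M, Matrix.ext hM⟩
  obtain ⟨A, hA⟩ := key _ hs
  obtain ⟨B, hB⟩ := key _ (show fieldMap σ (ro m F s)⁻¹ = (ro m F s)⁻¹ by rw [map_inv, hs])
  have hinj : Function.Injective (fun M : Matrix (Idx m) (Idx m) F₀ => M.map i) := fun a b h =>
    Matrix.ext fun x y => i.injective (congrFun (congrFun h x) y)
  let G : GL (Idx m) F₀ :=
    { val := A
      inv := B
      val_inv := hinj (by simp [Matrix.map_mul, hA, hB])
      inv_val := hinj (by simp [Matrix.map_mul, hA, hB]) }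
  have hG : Matrix.GeneralLinearGroup.map i G = ro m F s := Units.ext hA
  refine ⟨⟨G, mem_iso.2 fun x => i.injective ?_⟩, Subtype.ext hG⟩
  rw [← qf_apply, ← qf_apply, ← qf_map, ← qf_map]
  show qf m F (i ∘ (A *ᵥ x)) = _
  rw [show i ∘ (A *ᵥ x) = A.map i *ᵥ (i ∘ x) from funext fun a => RingHom.map_mulVec i _ x a, hA]
  exact mem_iso.1 (show ro m F s ∈ Cfsg.isometryGroup F (Cfsg.quadFormOdd m F) from s.1.2) (i ∘ x)

variable [Fintype F₀]

theorem sq_mem_omega (h20 : (2 : F₀) ≠ 0) (hm : 1 ≤ m)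
    (g : ↥(Cfsg.isometryGroup F₀ (Cfsg.quadFormOdd m F₀))) :
    g * g ∈ Cfsg.Omega F₀ (Cfsg.quadFormOdd m F₀) := by
  classical
  obtain ⟨ε, -, hε⟩ := Reflections.exists_nonsquare_scalar (F := F₀) h20
  have key : ∀ g' : ↥(Cfsg.isometryGroup F₀ ⇑(qf m F₀)), g' * g' ∈ Cfsg.Omega F₀ ⇑(qf m F₀) := by
    intro g'
    rw [Reflections.omega_eq_ker h20 (qf_nondeg h20) (by rw [Odd.card_index]; omega) hε,
      MonoidHom.mem_ker, map_mul]
    exact Prod.ext (Int.units_mul_self _) (Int.units_mul_self _)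
  exact key g

theorem even_card_omega (h20 : (2 : F₀) ≠ 0) (hm : 1 ≤ m) : 2 ∣ Nat.card (Om m F₀) := by
  classical
  set a := e0 m F₀ with ha_def
  set c : Idx m → F₀ := (frame m F₀).e ⟨0, hm⟩ + (frame m F₀).f ⟨0, hm⟩ with hc_def
  set b := a + c with hb_def
  have hQc : qf m F₀ c = 1 := by
    rw [hc_def, Reflections.map_add', (frame m F₀).Qe, (frame m F₀).Qf, (frame m F₀).ef, if_pos rfl]
    ring
  have hac : polar ⇑(qf m F₀) a c = 0 := by
    simp [hc_def, ha_def, polar, qf_apply, Cfsg.quadFormOdd, e0, frame]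
  have hQb : qf m F₀ b = 2 := by rw [hb_def, Reflections.map_add', qf_e0, hQc, hac]; ring
  have hQa : qf m F₀ a = 1 := qf_e0
  have hb : qf m F₀ b ≠ 0 := hQb ▸ h20
  have ha : qf m F₀ a ≠ 0 := by rw [hQa]; exact one_ne_zero
  have hba : polar ⇑(qf m F₀) b a = 2 := by
    rw [hb_def, polar_add_left, Reflections.polar_self', hQa, polar_comm _ c a, hac]; ring
  have hbc : polar ⇑(qf m F₀) b c = 2 := by
    rw [hb_def, polar_add_left, Reflections.polar_self', hQc, hac]; ring
  set g := Reflections.refl (qf m F₀) a * Reflections.refl (qf m F₀) b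
  have hrb : ∀ x, polar ⇑(qf m F₀) b x = 2 → Reflections.act (Reflections.refl (qf m F₀) b) x = x - b := by
    intro x hx
    rw [Reflections.act_refl hb, hQb, hx, inv_mul_cancel₀ h20, one_smul]
  have hga : Reflections.act g a = -c := by
    rw [Reflections.act_mul, hrb a hba, hb_def, show a - (a + c) = -c by abel,
      Reflections.act_neg, Reflections.refl_fix ha hac]
  have hgc : Reflections.act g c = a := by
    rw [Reflections.act_mul, hrb c hbc, hb_def, show c - (a + c) = -a by abel,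
      Reflections.act_neg, Reflections.refl_self ha, neg_neg]
  have hgga : Reflections.act (g * g) a = -a := by
    rw [Reflections.act_mul, hga, Reflections.act_neg, hgc]
  let z : Om m F₀ := ⟨g * g, sq_mem_omega h20 hm g⟩
  by_contra hodd
  have hpow : ∀ k : ℕ, Reflections.act (Q := qf m F₀) ((g * g) ^ k) a = (-1 : F₀) ^ k • a := by
    intro k
    induction k with
    | zero => simp
    | succ k ih =>
      rw [pow_succ, Reflections.act_mul, hgga, Reflections.act_neg, ih, pow_succ, mul_neg_one, neg_smul]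
  have h1 := hpow (Nat.card (Om m F₀))
  have hz : (g * g) ^ Nat.card (Om m F₀) = 1 := congrArg Subtype.val (pow_card_eq_one' (x := z))
  rw [hz, Reflections.act_one, (Nat.not_even_iff_odd.1 (fun h => hodd h.two_dvd)).neg_one_pow] at h1
  have h3 := congrArg (qf m F₀).toFun h1
  have h4 := congrFun h1 (.inl ())
  simp [ha_def, e0] at h4
  exact h20 (by linear_combination h4)

end fixed

section main

variable [Fintype F]

theorem eq_one_of_mem_range (h2 : (2 : F) ≠ 0) (hm : 3 ≤ m) {τ : F ≃+* F} {ψ : MulAut (PG m F)}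
    (hψ : Induced (ro m F) 1 τ ψ) (h : ψ ∈ (conjH (Odd.setting (m := m) (F := F) hm h2)).range) :
    τ = 1 := by
  have hS := Odd.setting (m := m) (F := F) hm h2
  obtain ⟨k, hk⟩ := h
  have h1 := Induced.comp (hS.norm 1 (one_mem _) τ (Subgroup.mem_top _)) (induced_conjH hS k⁻¹) hψ
  rw [one_mul, AutPSL.fieldMap_one, mul_one, map_inv, hk, inv_mul_cancel] at h1
  exact (hS.eq_one _ (k⁻¹).2 τ (Subgroup.mem_top _) h1).1

theorem pow_mem_coset {G : Type*} [Group G] {R : Subgroup G} {x c φ : G} (hc : c ∈ R) (hx : x = c * φ)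
    (hn : ∀ r ∈ R, φ * r * φ⁻¹ ∈ R) (k : ℕ) : x ^ k * (φ ^ k)⁻¹ ∈ R := by
  induction k with
  | zero => simp
  | succ k ih =>
    rw [show x ^ (k + 1) * (φ ^ (k + 1))⁻¹ = c * (φ * (x ^ k * (φ ^ k)⁻¹) * φ⁻¹) by
      rw [pow_succ' x, pow_succ' φ, hx]; group]
    exact R.mul_mem hc (hn _ ih)

set_option maxHeartbeats 800000 in
theorem isFieldClass (hodd : Odd (Fintype.card F)) (hm : 3 ≤ m) {p : ℕ} [Fact p.Prime]
    (x : MulAut (PG m F)) (hord : orderOf x = p) (hnot : ¬ Cfsg.IsInnerDiagonalAutPOmegaOdd m x) :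
    Cfsg.IsFieldAutClassPOmega (Cfsg.quadFormOdd m F) x := by
  have hp : p.Prime := Fact.out
  have h2 : (2 : F) ≠ 0 := Forms59.two_ne_zero_of_odd rfl hodd
  have hS := Odd.setting (m := m) (F := F) hm h2
  haveI := hS.fin
  obtain ⟨g, σ, hg, hx⟩ := exists_semi (fun v => UnitaryOrthogonal.qOdd_apply m v)
    (CG26.AutPO.setup_odd h2 hm) (CG26.AutPO.big_odd h2 hm) x
  have hgH : g ∈ H m F := by
    obtain ⟨c, hc⟩ := hg
    refine ⟨c, fun v => ?_⟩
    obtain ⟨w, rfl⟩ : ∃ w, σ ∘ w = v := ⟨σ.symm ∘ v, funext fun i => σ.apply_symm_apply _⟩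
    show qf m F _ = _ * qf m F _
    rw [qf_sigma]
    exact hc w
  have hσ : σ ≠ 1 := fun e => hnot ⟨g, hgH, induced_iff.2 (by subst e; exact hx)⟩
  obtain ⟨φ, hφ⟩ := AutPSL.exists_induced hS.inj (hS.norm 1 (one_mem _) σ (Subgroup.mem_top _))
  have hxe : x = conjH hS ⟨g, hgH⟩ * φ := by
    have h1 := Induced.comp (hS.norm 1 (one_mem _) σ (Subgroup.mem_top _)) (induced_conjH hS ⟨g, hgH⟩) hφ
    rw [map_one, mul_one, one_mul] at h1
    exact Induced.ext (hS.norm g hgH σ (Subgroup.mem_top _)) hx h1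
  have hpowx : ∀ k : ℕ, x ^ k * (φ ^ k)⁻¹ ∈ (conjH hS).range :=
    pow_mem_coset ⟨_, rfl⟩ hxe fun r hr => by
      obtain ⟨r, rfl⟩ := hr
      exact ⟨⟨fieldMap σ (r : GL (Idx m) F), hS.fmap _ r.2 σ (Subgroup.mem_top _)⟩,
        eq_mul_inv_of_mul_eq (semi_comm hS (Subgroup.mem_top _) hφ r).symm⟩
  have hpowφ : ∀ k : ℕ, Induced (ro m F) 1 (σ ^ k) (φ ^ k) := by
    intro k
    induction k with
    | zero => rw [pow_zero, pow_zero]; exact AutPSL.induced_one' hS.inj
    | succ k ih =>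
      rw [pow_succ', pow_succ']
      simpa using Induced.comp (hS.norm 1 (one_mem _) _ (Subgroup.mem_top (σ ^ k))) hφ ih
  have hσp : σ ^ p = 1 := by
    refine eq_one_of_mem_range h2 hm (hpowφ p) ?_
    have := hpowx p
    rw [← hord, pow_orderOf_eq_one, one_mul, inv_mem_iff, hord] at this
    exact this
  have hφo : orderOf φ = p := by
    rw [FieldAutGen.orderOf_std hS (Subgroup.mem_top _) hφ, orderOf_eq_prime hσp hσ]
  have hcls : Cfsg.IsFieldAutClassPOmega (Cfsg.quadFormOdd m F) φ :=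
    ⟨1, φ, σ, hσ, isFieldAut_iff.2 hφ, by simp⟩
  obtain ⟨h, -, he⟩ := (Odd.coset_order_iff (by rwa [Nat.card_eq_fintype_card]) hm φ
    (conjH hS ⟨g, hgH⟩) hcls hφo (Odd.range_eq hS ▸ ⟨_, rfl⟩)).1 (by rw [← hxe, hord])
  rw [← hxe] at he
  exact ⟨h⁻¹, φ, σ, hσ, isFieldAut_iff.2 hφ, by rw [he]; group⟩

theorem pow_eq_one_of_fix (h2 : (2 : F) ≠ 0) (hm : 3 ≤ m) {σ : F ≃+* F} {φ : MulAut (PG m F)}
    (hφ : Induced (ro m F) 1 σ φ) {p : ℕ} (hσ : orderOf σ = p) {β : MulAut (PG m F)}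
    (h : ∀ t : Om m ((σ.toRingHom).eqLocusField (RingHom.id F)),
      β (pi m F (omMap ((σ.toRingHom).eqLocusField (RingHom.id F)).subtype t)) =
        pi m F (omMap ((σ.toRingHom).eqLocusField (RingHom.id F)).subtype t)) :
    β ^ p = 1 := by
  classical
  set F₀ := (σ.toRingHom).eqLocusField (RingHom.id F) with hF₀
  have h20 : (2 : F₀) ≠ 0 := fun e => h2 (by
    have := congrArg F₀.subtype e; rwa [map_ofNat, map_zero] at this)
  have hS := Odd.setting (m := m) (F := F) hm h2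
  obtain ⟨g, τ, hg, hb⟩ := exists_semi (fun v => UnitaryOrthogonal.qOdd_apply m v)
    (CG26.AutPO.setup_odd h2 hm) (CG26.AutPO.big_odd h2 hm) β
  obtain ⟨hτ, c, hc⟩ := scalar_of_rat hm σ g τ fun u v hru hrv hu hv huv x => by
    let u₀ : Idx m → F₀ := fun j => ⟨u j, hru j⟩
    let v₀ : Idx m → F₀ := fun j => ⟨v j, hrv j⟩
    have hu' : F₀.subtype ∘ u₀ = u := rfl
    have hv' : F₀.subtype ∘ v₀ = v := rfl
    obtain ⟨t, ht⟩ := hasSiegel_of_two_ne_zero h20 (qf m F₀) (qf_nondeg h20) u₀ v₀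
      (F₀.subtype.injective (by rw [← qf_map, hu', hu, map_zero]))
      (F₀.subtype.injective (by rw [← qf_map, hv', hv, map_zero]))
      (F₀.subtype.injective (by rw [← polar_map _ (qf_map _), hu', hv', huv, map_zero]))
    have hs : ((ro m F (omMap F₀.subtype t) : GL (Idx m) F) : Matrix (Idx m) (Idx m) F) =
        Cfsg.siegelMatrix ⇑(qf m F) u v 1 := by
      rw [← hu', ← hv', ← siegel_map, ← ht]; rfl
    obtain ⟨s', hs'⟩ := Orth.normalises hg (omMap F₀.subtype t)
    have e := hb _ _ hs'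
    have e' : β (pi m F (omMap F₀.subtype t)) = pi m F s' := e
    have e'' := (pi_injective h2 hm) ((h t).symm.trans e')
    rw [← e''] at hs'
    have := congrArg (fun y : GL (Idx m) F => (y : Matrix (Idx m) (Idx m) F) *ᵥ
      ((g : Matrix (Idx m) (Idx m) F) *ᵥ (τ ∘ x))) hs'
    simp only [act_mulVec, hs] at this
    exact this.symm
  have hb1 : Induced (ro m F) 1 τ β := by
    have h1 := Induced.comp (Orth.normalises hg) (FieldAutGen.scalar_induced hS c⁻¹) hb
    rw [AutPSL.fieldMap_one, hc, ← Odd.scalar_mul, inv_mul_cancel, Odd.scalar_one, one_mul,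
      one_mul] at h1
    exact h1
  haveI : Finite (F ≃+* F) := Finite.of_injective _ DFunLike.coe_injective
  let G := Subgroup.zpowers σ
  let τ' : F →ₐ[FixedPoints.subfield G F] F :=
    { τ.toRingHom with commutes' := fun z => hτ _ (z.2 ⟨σ, Subgroup.mem_zpowers σ⟩) }
  obtain ⟨⟨γ, hγ⟩, hγτ⟩ := (FixedPoints.toAlgHom_bijective G F).2 τ'
  have hγ' : γ = τ := RingEquiv.ext fun z => (DFunLike.congr_fun hγτ z : _)
  obtain ⟨k, hk⟩ := hγ
  have hτp : τ ^ p = 1 := by
    show _ = _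
    rw [← hγ', ← hk]
    show (σ ^ k) ^ p = 1
    rw [← zpow_natCast (σ ^ k), ← _root_.zpow_mul, mul_comm, _root_.zpow_mul, zpow_natCast,
      ← hσ, pow_orderOf_eq_one, _root_.one_zpow]
  have ho := FieldAutGen.orderOf_std hS (Subgroup.mem_top _) hb1
  exact orderOf_dvd_iff_pow_eq_one.1 (ho ▸ orderOf_dvd_of_pow_eq_one hτp)

theorem fix_hyps (h2 : (2 : F) ≠ 0) (hm : 3 ≤ m) {p : ℕ} [Fact p.Prime]
    {σ : F ≃+* F} (hσ : orderOf σ = p) {φ : MulAut (PG m F)} (hφ : Induced (ro m F) 1 σ φ) :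
    Fix φ ≠ ⊥ ∧ (∀ β : MulAut (PG m F), (∀ k ∈ Fix φ, β k = k) → β ^ p = 1) ∧
      (p ∣ Nat.card (Fix φ) → ∀ M : Subgroup (PG m F), M ≤ Fix φ →
        (∀ l ∈ Fix φ, ∀ a ∈ M, l * a * l⁻¹ ∈ M) → (Nat.card M).Coprime p → M = ⊥) := by
  classical
  have hp : p.Prime := Fact.out
  haveI : Finite (Om m F) := (Odd.setting (m := m) (F := F) hm h2).fin
  set F₀ := (σ.toRingHom).eqLocusField (RingHom.id F) with hF₀
  set i := F₀.subtype with hi_def
  have hi : ∀ x : F, σ x = x ↔ ∃ y, i y = x :=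
    fun x => ⟨fun h => ⟨⟨x, h⟩, rfl⟩, by rintro ⟨y, rfl⟩; exact y.2⟩
  letI : Fintype F₀ := Fintype.ofFinite _
  have h20 : (2 : F₀) ≠ 0 := fun e => h2 (by have := congrArg F₀.subtype e; rwa [map_ofNat, map_zero] at this)
  let ψ : Om m F₀ →* PG m F := (pi m F).comp (omMap i)
  have hψ : Function.Injective ψ := (pi_injective h2 hm).comp (omMap_injective i)
  have hψfix : ∀ t, ψ t ∈ Fix φ := fun t => omMap_fix i h2 hm hφ (fun y => y.2) t
  have hsimple : IsSimpleGroup (Om m F₀) := by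
    obtain ⟨k, rfl⟩ : ∃ k, m = k + 2 := ⟨m - 2, by omega⟩
    haveI := (UnitaryOrthogonal.pomega_odd h20 k).1
    exact ((QuotientGroup.quotientMulEquivOfEq (center_omega h20 hm)).trans
      QuotientGroup.quotientBot).symm.isSimpleGroup
  have heven : 2 ∣ Nat.card (Om m F₀) := even_card_omega h20 (by omega)
  have hrat : ∀ k ∈ Fix φ, ∃ (s : Om m F) (g : ↥(Cfsg.isometryGroup F₀ (Cfsg.quadFormOdd m F₀))),
      pi m F s = k ∧ isoMap i g = (s : ↥(Cfsg.isometryGroup F _)) := by
    intro k hk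
    obtain ⟨s, rfl⟩ := QuotientGroup.mk_surjective k
    obtain ⟨g, hg⟩ := exists_rational i hi ((mem_fix_iff h2 hm hφ s).1 hk)
    exact ⟨s, g, rfl, hg⟩
  refine ⟨fun e => ?_, fun β hβ => pow_eq_one_of_fix h2 hm hφ hσ fun t => hβ _ (hψfix t),
    fun hdvd M hM hnor hcop => ?_⟩
  · obtain ⟨t, ht⟩ := exists_ne (1 : Om m F₀)
    have := hψfix t
    rw [e, Subgroup.mem_bot] at this
    exact ht (hψ (by rw [this, map_one]))
  have hnorm : (M.comap ψ).Normal := ⟨fun a ha g => by
    show ψ (g * a * g⁻¹) ∈ M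
    rw [map_mul, map_mul, map_inv]
    exact hnor _ (hψfix g) _ ha⟩
  rcases IsSimpleGroup.eq_bot_or_eq_top_of_normal _ hnorm with hbot | htop
  · refine (Subgroup.eq_bot_iff_forall _).2 fun a ha => ?_
    have hfixed : ∀ t, MulAut.conj a (ψ t) = ψ t := by
      intro t
      obtain ⟨s, g, hs, hg⟩ := hrat a (hM ha)
      let t' : Om m F₀ := ⟨g * t * g⁻¹,
        (Subgroup.commutator_normal (⊤ : Subgroup ↥(Cfsg.isometryGroup F₀ (Cfsg.quadFormOdd m F₀))) ⊤).conj_mem _ t.2 g⟩
      have himg : ψ t' = a * ψ t * a⁻¹ := by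
        rw [← hs]
        show pi m F (omMap i t') = pi m F s * pi m F (omMap i t) * (pi m F s)⁻¹
        rw [← map_inv, ← map_mul, ← map_mul]
        refine congrArg _ (Subtype.ext ?_)
        show isoMap i (g * (t : ↥(Cfsg.isometryGroup F₀ _)) * g⁻¹) = (s : ↥(Cfsg.isometryGroup F _)) *
          isoMap i (t : ↥(Cfsg.isometryGroup F₀ _)) * (s : ↥(Cfsg.isometryGroup F _))⁻¹
        rw [map_mul, map_mul, map_inv, hg]
      have h1 : a * ψ t * a⁻¹ * (ψ t)⁻¹ ∈ M := by
        have h0 := M.mul_mem ha (hnor _ (hψfix t) _ (M.inv_mem ha))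
        simpa [mul_assoc] using h0
      have h3 : t' * t⁻¹ ∈ M.comap ψ := by
        show ψ (t' * t⁻¹) ∈ M
        rw [map_mul, map_inv, himg]
        exact h1
      rw [hbot, Subgroup.mem_bot, mul_inv_eq_one] at h3
      show a * ψ t * a⁻¹ = ψ t
      rw [← himg, h3]
    have h4 := pow_eq_one_of_fix h2 hm hφ hσ hfixed
    rw [← map_pow, ← map_one (MulAut.conj : PG m F →* _)] at h4
    have h5 := PSpLB.conj_injective (center_pg h2 hm) h4
    have h6 : orderOf a ∣ Nat.card M := by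
      have h := orderOf_dvd_natCard (⟨a, ha⟩ : M)
      rwa [Subgroup.orderOf_mk] at h
    exact orderOf_eq_one_iff.1 (Nat.eq_one_of_dvd_coprimes hcop h6 (orderOf_dvd_of_pow_eq_one h5))
  · exfalso
    have hle : ∀ t, ψ t ∈ M := fun t => (Subgroup.eq_top_iff' _).1 htop t
    have hcard : Nat.card (Om m F₀) ∣ Nat.card M :=
      Subgroup.card_dvd_of_injective (ψ.codRestrict M hle) fun a b h => hψ (congrArg Subtype.val h)
    obtain ⟨⟨k, hk⟩, hko⟩ := exists_prime_orderOf_dvd_card' p hdvd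
    rw [Subgroup.orderOf_mk] at hko
    obtain ⟨s, g, hs, hg⟩ := hrat k hk
    have hk2 : k * k ∈ M := by
      have e : omMap i ⟨g * g, sq_mem_omega h20 (by omega) g⟩ = s * s := Subtype.ext (by
        show isoMap i (g * g) = _
        rw [map_mul, hg]; rfl)
      have := hle ⟨g * g, sq_mem_omega h20 (by omega) g⟩
      change pi m F _ ∈ M at this
      rwa [e, map_mul, hs] at this
    have h7 : orderOf (k * k) ∣ Nat.card M := by
      have h := orderOf_dvd_natCard (⟨_, hk2⟩ : M)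
      rwa [Subgroup.orderOf_mk] at h
    have h8 : orderOf (k * k) ∣ p := by
      rw [← hko, ← pow_two]; exact orderOf_pow_dvd 2
    have h9 := orderOf_eq_one_iff.1 (Nat.eq_one_of_dvd_coprimes hcop h7 h8)
    have h10 : p ∣ 2 := hko ▸ orderOf_dvd_of_pow_eq_one (by rw [pow_two]; exact h9)
    rw [(Nat.prime_dvd_prime_iff_eq hp Nat.prime_two).1 h10] at hcop
    exact Nat.prime_two.coprime_iff_not_dvd.1 hcop.symm (heven.trans hcard)

theorem criterion (hodd : Odd (Fintype.card F)) (hm : 3 ≤ m) (A : Subgroup (MulAut (PG m F)))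
    (hinn : ∀ k : PG m F, MulAut.conj k ∈ A) {p : ℕ} [Fact p.Prime] (x : MulAut (PG m F))
    (hord : orderOf x = p) (hnot : ¬ Cfsg.IsInnerDiagonalAutPOmegaOdd m x) :
    Cfsg.pPrimeCore p ↥(A ⊓ Subgroup.centralizer {x}) ≠ ⊥ ↔
      (Cfsg.IsFieldAutClassPOmega (Cfsg.quadFormOdd m F) x ∧ Nat.Coprime p (Nat.card (Fix x))) := by
  have h2 : (2 : F) ≠ 0 := Forms59.two_ne_zero_of_odd rfl hodd
  have hF := isFieldClass hodd hm x hord hnot
  obtain ⟨α, φ, σ, -, hφ, rfl⟩ := id hF
  have hφ' := isFieldAut_iff.1 hφ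
  have hσ : orderOf σ = p := by
    rw [← FieldAutGen.orderOf_std (Odd.setting hm h2) (Subgroup.mem_top _) hφ', AutPSL.orderOf_conj', hord]
  obtain ⟨h1, h2', h3⟩ := fix_hyps h2 hm hσ hφ'
  have hcard : (Fix x).map α.toMonoidHom = Fix (α * x * α⁻¹) := by
    ext k
    constructor
    · rintro ⟨z, hz, rfl⟩
      have hz' : x z = z := hz
      show α (x (α⁻¹ (α z))) = α z
      rw [MulAut.inv_apply_self, hz']
    · intro hk
      refine ⟨α⁻¹ k, ?_, MulAut.apply_inv_self _ α k⟩
      show x (α⁻¹ k) = α⁻¹ k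
      have hk' : α (x (α⁻¹ k)) = k := hk
      conv_rhs => rw [← hk']
      rw [MulAut.inv_apply_self]
  have hmem : ∀ z, z ∈ Fix x → α z ∈ Fix (α * x * α⁻¹) := fun z hz => hcard ▸ ⟨z, hz, rfl⟩
  have hmem' : ∀ k, k ∈ Fix (α * x * α⁻¹) → α⁻¹ k ∈ Fix x := fun k hk => by
    rw [← hcard] at hk
    obtain ⟨z, hz, rfl⟩ := hk
    show α⁻¹ (α z) ∈ _
    rw [MulAut.inv_apply_self]
    exact hz
  rw [PSpLB.core_iff (center_pg h2 hm) (x := x) ?_ ?_ ?_ A hinn]
  · exact ⟨fun h => ⟨hF, h⟩, fun h => h.2⟩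
  · intro e
    refine h1 ?_
    rw [← hcard, e, Subgroup.map_bot]
  · intro β hβ
    have h4 : (MulAut.conj α β) ^ p = 1 := h2' _ fun k hk => by
      show α (β (α⁻¹ k)) = k
      rw [hβ _ (hmem' k hk), MulAut.apply_inv_self]
    rw [← map_pow, ← map_one (MulAut.conj α)] at h4
    exact (MulAut.conj α).injective h4
  · intro hdvd M hM hnor hcop
    have hinj : Function.Injective α.toMonoidHom := α.injective
    have h4 : M.map α.toMonoidHom = ⊥ := by
      refine h3 (by rw [← hcard, Subgroup.card_map_of_injective hinj]; exact hdvd) _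
        (hcard ▸ Subgroup.map_mono hM) ?_ (by rwa [Subgroup.card_map_of_injective hinj])
      rintro l hl _ ⟨z, hz, rfl⟩
      refine ⟨α⁻¹ l * z * (α⁻¹ l)⁻¹, hnor _ (hmem' l hl) _ hz, ?_⟩
      show α (α⁻¹ l * z * (α⁻¹ l)⁻¹) = l * α z * l⁻¹
      rw [map_mul, map_mul, map_inv, MulAut.apply_inv_self]
    exact (Subgroup.map_eq_bot_iff_of_injective _ hinj).1 h4

end main

end Cfsg.Agent.CG26.OddLB
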