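import Mathlib

/-!
Classification of non-degenerate diagonal quadratic forms over finite fields of odd characteristic,
stated for functions `ι → F` and weighted sums of squares.
-/

namespace Cfsg.Agent.CG26

open scoped BigOperators

variable {F : Type*} [Field F] {ι : Type*} [Fintype ι]

/-- weighted sum of squares -/
def wsq (w : ι → F) (x : ι → F) : F := ∑ i, w i * x i ^ 2

/-- equivalence of diagonal forms -/
def WEquiv (w w' : ι → F) : Prop :=
  ∃ g : (ι → F) ≃ₗ[F] (ι → F), ∀ x, wsq w (g x) = wsq w' x

theorem WEquiv.refl (w : ι → F) : WEquiv w w := ⟨LinearEquiv.refl F _, fun _ => rfl⟩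

theorem WEquiv.trans {a b c : ι → F} (h₁ : WEquiv a b) (h₂ : WEquiv b c) : WEquiv a c := by
  obtain ⟨g, hg⟩ := h₁
  obtain ⟨h, hh⟩ := h₂
  exact ⟨h.trans g, fun x => by rw [LinearEquiv.trans_apply, hg, hh]⟩

theorem WEquiv.symm {a b : ι → F} (h : WEquiv a b) : WEquiv b a := by
  obtain ⟨g, hg⟩ := h
  exact ⟨g.symm, fun x => by rw [← hg, LinearEquiv.apply_symm_apply]⟩

/-- scaling each weight by a non-zero square does not change the class -/
theorem WEquiv.mul_sq (w : ι → F) (s : ι → F) (hs : ∀ i, s i ≠ 0) :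
    WEquiv w (fun i => w i * s i ^ 2) := by
  refine ⟨LinearEquiv.piCongrRight fun i => LinearEquiv.smulOfNeZero F F (s i) (hs i), ?_⟩
  intro x
  simp [wsq, LinearEquiv.piCongrRight, mul_pow, mul_assoc]

section finite
variable [Fintype F]

/-- In a finite field of odd characteristic a binary diagonal form represents every element. -/
theorem binary_represents (h2 : (2 : F) ≠ 0) {a b : F} (ha : a ≠ 0) (hb : b ≠ 0) (c : F) :
    ∃ s t : F, a * s ^ 2 + b * t ^ 2 = c := by
  have hchar : ringChar F ≠ 2 := by
    intro h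
    apply h2
    have := ringChar.charP F
    rw [h] at this
    exact CharP.cast_eq_zero F 2
  have hodd : Fintype.card F % 2 = 1 := FiniteField.odd_card_of_char_ne_two hchar
  obtain ⟨s, t, hst⟩ := FiniteField.exists_root_sum_quadratic
    (f := Polynomial.C a * Polynomial.X ^ 2 + Polynomial.C (-c))
    (g := Polynomial.C b * Polynomial.X ^ 2)
    (by rw [Polynomial.degree_add_eq_left_of_degree_lt] <;>
          rw [Polynomial.degree_C_mul_X_pow 2 ha]
        · rfl
        · exact lt_of_le_of_lt Polynomial.degree_C_le (by norm_num))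
    (by rw [Polynomial.degree_C_mul_X_pow 2 hb]; rfl) hodd
  refine ⟨s, t, ?_⟩
  simp at hst
  linear_combination hst

open Classical in
/-- Change two weights `a, b` into `c, a b c` (equal to `ab/c` up to squares). -/
theorem wequiv_pair [DecidableEq ι] (h2 : (2 : F) ≠ 0) (w : ι → F) {i j : ι} (hij : i ≠ j)
    (hi : w i ≠ 0) (hj : w j ≠ 0) {c : F} (hc : c ≠ 0) :
    WEquiv w (Function.update (Function.update w i c) j (w i * w j * c)) := by
  obtain ⟨s, t, hst⟩ := binary_represents h2 hi hj c
  let f : (ι → F) →ₗ[F] (ι → F) :=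
    { toFun := fun x => Function.update (Function.update x i (s * x i - w j * t * x j)) j
        (t * x i + w i * s * x j)
      map_add' := by
        intro x y
        ext k
        by_cases hkj : k = j
        · subst hkj; simp; ring
        · by_cases hki : k = i
          · subst hki; simp [hkj]; ring
          · simp [hkj, hki]
      map_smul' := by
        intro a x
        ext k
        by_cases hkj : k = j
        · subst hkj; simp; ring
        · by_cases hki : k = i
          · subst hki; simp [hkj]; ring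
          · simp [hkj, hki] }
  have hinj : Function.Injective f := by
    rw [injective_iff_map_eq_zero]
    intro x hx
    have hxj : t * x i + w i * s * x j = 0 := by simpa [f] using congrFun hx j
    have hxi : s * x i - w j * t * x j = 0 := by simpa [f, hij] using congrFun hx i
    have e1 : c * x i = 0 := by rw [← hst]; linear_combination (w i * s) * hxi + (w j * t) * hxj
    have e2 : c * x j = 0 := by rw [← hst]; linear_combination s * hxj - t * hxi
    ext k
    by_cases hkj : k = j
    · subst hkj; simpa [hc] using e2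
    · by_cases hki : k = i
      · subst hki; simpa [hc] using e1
      · simpa [f, hkj, hki] using congrFun hx k
  refine ⟨LinearEquiv.ofBijective f ⟨hinj, LinearMap.injective_iff_surjective.1 hinj⟩, fun x => ?_⟩
  have key : ∀ (u : ι → F), ∑ k, u k = u i + u j + ∑ k ∈ (Finset.univ.erase i).erase j, u k := by
    intro u
    rw [← Finset.add_sum_erase _ _ (Finset.mem_univ i),
      ← Finset.add_sum_erase (Finset.univ.erase i) _ (show j ∈ Finset.univ.erase i by simp [hij.symm]),
      add_assoc]
  show wsq w (f x) = _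
  unfold wsq
  rw [key, key]
  have hrest : ∀ k ∈ (Finset.univ.erase i).erase j, w k * f x k ^ 2 =
      Function.update (Function.update w i c) j (w i * w j * c) k * x k ^ 2 := by
    intro k hk
    simp only [Finset.mem_erase, ne_eq, Finset.mem_univ, and_true] at hk
    simp [f, hk.1, hk.2]
  rw [Finset.sum_congr rfl hrest]
  simp [f, hij]
  rw [← hst]
  ring

/-- A weight vector with non-zero entries can be turned into one equal to `1` outside one index. -/
theorem wequiv_ones (h2 : (2 : F) ≠ 0) (w : ι → F) (hw : ∀ i, w i ≠ 0) (i₀ : ι) :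
    ∃ d : F, d ≠ 0 ∧ (∃ e : F, (∏ i, w i) = d * e ^ 2) ∧
      WEquiv w (fun i => open Classical in if i = i₀ then d else 1) := by
  classical
  have h : ∀ s : Finset ι, i₀ ∉ s → ∃ w' : ι → F, (∀ i, w' i ≠ 0) ∧ (∀ i ∈ s, w' i = 1) ∧
      (∀ i, i ≠ i₀ → i ∉ s → w' i = w i) ∧ (∃ e : F, (∏ i, w i) = (∏ i, w' i) * e ^ 2) ∧
      WEquiv w w' := by
    intro s
    induction s using Finset.induction with
    | empty => exact fun _ => ⟨w, hw, by simp, fun i _ _ => rfl, ⟨1, by simp⟩, WEquiv.refl w⟩
    | insert a s has ih =>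
      intro hi0
      simp only [Finset.mem_insert, not_or] at hi0
      obtain ⟨w', h1, hs, hout, ⟨e, he⟩, heq⟩ := ih hi0.2
      set w'' := Function.update (Function.update w' a 1) i₀ (w' a * w' i₀ * 1) with hw''
      refine ⟨w'', ?_, ?_, ?_, ⟨e, ?_⟩, heq.trans (wequiv_pair h2 w' (Ne.symm hi0.1) (h1 a) (h1 i₀) one_ne_zero)⟩
      · intro i
        by_cases hii : i = i₀
        · subst hii; simp [w'', h1]
        · by_cases hia : i = a <;> simp [w'', hii, hia, h1, Ne.symm hi0.1]
      · intro i hi
        rcases Finset.mem_insert.1 hi with rfl | hi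
        · simp [w'', Ne.symm hi0.1]
        · have : i ≠ a := fun h => has (h ▸ hi)
          have : i ≠ i₀ := fun h => hi0.2 (h ▸ hi)
          simp [w'', *]
      · intro i hii hi
        simp only [Finset.mem_insert, not_or] at hi
        simp [w'', hii, hi.1, hout i hii hi.2]
      · rw [he]
        congr 1
        have key : ∀ (u : ι → F), ∏ k, u k = u a * u i₀ * ∏ k ∈ (Finset.univ.erase a).erase i₀, u k := by
          intro u
          rw [← Finset.mul_prod_erase _ _ (Finset.mem_univ a),
            ← Finset.mul_prod_erase (Finset.univ.erase a) _ (show i₀ ∈ Finset.univ.erase a by simp [hi0.1]),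
            mul_assoc]
        have hrest : ∀ k ∈ (Finset.univ.erase a).erase i₀, w'' k = w' k := by
          intro k hk
          simp only [Finset.mem_erase, ne_eq, Finset.mem_univ, and_true] at hk
          simp [w'', hk.1, hk.2]
        rw [key w', key w'', Finset.prod_congr rfl hrest]
        simp [w'', Ne.symm hi0.1]
  obtain ⟨w', h1, hs, -, ⟨e, he⟩, heq⟩ := h (Finset.univ.erase i₀) (by simp)
  have hw' : w' = fun i => if i = i₀ then w' i₀ else 1 := by
    funext i
    by_cases hii : i = i₀
    · simp [hii]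
    · simp [hii, hs i (by simp [hii])]
  refine ⟨w' i₀, h1 i₀, ⟨e, ?_⟩, hw' ▸ heq⟩
  rw [he, Finset.prod_eq_single i₀ (fun i _ hii => hs i (by simp [hii])) (by simp)]

/-- Diagonal forms with the same discriminant up to squares are equivalent. -/
theorem wequiv_of_prod [Nonempty ι] (h2 : (2 : F) ≠ 0) {w w' : ι → F} (hw : ∀ i, w i ≠ 0)
    (hw' : ∀ i, w' i ≠ 0) {e : F} (he : (∏ i, w i) = (∏ i, w' i) * e ^ 2) : WEquiv w w' := by
  classical
  obtain ⟨i₀⟩ := ‹Nonempty ι›
  obtain ⟨d, hd, ⟨a, ha⟩, h⟩ := wequiv_ones h2 w hw i₀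
  obtain ⟨d', hd', ⟨b, hb⟩, h'⟩ := wequiv_ones h2 w' hw' i₀
  have hne : d * a ^ 2 ≠ 0 := by rw [← ha]; exact Finset.prod_ne_zero_iff.2 fun i _ => hw i
  have hne' : d' * b ^ 2 * e ^ 2 ≠ 0 := by rw [← hb, ← he]; exact Finset.prod_ne_zero_iff.2 fun i _ => hw i
  have ha0 : a ≠ 0 := by rintro rfl; simp at hne
  have hbe : b * e ≠ 0 := by
    intro h0
    apply hne'
    linear_combination (d' * (b * e)) * h0
  have hdd : d * a ^ 2 = d' * b ^ 2 * e ^ 2 := by rw [← ha, ← hb, he]
  refine h.trans (WEquiv.trans ?_ h'.symm)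
  have hs := WEquiv.mul_sq (fun i => if i = i₀ then d else 1)
    (fun i => if i = i₀ then a / (b * e) else 1)
    (fun i => by split <;> simp [ha0, hbe])
  convert hs using 1
  funext i
  split
  · obtain ⟨hb0, he0⟩ := mul_ne_zero_iff.1 hbe
    have key : d * (a / (b * e)) ^ 2 = d' := by
      field_simp
      linear_combination hdd
    exact key.symm
  · simp

/-- In odd dimension every diagonal form is a scalar multiple of the sum of squares. -/
theorem wequiv_const_of_odd (h2 : (2 : F) ≠ 0) (hodd : Odd (Fintype.card ι)) (w : ι → F)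
    (hw : ∀ i, w i ≠ 0) : ∃ c : F, c ≠ 0 ∧ WEquiv w (fun _ => c) := by
  have hne : Nonempty ι := Fintype.card_pos_iff.1 (Nat.pos_of_ne_zero (by
    intro h; rw [h] at hodd; exact Nat.not_odd_zero hodd))
  obtain ⟨k, hk⟩ := hodd
  refine ⟨∏ i, w i, Finset.prod_ne_zero_iff.2 fun i _ => hw i, ?_⟩
  refine wequiv_of_prod h2 hw (fun _ => Finset.prod_ne_zero_iff.2 fun i _ => hw i)
    (e := ((∏ i, w i) ^ k)⁻¹) ?_
  have hP : (∏ i, w i) ≠ 0 := Finset.prod_ne_zero_iff.2 fun i _ => hw i
  rw [Finset.prod_const, Finset.card_univ, hk]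
  field_simp
  ring

/-- A quadratic form with non-degenerate polar form is equivalent to a diagonal form. -/
theorem exists_wsq (h2 : (2 : F) ≠ 0) {V : Type*} [AddCommGroup V] [Module F V] [FiniteDimensional F V]
    (Q : QuadraticForm F V) (hQ : (QuadraticMap.polarBilin Q).Nondegenerate) {n : ℕ}
    (hn : Module.finrank F V = n) :
    ∃ (w : Fin n → F) (g : (Fin n → F) ≃ₗ[F] V), (∀ i, w i ≠ 0) ∧ ∀ x, Q (g x) = wsq w x := by
  haveI : Invertible (2 : F) := invertibleOfNonzero h2
  subst hn
  have hsep : (QuadraticMap.associated (R := F) Q).SeparatingLeft := by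
    intro x hx
    refine hQ.1 x fun y => ?_
    have := hx y
    simp [QuadraticMap.associated_apply] at this
    simpa [QuadraticMap.polar, h2] using this
  obtain ⟨w, ⟨e⟩⟩ := Q.equivalent_weightedSumSquares_units_of_nondegenerate' hsep
  refine ⟨fun i => (w i : F), e.symm.toLinearEquiv, fun i => (w i).ne_zero, fun x => ?_⟩
  show Q (e.symm x) = _
  rw [QuadraticMap.IsometryEquiv.map_app, QuadraticMap.weightedSumSquares_apply]
  simp [wsq, sq, Units.smul_def]

/-- In odd dimension, a form with non-degenerate polar form is a multiple of a sum of squares. -/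
theorem exists_sum_sq_of_odd (h2 : (2 : F) ≠ 0) {V : Type*} [AddCommGroup V] [Module F V]
    [FiniteDimensional F V] (Q : QuadraticForm F V) (hQ : (QuadraticMap.polarBilin Q).Nondegenerate)
    {n : ℕ} (hn : Module.finrank F V = n) (hodd : Odd n) :
    ∃ (c : F) (g : (Fin n → F) ≃ₗ[F] V), c ≠ 0 ∧ ∀ x, Q (g x) = c * ∑ i, x i ^ 2 := by
  obtain ⟨w, g, hw, hg⟩ := exists_wsq h2 Q hQ hn
  obtain ⟨c, hc, h, hh⟩ := wequiv_const_of_odd h2 (by simpa using hodd) w hw
  exact ⟨c, h.trans g, hc, fun x => by rw [LinearEquiv.trans_apply, hg, hh, wsq, Finset.mul_sum]⟩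

end finite

end Cfsg.Agent.CG26
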