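import Cfsg.Prelude.Def_Classical
import Cfsg.Agent.CG26.QuadClass

/-!
`PΩ_{2m+1}(F)`, `F` finite of odd characteristic, has an elementary abelian subgroup of order `2^(2m)`.
-/

namespace Cfsg.Agent.CG26

open scoped commutatorElement

variable (F : Type*) [Field F] (n : ℕ)

/-- the isometries of the standard sum of squares -/
def sumSqIso : Subgroup ((Fin n → F) ≃ₗ[F] (Fin n → F)) where
  carrier := {L | ∀ x, ∑ i, L x i ^ 2 = ∑ i, x i ^ 2}
  mul_mem' {a b} ha hb x := by rw [LinearEquiv.mul_apply, ha, hb]
  one_mem' x := rfl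
  inv_mem' {a} ha x := by
    have h := ha (a⁻¹ x)
    rw [show a (a⁻¹ x) = x from a.apply_symm_apply x] at h
    exact h.symm

/-- sign changes -/
def signHom : (Fin n → ℤˣ) →* sumSqIso F n :=
  MonoidHom.mk' (fun e => ⟨LinearEquiv.piCongrRight fun i =>
      LinearEquiv.smulOfUnit (Units.map (Int.castRingHom F).toMonoidHom (e i)), fun x => by
      refine Finset.sum_congr rfl fun i _ => ?_
      rcases Int.units_eq_one_or (e i) with h | h <;>
        simp [LinearEquiv.piCongrRight, LinearEquiv.smulOfUnit, h, Units.smul_def]⟩)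
    (fun a b => by
      apply Subtype.ext
      refine LinearEquiv.ext fun x => funext fun i => ?_
      simp [LinearEquiv.piCongrRight, LinearEquiv.smulOfUnit, Units.smul_def, mul_assoc])

theorem signHom_apply (e : Fin n → ℤˣ) (x : Fin n → F) (i : Fin n) :
    (signHom F n e).1 x i = ((e i : ℤ) : F) * x i := by
  simp [signHom, LinearEquiv.piCongrRight, LinearEquiv.smulOfUnit, Units.smul_def]

theorem signHom_injective (h2 : (2 : F) ≠ 0) : Function.Injective (signHom F n) := by
  intro a b h
  funext i
  have := congrArg (fun L => L.1 (fun _ => 1) i) h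
  simp only [signHom_apply, mul_one] at this
  rcases Int.units_eq_one_or (a i) with ha | ha <;> rcases Int.units_eq_one_or (b i) with hb | hb <;>
    simp only [ha, hb, Units.val_one, Units.val_neg, Int.cast_one, Int.cast_neg] at this ⊢
  · exact absurd (by linear_combination this) h2
  · exact absurd (by linear_combination -this) h2

/-- coordinate permutations -/
def permHom : Equiv.Perm (Fin n) →* sumSqIso F n :=
  MonoidHom.mk' (fun σ => ⟨LinearEquiv.funCongrLeft F F σ⁻¹, fun x =>
      Equiv.sum_comp σ⁻¹ (fun i => x i ^ 2)⟩)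
    (fun a b => by
      apply Subtype.ext
      refine LinearEquiv.ext fun x => funext fun i => ?_
      simp [LinearMap.funLeft_apply])

theorem permHom_apply (σ : Equiv.Perm (Fin n)) (x : Fin n → F) (i : Fin n) :
    (permHom F n σ).1 x i = x (σ⁻¹ i) := rfl

theorem perm_sign_conj (σ : Equiv.Perm (Fin n)) (e : Fin n → ℤˣ) :
    permHom F n σ * signHom F n e * (permHom F n σ)⁻¹ = signHom F n (fun i => e (σ⁻¹ i)) := by
  rw [mul_inv_eq_iff_eq_mul]
  apply Subtype.ext
  refine LinearEquiv.ext fun x => funext fun i => ?_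
  simp only [Subgroup.coe_mul, LinearEquiv.mul_apply, signHom_apply, permHom_apply]

theorem sign_mem_comm (σ : Equiv.Perm (Fin n)) (e : Fin n → ℤˣ) :
    signHom F n (e * (fun i => e (σ⁻¹ i))⁻¹) ∈ commutator (sumSqIso F n) := by
  rw [map_mul, map_inv, ← perm_sign_conj]
  have h : signHom F n e * (permHom F n σ * signHom F n e * (permHom F n σ)⁻¹)⁻¹ =
      ⁅signHom F n e, permHom F n σ⁆ := by
    rw [commutatorElement_def]
    group
  rw [h, commutator_def]
  exact Subgroup.commutator_mem_commutator (Subgroup.mem_top _) (Subgroup.mem_top _)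

variable {F}

/-- the quadratic form `quadFormOdd` as a `QuadraticForm` -/
def oddQuad (m : ℕ) : QuadraticForm F (Unit ⊕ (Fin m ⊕ Fin m) → F) :=
  QuadraticMap.linMulLin (LinearMap.proj (Sum.inl ())) (LinearMap.proj (Sum.inl ())) +
    ∑ i : Fin m, QuadraticMap.linMulLin (LinearMap.proj (Sum.inr (Sum.inl i)))
      (LinearMap.proj (Sum.inr (Sum.inr i)))

theorem oddQuad_apply (m : ℕ) (v : Unit ⊕ (Fin m ⊕ Fin m) → F) :
    oddQuad m v = Cfsg.quadFormOdd m F v := by
  simp [oddQuad, Cfsg.quadFormOdd, QuadraticMap.sum_apply, sq]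

theorem oddQuad_nondeg (h2 : (2 : F) ≠ 0) (m : ℕ) :
    (QuadraticMap.polarBilin (oddQuad (F := F) m)).Nondegenerate := by
  have key : ∀ x y : Unit ⊕ (Fin m ⊕ Fin m) → F, QuadraticMap.polar (oddQuad (F := F) m) x y =
      2 * (x (.inl ()) * y (.inl ())) + ∑ i : Fin m,
        (x (.inr (.inl i)) * y (.inr (.inr i)) + y (.inr (.inl i)) * x (.inr (.inr i))) := by
    intro x y
    simp only [QuadraticMap.polar, oddQuad_apply, Cfsg.quadFormOdd, Pi.add_apply]
    rw [Finset.sum_add_distrib]
    have : ∑ i : Fin m, (x (.inr (.inl i)) + y (.inr (.inl i))) * (x (.inr (.inr i)) + y (.inr (.inr i))) =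
        ∑ i : Fin m, x (.inr (.inl i)) * x (.inr (.inr i)) +
        ∑ i : Fin m, y (.inr (.inl i)) * y (.inr (.inr i)) +
        (∑ i : Fin m, x (.inr (.inl i)) * y (.inr (.inr i)) +
        ∑ i : Fin m, y (.inr (.inl i)) * x (.inr (.inr i))) := by
      simp only [← Finset.sum_add_distrib]
      exact Finset.sum_congr rfl fun i _ => by ring
    rw [this]
    ring
  have main : ∀ x, (∀ y, QuadraticMap.polar (oddQuad (F := F) m) x y = 0) → x = 0 := by
    intro x hx
    funext k
    rcases k with u | i | i
    · have h := hx (Pi.single (Sum.inl ()) 1)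
      simpa [key, h2] using h
    · have h := hx (Pi.single (Sum.inr (Sum.inr i)) 1)
      simpa [key, Pi.single_apply] using h
    · have h := hx (Pi.single (Sum.inr (Sum.inl i)) 1)
      simpa [key, Pi.single_apply] using h
  exact ⟨fun x hx => main x fun y => by simpa using hx y,
    fun x hx => main x fun y => by rw [QuadraticMap.polar_comm]; simpa using hx y⟩

variable {n}

/-- transport along `g` into the isometry group -/
noncomputable def transportHom {ι : Type} [Fintype ι] [DecidableEq ι] (Q : (ι → F) → F) (c : F)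
    (g : (Fin n → F) ≃ₗ[F] (ι → F)) (hg : ∀ x, Q (g x) = c * ∑ i, x i ^ 2) :
    sumSqIso F n →* Cfsg.isometryGroup F Q :=
  MonoidHom.mk' (fun L => ⟨Units.map (LinearMap.toMatrixAlgEquiv' (R := F) (n := ι)).toAlgHom.toMonoidHom
      ((LinearMap.GeneralLinearGroup.generalLinearEquiv F (ι → F)).symm (g.symm.trans (L.1.trans g))),
      fun u _ => by
        show Q (LinearMap.toMatrix' (g.symm.trans (L.1.trans g) : (ι → F) →ₗ[F] (ι → F)) |>.mulVec u) = Q u
        rw [LinearMap.toMatrix'_mulVec]
        show Q (g (L.1 (g.symm u))) = Q u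
        rw [hg, L.2, ← hg, LinearEquiv.apply_symm_apply]⟩)
    (fun a b => by
      have h : g.symm.trans ((a * b : sumSqIso F n).1.trans g) =
          g.symm.trans (a.1.trans g) * g.symm.trans (b.1.trans g) :=
        LinearEquiv.ext fun x => by simp
      apply Subtype.ext
      dsimp only
      rw [h, map_mul, map_mul]
      rfl)

theorem transportHom_injective {ι : Type} [Fintype ι] [DecidableEq ι] (Q : (ι → F) → F) (c : F)
    (g : (Fin n → F) ≃ₗ[F] (ι → F)) (hg : ∀ x, Q (g x) = c * ∑ i, x i ^ 2) :
    Function.Injective (transportHom Q c g hg) := by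
  intro a b h
  have h1 := congrArg (fun z : Cfsg.isometryGroup F Q =>
    (((z : Matrix.GeneralLinearGroup ι F) : Matrix ι ι F))) h
  have h2 : (g.symm.trans (a.1.trans g) : (ι → F) →ₗ[F] (ι → F)) = g.symm.trans (b.1.trans g) :=
    LinearMap.toMatrix'.injective h1
  refine Subtype.ext (LinearEquiv.ext fun x => g.injective ?_)
  simpa using LinearMap.congr_fun h2 (g x)

theorem mem_commutator_map {G H : Type*} [Group G] [Group H] (f : G →* H) {x : G} (hx : x ∈ commutator G) :
    f x ∈ commutator H := by
  have h : (commutator G).map f ≤ commutator H := by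
    rw [commutator_def, Subgroup.map_commutator, commutator_def]
    exact Subgroup.commutator_mono le_top le_top
  exact h (Subgroup.mem_map_of_mem f hx)

set_option maxHeartbeats 1000000 in
theorem pomega_odd_elem_two [Fintype F] (h2 : (2 : F) ≠ 0) (m : ℕ) (hm : 1 ≤ m) :
    ∃ E : Subgroup (Cfsg.POmega F (Cfsg.quadFormOdd m F)), (∀ x ∈ E, x * x = 1) ∧
      Nat.card E = 2 ^ (2 * m) := by
  obtain ⟨c, g, hc, hg⟩ := exists_sum_sq_of_odd h2 (oddQuad (F := F) m) (oddQuad_nondeg h2 m)
    (n := 2 * m + 1) (by simp; omega) ⟨m, rfl⟩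
  have hg' : ∀ x, Cfsg.quadFormOdd m F (g x) = c * ∑ i, x i ^ 2 := fun x => by rw [← oddQuad_apply, hg]
  let T := transportHom (Cfsg.quadFormOdd m F) c g hg'
  let eps : (Fin (2 * m) → ℤˣ) →* (Fin (2 * m + 1) → ℤˣ) :=
    MonoidHom.mk' (fun h => Fin.cons (∏ i, h i) h) (fun a b => by
      funext i
      refine Fin.cases ?_ ?_ i <;> simp [Finset.prod_mul_distrib])
  have hmem : ∀ h, signHom F _ (eps h) ∈ commutator (sumSqIso F (2 * m + 1)) := by
    intro h
    have hdec : eps h = ∏ i, (Pi.mulSingle (Fin.succ i) (h i) * Pi.mulSingle 0 (h i)) := by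
      funext j
      rw [Finset.prod_apply]
      refine Fin.cases ?_ ?_ j
      · simp [eps, Pi.mulSingle_apply, (Fin.succ_ne_zero _).symm]
      · intro j
        simp [eps, Pi.mulSingle_apply, Fin.succ_ne_zero, Finset.prod_ite_eq, Fin.succ_inj]
    show eps h ∈ (commutator (sumSqIso F (2 * m + 1))).comap (signHom F _)
    rw [hdec]
    refine Subgroup.prod_mem _ fun i _ => ?_
    show signHom F _ _ ∈ commutator (sumSqIso F (2 * m + 1))
    rcases Int.units_eq_one_or (h i) with e | e
    · simp [e]
    · have := sign_mem_comm F _ (Equiv.swap (Fin.succ i) 0) (Pi.mulSingle (Fin.succ i) (-1 : ℤˣ))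
      convert this using 2
      funext j
      rw [e]
      simp only [Pi.mul_apply, Pi.inv_apply, Int.units_inv_eq_self, Equiv.swap_inv]
      by_cases hj : j = Fin.succ i
      · subst hj; simp [Fin.succ_ne_zero]
      · by_cases hj0 : j = 0
        · subst hj0; simp [(Fin.succ_ne_zero i).symm]
        · simp [hj, hj0, Equiv.swap_apply_of_ne_of_ne hj hj0]
  let f : (Fin (2 * m) → ℤˣ) →* Cfsg.Omega F (Cfsg.quadFormOdd m F) :=
    (T.comp ((signHom F _).comp eps)).codRestrict _ (fun h => mem_commutator_map T (hmem h))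
  let p : (Fin (2 * m) → ℤˣ) →* Cfsg.POmega F (Cfsg.quadFormOdd m F) :=
    (QuotientGroup.mk' (Subgroup.center _)).comp f
  have hp : Function.Injective p := by
    rw [injective_iff_map_eq_one]
    intro h hh
    have hz : f h ∈ Subgroup.center _ := (QuotientGroup.eq_one_iff _).1 hh
    have hinv : ∀ σ τ : Equiv.Perm (Fin (2 * m + 1)), ∀ i, eps h (⁅σ, τ⁆⁻¹ i) = eps h i := by
      intro σ τ
      have hP : permHom F _ ⁅σ, τ⁆ ∈ commutator (sumSqIso F (2 * m + 1)) := by
        rw [map_commutatorElement, commutator_def]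
        exact Subgroup.commutator_mem_commutator (Subgroup.mem_top _) (Subgroup.mem_top _)
      have h1 := congrArg Subtype.val
        (Subgroup.mem_center_iff.1 hz ⟨T (permHom F _ ⁅σ, τ⁆), mem_commutator_map T hP⟩)
      have h2' : T (permHom F _ ⁅σ, τ⁆) * T (signHom F _ (eps h)) =
          T (signHom F _ (eps h)) * T (permHom F _ ⁅σ, τ⁆) := h1
      rw [← map_mul, ← map_mul] at h2'
      have h3 := transportHom_injective _ c g hg' h2'
      have h4 := perm_sign_conj F _ ⁅σ, τ⁆ (eps h)
      rw [h3, mul_inv_cancel_right] at h4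
      exact fun i => (congrFun (signHom_injective F _ h2 h4) i).symm
    have hconst : ∀ i, eps h i = eps h 0 := by
      intro k
      by_cases hk : k = 0
      · rw [hk]
      obtain ⟨j, hj0, hjk⟩ : ∃ j : Fin (2 * m + 1), j ≠ 0 ∧ j ≠ k := by
        by_contra hne
        push Not at hne
        have : (Finset.univ : Finset (Fin (2 * m + 1))) ⊆ {0, k} := fun x _ => by
          by_cases hx : x = 0
          · simp [hx]
          · simp [hne x hx]
        have := (Finset.card_le_card this).trans Finset.card_le_two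
        simp at this
        omega
      have := hinv (Equiv.swap 0 j) (Equiv.swap 0 k) 0
      rw [commutatorElement_inv, commutatorElement_def] at this
      simpa [Equiv.swap_inv, Equiv.Perm.mul_apply, Equiv.swap_apply_of_ne_of_ne hj0 hjk,
        Equiv.swap_apply_of_ne_of_ne hk (Ne.symm hjk)] using this
    have hs : ∀ i, h i = eps h 0 := fun i => by simpa [eps] using hconst (Fin.succ i)
    have h0 : eps h 0 = 1 := by
      have : eps h 0 = ∏ i, h i := by simp [eps]
      rw [this, Finset.prod_congr rfl (fun i _ => hs i), Finset.prod_const, Finset.card_univ,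
        Fintype.card_fin, pow_mul, Int.units_sq, one_pow]
    funext i
    rw [hs i, h0]
    rfl
  refine ⟨p.range, ?_, ?_⟩
  · rintro _ ⟨h, rfl⟩
    rw [← map_mul, show h * h = 1 from funext fun i => Int.units_mul_self _, map_one]
  · rw [Nat.card_congr (MonoidHom.ofInjective hp).toEquiv.symm, Nat.card_fun]
    simp [Nat.card_eq_fintype_card]

end Cfsg.Agent.CG26
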