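import Mathlib

/-!
An elementary bound for sets of endomorphisms of a symplectic space which are closed under products,
square to `±1` and commute up to sign.
-/

namespace Cfsg.Agent.CG26

universe u v

variable {F : Type u} [Field F]

/-- A non-degenerate alternating form lives in even dimension (odd characteristic). -/
theorem even_finrank_of_alt (h2 : (2 : F) ≠ 0) {V : Type v} [AddCommGroup V] [Module F V]
    [FiniteDimensional F V] (B : LinearMap.BilinForm F V) (halt : ∀ x, B x x = 0)
    (hnd : ∀ x, (∀ y, B x y = 0) → x = 0) : Even (Module.finrank F V) := by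
  by_contra h
  rw [Nat.not_even_iff_odd] at h
  have skew : ∀ x y, B y x = - B x y := by
    intro x y
    have := halt (x + y)
    simp [map_add, halt] at this
    linear_combination this
  let b := Module.finBasis F V
  let M := LinearMap.BilinForm.toMatrix b B
  have hM : M.transpose = -M := by
    ext i j
    rw [Matrix.transpose_apply, Matrix.neg_apply]
    simp only [M, LinearMap.BilinForm.toMatrix_apply]
    exact skew _ _
  have hd : M.det = - M.det := by
    conv_lhs => rw [← Matrix.det_transpose, hM, Matrix.det_neg, Fintype.card_fin, h.neg_one_pow]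
    ring
  have hsep : M.det ≠ 0 := (LinearMap.BilinForm.nondegenerate_iff_det_ne_zero b).1
    ⟨hnd, fun x hx => hnd x fun y => by rw [skew, hx, neg_zero]⟩
  have h0 : (2 : F) * M.det = 0 := by linear_combination hd
  simp [h2, hsep] at h0

/-- The hypotheses on a set of endomorphisms. -/
structure GoodSet {V : Type v} [AddCommGroup V] [Module F V] (B : LinearMap.BilinForm F V)
    (S : Finset (Module.End F V)) : Prop where
  one_mem : (1 : Module.End F V) ∈ S
  mul_mem : ∀ a ∈ S, ∀ b ∈ S, a * b ∈ S
  pres : ∀ a ∈ S, ∀ x y, B (a x) (a y) = B x y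
  sq : ∀ a ∈ S, a * a = 1 ∨ a * a = -1
  comm : ∀ a ∈ S, ∀ b ∈ S, a * b = b * a ∨ a * b = -(b * a)

variable {V : Type v} [AddCommGroup V] [Module F V] {B : LinearMap.BilinForm F V}
  {S : Finset (Module.End F V)}

theorem GoodSet.pow_four (hS : GoodSet B S) {a : Module.End F V} (ha : a ∈ S) :
    (a * a * a) * a = 1 ∧ a * (a * a * a) = 1 := by
  have h : a * a * (a * a) = 1 := by rcases hS.sq a ha with h | h <;> rw [h] <;> noncomm_ring
  constructor
  · rw [mul_assoc (a * a)]; exact h
  · rw [← h]; noncomm_ring

theorem GoodSet.cube_mem (hS : GoodSet B S) {a : Module.End F V} (ha : a ∈ S) :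
    a * a * a ∈ S := hS.mul_mem _ (hS.mul_mem _ ha _ ha) _ ha

/-- the restriction of endomorphisms to a submodule (junk `1` when not invariant) -/
noncomputable def res (W : Submodule F V) (a : Module.End F V) : Module.End F W :=
  open Classical in if h : ∀ x ∈ W, a x ∈ W then a.restrict h else 1

theorem res_apply (W : Submodule F V) (a : Module.End F V) (h : ∀ x ∈ W, a x ∈ W) (x : W) :
    (res W a x : V) = a x := by
  rw [res, dif_pos h]; rfl

theorem res_one (W : Submodule F V) : res W (1 : Module.End F V) = 1 := by
  ext x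
  rw [res_apply W 1 (fun x hx => hx)]
  rfl

theorem res_mul (W : Submodule F V) {a b : Module.End F V} (ha : ∀ x ∈ W, a x ∈ W)
    (hb : ∀ x ∈ W, b x ∈ W) : res W (a * b) = res W a * res W b := by
  ext x
  rw [res_apply W (a * b) (fun x hx => ha _ (hb x hx)), Module.End.mul_apply, Module.End.mul_apply,
    res_apply W a ha, res_apply W b hb]

theorem goodSet_image (W : Submodule F V) (T : Finset (Module.End F V)) [DecidableEq (Module.End F W)]
    (hT : GoodSet B T) (hinv : ∀ a ∈ T, ∀ x ∈ W, a x ∈ W) :
    GoodSet (LinearMap.BilinForm.restrict B W) (T.image (res W)) := by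
  constructor
  · exact Finset.mem_image.2 ⟨1, hT.one_mem, res_one W⟩
  · simp only [Finset.mem_image]
    rintro _ ⟨a, ha, rfl⟩ _ ⟨b, hb, rfl⟩
    exact ⟨a * b, hT.mul_mem a ha b hb, res_mul W (hinv a ha) (hinv b hb)⟩
  · simp only [Finset.mem_image]
    rintro _ ⟨a, ha, rfl⟩ x y
    show B (res W a x : V) (res W a y : V) = B x y
    rw [res_apply W a (hinv a ha), res_apply W a (hinv a ha), hT.pres a ha]
  · simp only [Finset.mem_image]
    rintro _ ⟨a, ha, rfl⟩
    rcases hT.sq a ha with h | h
    · exact Or.inl (by rw [← res_mul W (hinv a ha) (hinv a ha), h, res_one])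
    · refine Or.inr (LinearMap.ext fun x => Subtype.ext ?_)
      rw [Module.End.mul_apply, res_apply W a (hinv a ha), res_apply W a (hinv a ha),
        ← Module.End.mul_apply, h]
      rfl
  · simp only [Finset.mem_image]
    rintro _ ⟨a, ha, rfl⟩ _ ⟨b, hb, rfl⟩
    rcases hT.comm a ha b hb with h | h
    · exact Or.inl (by rw [← res_mul W (hinv a ha) (hinv b hb), h, res_mul W (hinv b hb) (hinv a ha)])
    · refine Or.inr (LinearMap.ext fun x => Subtype.ext ?_)
      rw [LinearMap.neg_apply, Submodule.coe_neg, Module.End.mul_apply, Module.End.mul_apply,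
        res_apply W a (hinv a ha), res_apply W b (hinv b hb), res_apply W b (hinv b hb),
        res_apply W a (hinv a ha), ← Module.End.mul_apply, h]
      rfl

/-- Counting through the restriction map. -/
theorem GoodSet.card_le_image_mul (W : Submodule F V) [DecidableEq (Module.End F W)]
    [DecidableEq (Module.End F V)] (hS : GoodSet B S) (hinv : ∀ a ∈ S, ∀ x ∈ W, a x ∈ W) (k : ℕ)
    (hk : (S.filter (fun a => res W a = 1)).card ≤ k) :
    S.card ≤ k * (S.image (res W)).card := by
  refine Finset.card_le_mul_card_image S k fun t ht => ?_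
  obtain ⟨s₀, hs₀, rfl⟩ := Finset.mem_image.1 ht
  refine le_trans (Finset.card_le_card_of_injOn (fun s => (s₀ * s₀ * s₀) * s) ?_ ?_) hk
  · intro s hs
    simp only [Finset.coe_filter, Set.mem_ofPred_eq] at hs ⊢
    refine ⟨hS.mul_mem _ (hS.cube_mem hs₀) _ hs.1, ?_⟩
    rw [res_mul W (hinv _ (hS.cube_mem hs₀)) (hinv s hs.1), hs.2,
      ← res_mul W (hinv _ (hS.cube_mem hs₀)) (hinv s₀ hs₀), (hS.pow_four hs₀).1, res_one]
  · intro s _ s' _ h
    simp only at h
    calc s = (s₀ * (s₀ * s₀ * s₀)) * s := by rw [(hS.pow_four hs₀).2, one_mul]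
      _ = s₀ * ((s₀ * s₀ * s₀) * s') := by rw [mul_assoc, h]
      _ = (s₀ * (s₀ * s₀ * s₀)) * s' := (mul_assoc _ _ _).symm
      _ = s' := by rw [(hS.pow_four hs₀).2, one_mul]

/-- The two eigenspaces of an isometric involution. -/
theorem exists_eigen (h2 : (2 : F) ≠ 0) [FiniteDimensional F V] (halt : ∀ x, B x x = 0)
    (hnd : ∀ x, (∀ y, B x y = 0) → x = 0) {g : Module.End F V} (hg : g * g = 1)
    (hpres : ∀ x y, B (g x) (g y) = B x y) (hg1 : g ≠ 1) (hg2 : g ≠ -1) :
    ∃ (P M : Submodule F V) (a b : ℕ), 1 ≤ a ∧ 1 ≤ b ∧ Module.finrank F P = 2 * a ∧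
      Module.finrank F M = 2 * b ∧ 2 * a + 2 * b = Module.finrank F V ∧
      (∀ x ∈ P, g x = x) ∧ (∀ x ∈ M, g x = -x) ∧ (∀ x, g x = x → x ∈ P) ∧ (∀ x, g x = -x → x ∈ M) ∧
      (∀ x ∈ P, (∀ y ∈ P, B x y = 0) → x = 0) ∧ (∀ x ∈ M, (∀ y ∈ M, B x y = 0) → x = 0) ∧
      (∀ f f' : Module.End F V, (∀ x ∈ P, f x = f' x) → (∀ x ∈ M, f x = f' x) → f = f') := by
  let P := LinearMap.ker (g - 1)
  let M := LinearMap.ker (g + 1)
  have hgg : ∀ x, g (g x) = x := fun x => by rw [← Module.End.mul_apply, hg]; rfl
  have hP : ∀ x, x ∈ P ↔ g x = x := fun x => by simp [P, sub_eq_zero]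
  have hM : ∀ x, x ∈ M ↔ g x = -x := fun x => by simp [M, add_eq_zero_iff_eq_neg]
  have hdec : ∀ x, (2⁻¹ : F) • (x + g x) ∈ P ∧ (2⁻¹ : F) • (x - g x) ∈ M ∧
      x = (2⁻¹ : F) • (x + g x) + (2⁻¹ : F) • (x - g x) := by
    intro x
    refine ⟨(hP _).2 ?_, (hM _).2 ?_, ?_⟩
    · rw [map_smul, map_add, hgg, add_comm]
    · rw [map_smul, map_sub, hgg, ← smul_neg, neg_sub]
    · rw [← smul_add]
      have : x + g x + (x - g x) = (2 : F) • x := by rw [two_smul]; abel
      rw [this, inv_smul_smul₀ h2]
  have horth : ∀ x ∈ P, ∀ y ∈ M, B x y = 0 := by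
    intro x hx y hy
    have h := hpres x y
    rw [(hP x).1 hx, (hM y).1 hy, map_neg] at h
    have : (2 : F) * B x y = 0 := by linear_combination -h
    exact (mul_eq_zero.1 this).resolve_left h2
  have hort' : ∀ x ∈ M, ∀ y ∈ P, B x y = 0 := by
    intro x hx y hy
    have := halt (x + y)
    simp [map_add, halt, horth y hy x hx] at this
    exact this
  have hnP : ∀ x ∈ P, (∀ y ∈ P, B x y = 0) → x = 0 := fun x hx h => hnd x fun y => by
    obtain ⟨h1, h2', h3⟩ := hdec y
    rw [h3, map_add, h _ h1, horth _ hx _ h2', add_zero]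
  have hnM : ∀ x ∈ M, (∀ y ∈ M, B x y = 0) → x = 0 := fun x hx h => hnd x fun y => by
    obtain ⟨h1, h2', h3⟩ := hdec y
    rw [h3, map_add, h _ h2', hort' _ hx _ h1, zero_add]
  have hcompl : IsCompl P M := by
    constructor
    · rw [Submodule.disjoint_def]
      intro x h1 h1'
      have h := ((hP x).1 h1).symm.trans ((hM x).1 h1')
      have : (2 : F) • x = 0 := by rw [two_smul]; nth_rewrite 2 [h]; rw [add_neg_cancel]
      exact (smul_eq_zero.1 this).resolve_left h2
    · rw [codisjoint_iff, eq_top_iff]
      intro x _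
      obtain ⟨h1, h2', h3⟩ := hdec x
      rw [h3]
      exact Submodule.add_mem_sup h1 h2'
  have hext : ∀ f f' : Module.End F V, (∀ x ∈ P, f x = f' x) → (∀ x ∈ M, f x = f' x) → f = f' := by
    intro f f' h h'
    ext x
    obtain ⟨h1, h2', h3⟩ := hdec x
    rw [h3, map_add, map_add, h _ h1, h' _ h2']
  obtain ⟨a, ha⟩ := even_finrank_of_alt h2 (LinearMap.BilinForm.restrict B P) (fun x => halt _)
    (fun x hx => Subtype.ext (hnP _ x.2 fun y hy => hx ⟨y, hy⟩))
  obtain ⟨b, hb⟩ := even_finrank_of_alt h2 (LinearMap.BilinForm.restrict B M) (fun x => halt _)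
    (fun x hx => Subtype.ext (hnM _ x.2 fun y hy => hx ⟨y, hy⟩))
  have hsum := Submodule.finrank_add_eq_of_isCompl hcompl
  refine ⟨P, M, a, b, ?_, ?_, by omega, by omega, by omega, fun x => (hP x).1, fun x => (hM x).1,
    fun x => (hP x).2, fun x => (hM x).2, hnP, hnM, hext⟩
  · by_contra h0
    have hbot : P = ⊥ := Submodule.finrank_eq_zero.1 (by omega)
    refine hg2 (hext g (-1) (fun x hx => ?_) fun x hx => by simp [(hM x).1 hx])
    rw [hbot, Submodule.mem_bot] at hx
    simp [hx]
  · by_contra h0
    have hbot : M = ⊥ := Submodule.finrank_eq_zero.1 (by omega)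
    refine hg1 (hext g 1 (fun x hx => by simp [(hP x).1 hx]) fun x hx => ?_)
    rw [hbot, Submodule.mem_bot] at hx
    simp [hx]

theorem neg_one_ne_one (h2 : (2 : F) ≠ 0) {x : V} (hx : x ≠ 0) : (-1 : Module.End F V) x ≠ x := by
  intro h
  apply hx
  have : (2 : F) • x = 0 := by
    rw [two_smul]
    simp at h
    rw [← neg_eq_iff_add_eq_zero]
    exact h
  exact (smul_eq_zero.1 this).resolve_left h2

/-- Commuting isometric involutions of a symplectic space. -/
theorem card_le_of_invol (h2 : (2 : F) ≠ 0) : ∀ (d : ℕ) {V : Type v} [AddCommGroup V] [Module F V]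
    [FiniteDimensional F V] (B : LinearMap.BilinForm F V), Module.finrank F V = 2 * d →
    (∀ x, B x x = 0) → (∀ x, (∀ y, B x y = 0) → x = 0) → ∀ S : Finset (Module.End F V),
    GoodSet B S → (∀ a ∈ S, a * a = 1) → S.card ≤ 2 ^ d := by
  intro d
  induction d using Nat.strong_induction_on with
  | _ d ih =>
    intro V _ _ _ B hdim halt hnd S hS hinv
    classical
    by_cases hd : d = 0
    · subst hd
      haveI : Subsingleton V := Module.finrank_zero_iff.1 hdim
      refine le_trans (Finset.card_le_one.2 fun a _ b _ => LinearMap.ext fun x => Subsingleton.elim _ _) (by simp)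
    by_cases htriv : ∀ g ∈ S, g = 1 ∨ g = -1
    · refine le_trans (Finset.card_le_card (t := {1, -1}) fun g hg => by simpa using htriv g hg) ?_
      refine le_trans Finset.card_le_two ?_
      calc 2 = 2 ^ 1 := by norm_num
        _ ≤ 2 ^ d := Nat.pow_le_pow_right (by norm_num) (by omega)
    push Not at htriv
    obtain ⟨g, hgS, hg1, hg2⟩ := htriv
    obtain ⟨P, M, a, b, ha1, hb1, hPd, hMd, hab, hgP, hgM, hPg, hMg, hnP, hnM, hext⟩ :=
      exists_eigen h2 halt hnd (hinv g hgS) (hS.pres g hgS) hg1 hg2
    have hcomm : ∀ c ∈ S, c * g = g * c := by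
      intro c hc
      have h := hinv _ (hS.mul_mem c hc g hgS)
      calc c * g = c * (c * g * (c * g)) * g := by rw [h, mul_one]
        _ = (c * c) * (g * c) * (g * g) := by noncomm_ring
        _ = g * c := by rw [hinv c hc, hinv g hgS, one_mul, mul_one]
    have hiP : ∀ c ∈ S, ∀ x ∈ P, c x ∈ P := fun c hc x hx => hPg _ (by
      rw [← Module.End.mul_apply, ← hcomm c hc, Module.End.mul_apply, hgP x hx])
    have hiM : ∀ c ∈ S, ∀ x ∈ M, c x ∈ M := fun c hc x hx => hMg _ (by
      rw [← Module.End.mul_apply, ← hcomm c hc, Module.End.mul_apply, hgM x hx, map_neg])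
    have hP := ih a (by omega) (LinearMap.BilinForm.restrict B P) hPd (fun x => halt _)
      (fun x hx => Subtype.ext (hnP _ x.2 fun y hy => hx ⟨y, hy⟩)) (S.image (res P))
      (goodSet_image P S hS hiP) (fun c' hc' => by
        obtain ⟨c, hcS, rfl⟩ := Finset.mem_image.1 hc'
        rw [← res_mul P (hiP c hcS) (hiP c hcS), hinv c hcS, res_one])
    have hM := ih b (by omega) (LinearMap.BilinForm.restrict B M) hMd (fun x => halt _)
      (fun x hx => Subtype.ext (hnM _ x.2 fun y hy => hx ⟨y, hy⟩)) (S.image (res M))
      (goodSet_image M S hS hiM) (fun c' hc' => by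
        obtain ⟨c, hcS, rfl⟩ := Finset.mem_image.1 hc'
        rw [← res_mul M (hiM c hcS) (hiM c hcS), hinv c hcS, res_one])
    have hinj : (S.filter (fun c => res P c = 1)).card ≤ (S.image (res M)).card := by
      refine Finset.card_le_card_of_injOn (res M) (fun c hc => ?_) ?_
      · simp only [Finset.coe_filter, Set.mem_ofPred_eq] at hc
        exact Finset.mem_coe.2 (Finset.mem_image_of_mem _ hc.1)
      · intro c hc c' hc' h
        simp only [Finset.coe_filter, Set.mem_ofPred_eq] at hc hc'
        refine hext c c' (fun x hx => ?_) (fun x hx => ?_)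
        · rw [← res_apply P c (hiP c hc.1) ⟨x, hx⟩, ← res_apply P c' (hiP c' hc'.1) ⟨x, hx⟩, hc.2, hc'.2]
        · rw [← res_apply M c (hiM c hc.1) ⟨x, hx⟩, ← res_apply M c' (hiM c' hc'.1) ⟨x, hx⟩, h]
    calc S.card ≤ (S.image (res M)).card * (S.image (res P)).card :=
          hS.card_le_image_mul P hiP _ hinj
      _ ≤ 2 ^ b * 2 ^ a := Nat.mul_le_mul hM hP
      _ = 2 ^ d := by rw [← pow_add]; congr 1; omega

/-- the bound -/
def twoBound (d : ℕ) : ℕ := if d ≤ 1 then 8 else 2 ^ (d + 3)

theorem eight_le_twoBound (d : ℕ) : 8 ≤ twoBound d := by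
  unfold twoBound
  split
  · exact le_rfl
  · calc 8 = 2 ^ 3 := by norm_num
      _ ≤ _ := Nat.pow_le_pow_right (by norm_num) (by omega)

/-- The main bound. -/
theorem card_le_of_goodSet (h2 : (2 : F) ≠ 0) : ∀ (d : ℕ) {V : Type v} [AddCommGroup V] [Module F V]
    [FiniteDimensional F V] (B : LinearMap.BilinForm F V), Module.finrank F V = 2 * d →
    (∀ x, B x x = 0) → (∀ x, (∀ y, B x y = 0) → x = 0) → ∀ S : Finset (Module.End F V),
    GoodSet B S → S.card ≤ twoBound d := by
  intro d
  induction d using Nat.strong_induction_on with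
  | _ d ih =>
    intro V _ _ _ B hdim halt hnd S hS
    classical
    by_cases hex : ∃ g ∈ S, g * g = 1 ∧ g ≠ 1 ∧ g ≠ -1
    · obtain ⟨g, hgS, hgg, hg1, hg2⟩ := hex
      obtain ⟨P, M, a, b, ha1, hb1, hPd, hMd, hab, hgP, hgM, hPg, hMg, hnP, hnM, hext⟩ :=
        exists_eigen h2 halt hnd hgg (hS.pres g hgS) hg1 hg2
      have hPpos : ∃ x ∈ P, x ≠ 0 := P.exists_mem_ne_zero_of_ne_bot fun h => by
        rw [h, finrank_bot] at hPd; omega
      obtain ⟨x₀, hx₀, hx₀0⟩ := hPpos
      let C := S.filter (fun c => c * g = g * c)
      have hCS : ∀ c ∈ C, c ∈ S := fun c hc => (Finset.mem_filter.1 hc).1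
      have hcomm : ∀ c ∈ C, c * g = g * c := fun c hc => (Finset.mem_filter.1 hc).2
      have hC : GoodSet B C := by
        constructor
        · exact Finset.mem_filter.2 ⟨hS.one_mem, by rw [one_mul, mul_one]⟩
        · exact fun x hx y hy => Finset.mem_filter.2 ⟨hS.mul_mem x (hCS x hx) y (hCS y hy), by
            rw [mul_assoc, hcomm y hy, ← mul_assoc, hcomm x hx, mul_assoc]⟩
        · exact fun x hx => hS.pres x (hCS x hx)
        · exact fun x hx => hS.sq x (hCS x hx)
        · exact fun x hx y hy => hS.comm x (hCS x hx) y (hCS y hy)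
      have hiP : ∀ c ∈ C, ∀ x ∈ P, c x ∈ P := fun c hc x hx => hPg _ (by
        rw [← Module.End.mul_apply, ← hcomm c hc, Module.End.mul_apply, hgP x hx])
      have hiM : ∀ c ∈ C, ∀ x ∈ M, c x ∈ M := fun c hc x hx => hMg _ (by
        rw [← Module.End.mul_apply, ← hcomm c hc, Module.End.mul_apply, hgM x hx, map_neg])
      let K := C.filter (fun c => res P c = 1)
      have hKP : ∀ c ∈ K, ∀ x ∈ P, c x = x := fun c hc x hx => by
        obtain ⟨hcC, hc1⟩ := Finset.mem_filter.1 hc
        rw [← res_apply P c (hiP c hcC) ⟨x, hx⟩, hc1]; rfl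
      have hIP := ih a (by omega) (LinearMap.BilinForm.restrict B P) hPd (fun x => halt _)
        (fun x hx => Subtype.ext (hnP _ x.2 fun y hy => hx ⟨y, hy⟩)) (C.image (res P))
        (goodSet_image P C hC hiP)
      by_cases hall : ∀ c ∈ S, c * g = g * c
      · -- g central
        have hCeq : C = S := Finset.filter_true_of_mem hall
        have hKg : GoodSet B K := by
          constructor
          · exact Finset.mem_filter.2 ⟨hC.one_mem, res_one P⟩
          · intro x hx y hy
            obtain ⟨hxC, hx1⟩ := Finset.mem_filter.1 hx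
            obtain ⟨hyC, hy1⟩ := Finset.mem_filter.1 hy
            exact Finset.mem_filter.2 ⟨hC.mul_mem x hxC y hyC, by
              rw [res_mul P (hiP x hxC) (hiP y hyC), hx1, hy1, one_mul]⟩
          · exact fun x hx => hC.pres x (Finset.mem_filter.1 hx).1
          · exact fun x hx => hC.sq x (Finset.mem_filter.1 hx).1
          · exact fun x hx y hy => hC.comm x (Finset.mem_filter.1 hx).1 y (Finset.mem_filter.1 hy).1
        have hKM : ∀ c ∈ K, ∀ x ∈ M, c x ∈ M := fun c hc => hiM c (Finset.mem_filter.1 hc).1
        have hIM := card_le_of_invol h2 b (LinearMap.BilinForm.restrict B M) hMd (fun x => halt _)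
          (fun x hx => Subtype.ext (hnM _ x.2 fun y hy => hx ⟨y, hy⟩)) (K.image (res M))
          (goodSet_image M K hKg hKM) (fun c' hc' => by
            obtain ⟨c, hc, rfl⟩ := Finset.mem_image.1 hc'
            rcases hKg.sq c hc with h | h
            · rw [← res_mul M (hKM c hc) (hKM c hc), h, res_one]
            · exfalso
              apply neg_one_ne_one h2 hx₀0
              rw [← h, Module.End.mul_apply, hKP c hc x₀ hx₀, hKP c hc x₀ hx₀])
        have hinj : K.card ≤ (K.image (res M)).card := by
          refine Finset.card_le_card_of_injOn (res M) (fun c hc => ?_) ?_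
          · exact Finset.mem_coe.2 (Finset.mem_image_of_mem _ hc)
          · intro c hc c' hc' h
            refine hext c c' (fun x hx => ?_) (fun x hx => ?_)
            · rw [hKP c hc x hx, hKP c' hc' x hx]
            · rw [← res_apply M c (hKM c hc) ⟨x, hx⟩, ← res_apply M c' (hKM c' hc') ⟨x, hx⟩, h]
        rw [← hCeq]
        calc C.card ≤ 2 ^ b * (C.image (res P)).card :=
              hC.card_le_image_mul P hiP _ (hinj.trans hIM)
          _ ≤ 2 ^ b * twoBound a := Nat.mul_le_mul le_rfl hIP
          _ ≤ twoBound d := by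
            have hd2 : ¬ d ≤ 1 := by omega
            unfold twoBound
            rw [if_neg hd2]
            split
            · rw [show (8 : ℕ) = 2 ^ 3 by norm_num, ← pow_add]
              exact Nat.pow_le_pow_right (by norm_num) (by omega)
            · rw [← pow_add]
              exact Nat.pow_le_pow_right (by norm_num) (by omega)
      · -- g not central
        push Not at hall
        obtain ⟨h, hhS, hhg⟩ := hall
        have hanti : ∀ c ∈ S, c * g ≠ g * c → c * g = -(g * c) := fun c hc hne =>
          (hS.comm c hc g hgS).resolve_left hne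
        have hh := hanti h hhS hhg
        have h4 := hS.pow_four hhS
        have hhinj : Function.Injective h := fun x y he => by
          have h5 := congrArg (fun z => (h * h * h) z) he
          rwa [← Module.End.mul_apply, ← Module.End.mul_apply, h4.1] at h5
        have hflip : ∀ x, g (h x) = -h (g x) := fun x => by
          have := congrArg (fun f : Module.End F V => f x) hh
          simp at this
          rw [this, neg_neg]
        have hPM : ∀ x ∈ P, h x ∈ M := fun x hx => hMg _ (by rw [hflip, hgP x hx])
        have hMP : ∀ x ∈ M, h x ∈ P := fun x hx => hPg _ (by rw [hflip, hgM x hx, map_neg, neg_neg])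
        have hab' : a = b := by
          have e1 : Module.finrank F P ≤ Module.finrank F M :=
            LinearMap.finrank_le_finrank_of_injective (f := h.restrict hPM)
              (fun x y he => Subtype.ext (hhinj (congrArg Subtype.val he)))
          have e2 : Module.finrank F M ≤ Module.finrank F P :=
            LinearMap.finrank_le_finrank_of_injective (f := h.restrict hMP)
              (fun x y he => Subtype.ext (hhinj (congrArg Subtype.val he)))
          omega
        have hsub : S ⊆ C ∪ C.image (fun c => h * c) := by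
          intro c hc
          by_cases hcg : c * g = g * c
          · exact Finset.mem_union_left _ (Finset.mem_filter.2 ⟨hc, hcg⟩)
          · refine Finset.mem_union_right _ (Finset.mem_image.2 ⟨(h * h * h) * c,
              Finset.mem_filter.2 ⟨hS.mul_mem _ (hS.cube_mem hhS) _ hc, ?_⟩, ?_⟩)
            · have e0 : ∀ X : Module.End F V, h * (g * X) = -(g * (h * X)) := fun X => by
                rw [← mul_assoc, hh, neg_mul, mul_assoc]
              have e3 : h * h * h * g = -(g * (h * h * h)) := by
                simp only [mul_assoc, hh, mul_neg, neg_neg, e0]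
              calc h * h * h * c * g = h * h * h * (c * g) := by noncomm_ring
                _ = -((h * h * h * g) * c) := by rw [hanti c hc hcg]; noncomm_ring
                _ = g * (h * h * h * c) := by rw [e3]; noncomm_ring
            · rw [← mul_assoc, h4.2, one_mul]
        have hS2 : S.card ≤ 2 * C.card := by
          have e1 := Finset.card_le_card hsub
          have e2 := Finset.card_union_le C (C.image (fun c => h * c))
          have e3 : (C.image (fun c => h * c)).card ≤ C.card := Finset.card_image_le
          omega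
        have hK2 : K.card ≤ 2 := by
          refine le_trans (Finset.card_le_card (t := {1, g}) fun c hc => ?_) Finset.card_le_two
          obtain ⟨hcC, -⟩ := Finset.mem_filter.1 hc
          have hrep : ∀ x ∈ M, ∃ u ∈ P, x = h u := fun x hx => by
            refine ⟨(h * h * h) x, ?_, ?_⟩
            · rw [Module.End.mul_apply, Module.End.mul_apply]
              exact hMP _ (hPM _ (hMP x hx))
            · rw [← Module.End.mul_apply, h4.2]; rfl
          rcases hS.comm c (hCS c hcC) h hhS with e | e
          · have hc1 : c = 1 := hext c 1 (fun x hx => by rw [hKP c hc x hx]; rfl) fun x hx => by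
              obtain ⟨u, hu, rfl⟩ := hrep x hx
              rw [← Module.End.mul_apply, e, Module.End.mul_apply, hKP c hc u hu]; rfl
            simp [hc1]
          · have hc1 : c = g := hext c g (fun x hx => by rw [hKP c hc x hx, hgP x hx]) fun x hx => by
              obtain ⟨u, hu, rfl⟩ := hrep x hx
              rw [← Module.End.mul_apply, e, hgM _ hx, LinearMap.neg_apply, Module.End.mul_apply,
                hKP c hc u hu]
            simp [hc1]
        calc S.card ≤ 2 * C.card := hS2
          _ ≤ 2 * (2 * (C.image (res P)).card) :=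
            Nat.mul_le_mul le_rfl (hC.card_le_image_mul P hiP 2 hK2)
          _ ≤ 2 * (2 * twoBound a) := Nat.mul_le_mul le_rfl (Nat.mul_le_mul le_rfl hIP)
          _ ≤ twoBound d := by
            have hd2 : ¬ d ≤ 1 := by omega
            unfold twoBound
            rw [if_neg hd2]
            have e : 2 * (2 * (if a ≤ 1 then 8 else 2 ^ (a + 3))) = 2 ^ (if a ≤ 1 then 5 else a + 5) := by
              split <;> ring
            rw [e]
            exact Nat.pow_le_pow_right (by norm_num) (by split <;> omega)
    · push Not at hex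
      have hsq : ∀ c ∈ S, c = 1 ∨ c = -1 ∨ c * c = -1 := fun c hc => by
        rcases hS.sq c hc with h | h
        · by_cases h1 : c = 1
          · exact Or.inl h1
          · exact Or.inr (Or.inl (hex c hc h h1))
        · exact Or.inr (Or.inr h)
      have hneg : ∀ x ∈ S, ∀ y ∈ S, x * x = -1 → y * y = -1 → x * y = y * x → y = x ∨ y = -x := by
        intro x hx y hy hx2 hy2 hxy
        have hm : (x * y) * (x * y) = 1 := by
          calc x * y * (x * y) = x * (y * x) * y := by noncomm_ring
            _ = (x * x) * (y * y) := by rw [← hxy]; noncomm_ring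
            _ = 1 := by rw [hx2, hy2]; noncomm_ring
        have hy' : y = -(x * (x * y)) := by rw [← mul_assoc, hx2]; noncomm_ring
        rcases eq_or_ne (x * y) 1 with h1 | h1
        · exact Or.inr (by rw [hy', h1, mul_one])
        · exact Or.inl (by rw [hy', hex _ (hS.mul_mem x hx y hy) hm h1]; noncomm_ring)
      by_cases hg : ∃ g ∈ S, g * g = -1
      · obtain ⟨g, hgS, hgg⟩ := hg
        by_cases hh : ∃ h ∈ S, h * h = -1 ∧ h * g ≠ g * h
        · obtain ⟨h, hhS, hhh, hhg⟩ := hh
          have hanti : h * g = -(g * h) := (hS.comm h hhS g hgS).resolve_left hhg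
          have hghh : (g * h) * (g * h) = -1 := by
            calc g * h * (g * h) = g * (h * g) * h := by noncomm_ring
              _ = -((g * g) * (h * h)) := by rw [hanti]; noncomm_ring
              _ = -1 := by rw [hgg, hhh]; noncomm_ring
          have hsub : S ⊆ [1, -1, g, -g, h, -h, g * h, -(g * h)].toFinset := by
            intro c hc
            rw [List.mem_toFinset]
            simp only [List.mem_cons, List.not_mem_nil, or_false]
            rcases hsq c hc with e | e | e
            · tauto
            · tauto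
            rcases hS.comm c hc g hgS with e1 | e1
            · rcases hneg g hgS c hc hgg e e1.symm with e' | e' <;> tauto
            · rcases hS.comm c hc h hhS with e2 | e2
              · rcases hneg h hhS c hc hhh e e2.symm with e' | e' <;> tauto
              · have e3 : c * (g * h) = g * h * c := by
                  rw [← mul_assoc, e1, neg_mul, mul_assoc, e2, mul_neg, neg_neg, mul_assoc]
                rcases hneg _ (hS.mul_mem g hgS h hhS) c hc hghh e e3.symm with e' | e' <;> tauto
          exact (Finset.card_le_card hsub).trans ((List.toFinset_card_le _).trans (eight_le_twoBound d))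
        · push Not at hh
          have hsub : S ⊆ [1, -1, g, -g].toFinset := by
            intro c hc
            rw [List.mem_toFinset]
            simp only [List.mem_cons, List.not_mem_nil, or_false]
            rcases hsq c hc with e | e | e
            · tauto
            · tauto
            rcases hneg g hgS c hc hgg e (hh c hc e).symm with e' | e' <;> tauto
          exact (Finset.card_le_card hsub).trans ((List.toFinset_card_le _).trans
            (le_trans (by simp) (eight_le_twoBound d)))
      · push Not at hg
        have hsub : S ⊆ [1, -1].toFinset := by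
          intro c hc
          rw [List.mem_toFinset]
          simp only [List.mem_cons, List.not_mem_nil, or_false]
          rcases hsq c hc with e | e | e
          · tauto
          · tauto
          · exact absurd e (hg c hc)
        exact (Finset.card_le_card hsub).trans ((List.toFinset_card_le _).trans
          (le_trans (by simp) (eight_le_twoBound d)))

end Cfsg.Agent.CG26
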