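import Cfsg.Prelude.Def_Classical
import Cfsg.Agent.CG26.SympTwoBound

/-!
Elementary abelian 2-subgroups of `PSp_{2m}(F)`, `F` of odd characteristic, have order at most `2^(m+2)`.
-/

namespace Cfsg.Agent.CG26

open scoped Matrix

variable {F : Type*} [Field F] {m : ℕ}

theorem J_mulVec_J (v : Fin m ⊕ Fin m → F) :
    Matrix.J (Fin m) F *ᵥ (Matrix.J (Fin m) F *ᵥ v) = -v := by
  rw [Matrix.mulVec_mulVec, Matrix.J_squared, Matrix.neg_mulVec, Matrix.one_mulVec]

theorem dot_J_self (h2 : (2 : F) ≠ 0) (v : Fin m ⊕ Fin m → F) :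
    v ⬝ᵥ (Matrix.J (Fin m) F *ᵥ v) = 0 := by
  have h : v ⬝ᵥ (Matrix.J (Fin m) F *ᵥ v) = -(v ⬝ᵥ (Matrix.J (Fin m) F *ᵥ v)) := by
    conv_lhs => rw [Matrix.dotProduct_mulVec, ← Matrix.mulVec_transpose, Matrix.J_transpose,
      Matrix.neg_mulVec, neg_dotProduct, dotProduct_comm]
  have h0 : (2 : F) * (v ⬝ᵥ (Matrix.J (Fin m) F *ᵥ v)) = 0 := by linear_combination h
  exact (mul_eq_zero.1 h0).resolve_left h2

theorem transv_mem (h2 : (2 : F) ≠ 0) (v : Fin m ⊕ Fin m → F) :
    (1 + Matrix.vecMulVec v (Matrix.J (Fin m) F *ᵥ v)) ∈ Matrix.symplecticGroup (Fin m) F := by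
  rw [SymplecticGroup.mem_iff]
  have e1 : Matrix.vecMul (Matrix.J (Fin m) F *ᵥ v) (Matrix.J (Fin m) F) = v := by
    rw [← Matrix.mulVec_transpose, Matrix.J_transpose, Matrix.neg_mulVec, J_mulVec_J, neg_neg]
  rw [Matrix.transpose_add, Matrix.transpose_one, Matrix.transpose_vecMulVec]
  simp only [add_mul, mul_add, one_mul, mul_one, Matrix.vecMulVec_mul, Matrix.mul_vecMulVec, e1,
    Matrix.vecMulVec_mulVec, J_mulVec_J, dot_J_self h2, zero_smul, MulOpposite.op_zero,
    Matrix.neg_vecMulVec, Matrix.zero_vecMulVec, add_zero]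
  abel

/-- A symplectic matrix commuting with all symplectic matrices is `±1`. -/
theorem central_eq (h2 : (2 : F) ≠ 0) (hm : 1 ≤ m) (c : Matrix.symplecticGroup (Fin m) F)
    (hc : c ∈ Subgroup.center (Matrix.symplecticGroup (Fin m) F)) :
    (c : Matrix (Fin m ⊕ Fin m) (Fin m ⊕ Fin m) F) = 1 ∨
      (c : Matrix (Fin m ⊕ Fin m) (Fin m ⊕ Fin m) F) = -1 := by
  set C : Matrix (Fin m ⊕ Fin m) (Fin m ⊕ Fin m) F := (c : Matrix (Fin m ⊕ Fin m) (Fin m ⊕ Fin m) F) with hC
  have hline : ∀ v : Fin m ⊕ Fin m → F, v ≠ 0 → ∃ l : F, C *ᵥ v = l • v := by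
    intro v hv
    let w := Matrix.J (Fin m) F *ᵥ v
    have hw : w ≠ 0 := fun h => hv (by
      have := J_mulVec_J v
      rw [show Matrix.J (Fin m) F *ᵥ v = 0 from h, Matrix.mulVec_zero] at this
      exact neg_eq_zero.1 this.symm)
    obtain ⟨i, hi⟩ := Function.ne_iff.1 hw
    simp only [Pi.zero_apply] at hi
    have h := congrArg (Subtype.val) (Subgroup.mem_center_iff.1 hc ⟨_, transv_mem h2 v⟩)
    simp only [Submonoid.coe_mul] at h
    rw [add_mul, mul_add, one_mul, mul_one, add_left_cancel_iff, Matrix.vecMulVec_mul,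
      Matrix.mul_vecMulVec] at h
    refine ⟨(Matrix.vecMul w C) i / w i, funext fun a => ?_⟩
    have ha := congrFun (congrFun h a) i
    simp only [Matrix.vecMulVec_apply] at ha
    rw [Pi.smul_apply, smul_eq_mul, div_mul_eq_mul_div, eq_div_iff hi]
    show (C *ᵥ v) a * w i = Matrix.vecMul w C i * v a
    rw [mul_comm (Matrix.vecMul w C i)]
    exact ha.symm
  have hne : Nonempty (Fin m ⊕ Fin m) := ⟨Sum.inl ⟨0, by omega⟩⟩
  obtain ⟨i₀⟩ := hne
  obtain ⟨l, hl⟩ := hline (Pi.single i₀ 1) (by simp)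
  have hall : ∀ j, C *ᵥ (Pi.single j 1) = l • (Pi.single j 1 : Fin m ⊕ Fin m → F) := by
    intro j
    by_cases hj : j = i₀
    · subst hj; exact hl
    obtain ⟨l', hl'⟩ := hline (Pi.single j 1) (by simp)
    obtain ⟨l'', hl''⟩ := hline (Pi.single i₀ 1 + Pi.single j 1) (fun h => by
      have := congrFun h j
      simp [hj] at this)
    rw [Matrix.mulVec_add, hl, hl'] at hl''
    have a := congrFun hl'' i₀
    have b := congrFun hl'' j
    simp [hj, Ne.symm hj] at a b
    rw [hl', b, ← a]
  have hscal : C = l • 1 := by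
    ext a b
    have := congrFun (hall b) a
    simp at this
    rw [this, Matrix.smul_apply, Matrix.one_apply, Pi.single_apply, smul_eq_mul]
  have hmem := (SymplecticGroup.mem_iff.1 c.2)
  rw [← hC, hscal, Matrix.transpose_smul, Matrix.transpose_one, smul_mul_assoc, one_mul, mul_smul_comm,
    mul_one, smul_smul] at hmem
  have hl2 : l * l = 1 := by
    have := congrFun (congrFun hmem (Sum.inl ⟨0, by omega⟩)) (Sum.inr ⟨0, by omega⟩)
    simpa [Matrix.J] using this
  rcases mul_self_eq_one_iff.1 hl2 with h | h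
  · exact Or.inl (by rw [hscal, h, one_smul])
  · exact Or.inr (by rw [hscal, h, neg_one_smul])

/-- the form of the symplectic group -/
noncomputable def jForm (m : ℕ) (F : Type*) [Field F] : LinearMap.BilinForm F (Fin m ⊕ Fin m → F) :=
  Matrix.toBilin' (Matrix.J (Fin m) F)

theorem psp_elem_two_card_le [Fintype F] (h2 : (2 : F) ≠ 0) (hm : 2 ≤ m) (E : Subgroup (Cfsg.PSp m F))
    (hE : ∀ x ∈ E, x * x = 1) : Nat.card E ≤ 2 ^ (m + 2) := by
  classical
  let Sp := Matrix.symplecticGroup (Fin m) F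
  let π : Sp →* Cfsg.PSp m F := QuotientGroup.mk' _
  let P : Subgroup Sp := E.comap π
  have hcomm : ∀ x ∈ E, ∀ y ∈ E, x * y = y * x := by
    intro x hx y hy
    calc x * y = x * (x * y * (x * y)) * y := by rw [hE _ (E.mul_mem hx hy), mul_one]
      _ = (x * x) * (y * x) * (y * y) := by simp only [mul_assoc]
      _ = y * x := by rw [hE x hx, hE y hy, one_mul, mul_one]
  have hcen : ∀ x : Sp, π x = 1 → (x : Matrix (Fin m ⊕ Fin m) (Fin m ⊕ Fin m) F) = 1 ∨
      (x : Matrix (Fin m ⊕ Fin m) (Fin m ⊕ Fin m) F) = -1 := fun x hx =>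
    central_eq h2 (by omega) x ((QuotientGroup.eq_one_iff x).1 hx)
  let n1 : Sp := ⟨-1, by rw [SymplecticGroup.mem_iff]; simp⟩
  have hn1 : π n1 = 1 := (QuotientGroup.eq_one_iff n1).2 (Subgroup.mem_center_iff.2 fun g =>
    Subtype.ext (by simp [n1]))
  have hn1ne : n1 ≠ 1 := fun h => by
    have := congrFun (congrFun (congrArg Subtype.val h) (Sum.inl ⟨0, by omega⟩)) (Sum.inl ⟨0, by omega⟩)
    simp [n1] at this
    exact h2 (by linear_combination -this)
  have hinj : 2 * Nat.card E ≤ Nat.card P := by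
    have hsurj : Function.Surjective π := QuotientGroup.mk'_surjective _
    let f : Bool × E → P := fun p => ⟨(if p.1 then n1 else 1) * Function.surjInv hsurj p.2.1, by
      show π _ ∈ E
      rw [map_mul, Function.surjInv_eq hsurj]
      cases p.1 <;> simp [hn1, p.2.2]⟩
    have hf : Function.Injective f := by
      rintro ⟨b, e⟩ ⟨b', e'⟩ h
      have h1 := congrArg (fun z : P => π z.1) h
      have hee : e = e' := by
        apply Subtype.ext
        cases b <;> cases b' <;> simpa [f, hn1, Function.surjInv_eq hsurj] using h1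
      subst hee
      have h2' := congrArg (fun z : P => z.1) h
      cases b <;> cases b' <;> simp [f, hn1ne, hn1ne.symm] at h2' ⊢
    haveI : Finite Sp := inferInstance
    have := Nat.card_le_card_of_injective f hf
    simpa [Nat.card_prod] using this
  let φ : Matrix (Fin m ⊕ Fin m) (Fin m ⊕ Fin m) F ≃ₐ[F] Module.End F (Fin m ⊕ Fin m → F) :=
    Matrix.toLinAlgEquiv'
  let ψ : P → Module.End F (Fin m ⊕ Fin m → F) := fun x => φ (x.1 : Sp).1
  have hψ : Function.Injective ψ := fun x y h => Subtype.ext (Subtype.ext (φ.injective h))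
  haveI : Fintype P := Fintype.ofFinite P
  let S := Finset.univ.image ψ
  have hgood : GoodSet (jForm m F) S := by
    constructor
    · exact Finset.mem_image.2 ⟨1, Finset.mem_univ _, map_one φ⟩
    · simp only [S, Finset.mem_image, Finset.mem_univ, true_and]
      rintro _ ⟨x, rfl⟩ _ ⟨y, rfl⟩
      exact ⟨x * y, map_mul φ _ _⟩
    · simp only [S, Finset.mem_image, Finset.mem_univ, true_and]
      rintro _ ⟨x, rfl⟩ u v
      have hx := SymplecticGroup.mem_iff'.1 x.1.2
      simp only [jForm, ψ, φ, Matrix.toBilin'_apply', Matrix.toLinAlgEquiv'_apply]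
      rw [Matrix.mulVec_mulVec, Matrix.dotProduct_mulVec _ _ v, Matrix.vecMul_mulVec, ← Matrix.mul_assoc,
        hx, ← Matrix.dotProduct_mulVec]
    · simp only [S, Finset.mem_image, Finset.mem_univ, true_and]
      rintro _ ⟨x, rfl⟩
      have hx : π (x.1 * x.1) = 1 := by rw [map_mul]; exact hE _ x.2
      rcases hcen _ hx with h | h
      · left; show φ _ * φ _ = 1; rw [← map_mul]; exact (congrArg φ h).trans (map_one φ)
      · right; show φ _ * φ _ = -1; rw [← map_mul, ← map_one φ, ← map_neg]; exact congrArg φ h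
    · simp only [S, Finset.mem_image, Finset.mem_univ, true_and]
      rintro _ ⟨x, rfl⟩ _ ⟨y, rfl⟩
      let z : Sp := x.1 * y.1 * (y.1 * x.1)⁻¹
      have hz : π z = 1 := by
        show π (x.1 * y.1 * (y.1 * x.1)⁻¹) = 1
        rw [map_mul, map_inv, map_mul, hcomm _ x.2 _ y.2, ← map_mul, mul_inv_cancel]
      have hxy : x.1 * y.1 = z * (y.1 * x.1) := (inv_mul_cancel_right _ _).symm
      rcases hcen z hz with h | h
      · left
        show φ _ * φ _ = φ _ * φ _
        rw [← map_mul, ← map_mul]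
        refine congrArg φ ?_
        have := congrArg Subtype.val hxy
        simpa [h] using this
      · right
        show φ _ * φ _ = -(φ _ * φ _)
        rw [← map_mul, ← map_mul, ← map_neg]
        refine congrArg φ ?_
        have := congrArg Subtype.val hxy
        simpa [h] using this
  have hb := card_le_of_goodSet h2 m (jForm m F) (by simp; omega)
    (fun x => by rw [jForm, Matrix.toBilin'_apply']; exact dot_J_self h2 x)
    (fun x hx => by
      have h0 : Matrix.vecMul x (Matrix.J (Fin m) F) = 0 := funext fun j => by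
        have := hx (Pi.single j 1)
        rw [jForm, Matrix.toBilin'_apply', Matrix.dotProduct_mulVec] at this
        simpa using this
      have h1 := congrArg (fun w => Matrix.vecMul w (Matrix.J (Fin m) F)) h0
      simp only [Matrix.vecMul_vecMul, Matrix.J_squared, Matrix.vecMul_neg, Matrix.vecMul_one,
        Matrix.zero_vecMul] at h1
      exact neg_eq_zero.1 h1) S hgood
  have hS : S.card = Nat.card P := by
    rw [Finset.card_image_of_injective _ hψ, Finset.card_univ, Nat.card_eq_fintype_card]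
  unfold twoBound at hb
  rw [if_neg (by omega : ¬ m ≤ 1), hS, show m + 3 = m + 2 + 1 from rfl, pow_succ] at hb
  omega

end Cfsg.Agent.CG26
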