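import Cfsg.Agent.AutPSpField.FieldClass
import Cfsg.Agent.Lib.Symplectic.Simple
import Cfsg.Agent.S0270
import Cfsg.Agent.S0247
import Cfsg.Prelude.Def_KGroupFacts

/-!
Local balance in almost simple groups with symplectic socle.
-/

set_option autoImplicit false

namespace Cfsg.Agent.CG26.PSpLB

open Matrix Cfsg.Agent.Symplectic Cfsg.Agent.CG26.AutPSp
open Cfsg.Agent.AutPSpField (IsSemi pgsp mem_inndiag_iff)

universe u v

section abstract

variable {K : Type u} [Group K]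

/-- The fixed points of an automorphism. -/
abbrev Fix (x : MulAut K) : Subgroup K := MonoidHom.eqLocus x.toMonoidHom (MonoidHom.id K)

theorem mem_fix {x : MulAut K} {k : K} : k ∈ Fix x ↔ x k = k := Iff.rfl

theorem conj_comm_iff (hZ : Subgroup.center K = ⊥) {x : MulAut K} {k : K} :
    MulAut.conj k ∈ Subgroup.centralizer ({x} : Set (MulAut K)) ↔ k ∈ Fix x := by
  rw [AutPSL.mem_centralizer_single, mem_fix]
  have hconj : ∀ a : K, x * MulAut.conj a = MulAut.conj (x a) * x := fun a =>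
    MulEquiv.ext fun y => by simp
  rw [hconj]
  refine ⟨fun h => ?_, fun h => by rw [h]⟩
  have h1 := mul_right_cancel h
  have h2 : k⁻¹ * x k ∈ Subgroup.center K := Subgroup.mem_center_iff.2 fun y => by
    have := congrArg (fun a : MulAut K => a y) h1
    simp only [MulAut.conj_apply] at this
    calc y * (k⁻¹ * x k) = k⁻¹ * (k * y * k⁻¹) * x k := by group
      _ = k⁻¹ * (x k * y * (x k)⁻¹) * x k := by rw [this]
      _ = k⁻¹ * x k * y := by group
  rw [hZ, Subgroup.mem_bot] at h2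
  exact (inv_mul_eq_one.1 h2).symm

theorem conj_injective (hZ : Subgroup.center K = ⊥) :
    Function.Injective (MulAut.conj : K →* MulAut K) := by
  rw [injective_iff_map_eq_one]
  intro a ha
  have : a ∈ Subgroup.center K := Subgroup.mem_center_iff.2 fun y => by
    have := congrArg (fun e : MulAut K => e y) ha
    simp only [MulAut.conj_apply, MulAut.one_apply] at this
    calc y * a = a * y * a⁻¹ * a := by rw [this]
      _ = a * y := by group
  rwa [hZ, Subgroup.mem_bot] at this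

theorem pPrimeCore_ne_bot_iff {G : Type*} [Group G] {p : ℕ} :
    Cfsg.pPrimeCore p G ≠ ⊥ ↔ ∃ N : Subgroup G, N.Normal ∧ (Nat.card N).Coprime p ∧ N ≠ ⊥ := by
  rw [Cfsg.pPrimeCore, ne_eq, sSup_eq_bot]
  constructor
  · intro h
    push Not at h
    obtain ⟨N, ⟨h1, h2⟩, h3⟩ := h
    exact ⟨N, h1, h2, h3⟩
  · rintro ⟨N, h1, h2, h3⟩ h
    exact h3 (h N ⟨h1, h2⟩)

/-- The criterion, given the structure of the fixed-point group. -/
theorem core_iff [Finite K] (hZ : Subgroup.center K = ⊥) {p : ℕ} [Fact p.Prime] {x : MulAut K}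
    (hx : Fix x ≠ ⊥) (hfix : ∀ β : MulAut K, (∀ k ∈ Fix x, β k = k) → β ^ p = 1)
    (hnor : p ∣ Nat.card (Fix x) → ∀ M : Subgroup K, M ≤ Fix x →
      (∀ l ∈ Fix x, ∀ m ∈ M, l * m * l⁻¹ ∈ M) → (Nat.card M).Coprime p → M = ⊥)
    (A : Subgroup (MulAut K)) (hinn : ∀ k : K, MulAut.conj k ∈ A) :
    Cfsg.pPrimeCore p ↥(A ⊓ Subgroup.centralizer ({x} : Set (MulAut K))) ≠ ⊥ ↔
      Nat.Coprime p (Nat.card (Fix x)) := by
  have hp : p.Prime := Fact.out
  haveI : Finite (MulAut K) := Finite.of_injective _ DFunLike.coe_injective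
  set C := A ⊓ Subgroup.centralizer ({x} : Set (MulAut K)) with hC
  have hin : ∀ k ∈ Fix x, MulAut.conj k ∈ C := fun k hk => ⟨hinn k, (conj_comm_iff hZ).2 hk⟩
  let j : Fix x →* C := ((MulAut.conj : K →* MulAut K).comp (Fix x).subtype).codRestrict C
    fun k => hin k k.2
  have hj : Function.Injective j := fun a b h =>
    Subtype.ext (conj_injective hZ (congrArg Subtype.val h))
  have hcomm : ∀ c ∈ C, x * c = c * x := fun c hc => AutPSL.mem_centralizer_single.1 hc.2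
  have hmap : ∀ c ∈ C, ∀ k ∈ Fix x, c k ∈ Fix x := fun c hc k hk => by
    rw [mem_fix] at hk ⊢
    have := congrArg (fun a : MulAut K => a k) (hcomm c hc)
    simp only [MulAut.mul_apply] at this
    rw [this, hk]
  rw [pPrimeCore_ne_bot_iff]
  constructor
  · rintro ⟨N, hN, hcop, hne⟩
    rw [hp.coprime_iff_not_dvd]
    intro hdvd
    let M : Subgroup K := (N.comap j).map (Fix x).subtype
    have hM : M = ⊥ := by
      refine hnor hdvd M (Subgroup.map_subtype_le _) ?_ ?_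
      · rintro l hl _ ⟨k, hk, rfl⟩
        refine ⟨⟨l, hl⟩ * k * ⟨l, hl⟩⁻¹, ?_, rfl⟩
        show j _ ∈ N
        rw [map_mul, map_mul, map_inv]
        exact hN.conj_mem _ hk _
      · refine Nat.Coprime.coprime_dvd_left ?_ hcop
        rw [Subgroup.card_map_of_injective (Subgroup.subtype_injective _)]
        exact Subgroup.card_comap_dvd_of_injective N j hj
    refine hne ((Subgroup.eq_bot_iff_forall _).2 fun n hn => ?_)
    have hnfix : ∀ k ∈ Fix x, (n : MulAut K) k = k := by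
      intro k hk
      have h1 : n * j ⟨k, hk⟩ * n⁻¹ * (j ⟨k, hk⟩)⁻¹ ∈ N := by
        have := N.mul_mem hn (hN.conj_mem _ (N.inv_mem hn) (j ⟨k, hk⟩))
        simpa only [mul_assoc] using this
      have h2 : (n * j ⟨k, hk⟩ * n⁻¹ : C) = j ⟨(n : MulAut K) k, hmap _ n.2 k hk⟩ := by
        refine Subtype.ext (MulEquiv.ext fun y => ?_)
        show (n : MulAut K) (k * ((n : MulAut K)⁻¹ y) * k⁻¹) = (n : MulAut K) k * y * ((n : MulAut K) k)⁻¹
        rw [map_mul, map_mul, map_inv, MulAut.apply_inv_self]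
      rw [h2, ← map_inv, ← map_mul] at h1
      have h3 : ((⟨(n : MulAut K) k, hmap _ n.2 k hk⟩ * ⟨k, hk⟩⁻¹ : Fix x) : K) ∈ M :=
        ⟨_, h1, rfl⟩
      rw [hM, Subgroup.mem_bot, Subgroup.coe_mul, Subgroup.coe_inv, mul_inv_eq_one] at h3
      exact h3
    have h1 : orderOf n ∣ Nat.card N := by
      have h := orderOf_dvd_natCard (⟨n, hn⟩ : N)
      rwa [Subgroup.orderOf_mk] at h
    have h2 : orderOf n ∣ p :=
      orderOf_dvd_of_pow_eq_one (Subtype.ext (hfix _ hnfix))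
    exact orderOf_eq_one_iff.1 (Nat.eq_one_of_dvd_coprimes hcop h1 h2)
  · intro hcop
    refine ⟨j.range, ⟨?_⟩, ?_, fun h => hx ?_⟩
    · rintro _ ⟨k, rfl⟩ c
      refine ⟨⟨(c : MulAut K) k, hmap _ c.2 _ k.2⟩, Subtype.ext (MulEquiv.ext fun y => ?_)⟩
      show (c : MulAut K) k * y * ((c : MulAut K) k)⁻¹ = (c : MulAut K) ((k : K) * ((c : MulAut K)⁻¹ y) * (k : K)⁻¹)
      rw [map_mul, map_mul, map_inv, MulAut.apply_inv_self]
    · rw [← Nat.card_congr (MonoidHom.ofInjective hj).toEquiv]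
      exact hcop.symm
    · refine (Subgroup.eq_bot_iff_forall _).2 fun k hk => ?_
      have : j ⟨k, hk⟩ ∈ j.range := ⟨_, rfl⟩
      rw [h, Subgroup.mem_bot, ← map_one j] at this
      exact congrArg Subtype.val (hj this)

end abstract

section semi

variable {m : ℕ} {F : Type u} [Field F] [Fintype F]

/-- An automorphism fixing a transvection is semilinear. -/
theorem isSemiSp_of_fix (hm : 2 ≤ m) {β : MulAut (Cfsg.PSp m F)} {y : Cfsg.PSp m F} (hy : IsTv y)
    (hβ : β y = y) : ∃ (g : GL (Fin m ⊕ Fin m) F) (σ : F ≃+* F), g ∈ Cfsg.GSp m F ∧ IsSemi g σ β := by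
  by_cases h4 : m = 2 ∧ (2 : F) = 0
  · obtain ⟨rfl, h2⟩ := h4
    haveI : CharP F 2 := CharTwo.of_one_ne_zero_of_two_eq_zero one_ne_zero h2
    refine exists_semilinear_of_perm le_rfl β (permTv_of_isTv β fun x hx => ?_)
    obtain ⟨g, rfl⟩ := exists_conj_isTv hy hx
    rw [map_mul, map_mul, map_inv, hβ]
    exact isTv_conj hy _
  · exact exists_semi hm (fun hm2 h2 => h4 ⟨hm2, h2⟩) β

/-- An automorphism of odd prime order of `PSp_4(2^f)` is semilinear. -/
theorem exists_semi_of_odd [CharP F 2] (h : 3 ≤ Nat.card F) {β : MulAut (Cfsg.PSp 2 F)} {p : ℕ}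
    (hp : Odd p) (hβ : β ^ p = 1) :
    ∃ (g : GL (Fin 2 ⊕ Fin 2) F) (σ : F ≃+* F), g ∈ Cfsg.GSp 2 F ∧ IsSemi g σ β := by
  obtain ⟨τ, x₀, hx₀, -⟩ := exists_graph (F := F) h
  by_cases hb : IsTv (β x₀)
  · refine exists_semilinear_of_perm le_rfl β (permTv_of_isTv β fun x hx => ?_)
    obtain ⟨g, rfl⟩ := exists_conj_isTv hx₀ hx
    rw [map_mul, map_mul, map_inv]
    exact isTv_conj hb _
  · have hsq : IsSemiSp (β ^ 2) ∨ IsSemiSp (β⁻¹ * β ^ 2) := (semi_or_of_graph hx₀ hb).2 (β ^ 2)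
    rcases hsq with ⟨g, σ, hg, hs⟩ | hs
    · obtain ⟨j, hj⟩ := hp
      obtain ⟨h1, h2⟩ := AutPSpField.IsSemi.pow hg hs (j + 1)
      have e : (β ^ 2) ^ (j + 1) = β := by
        rw [← pow_mul, show 2 * (j + 1) = p + 1 by omega, pow_succ, hβ, one_mul]
      rw [e] at h2
      exact ⟨_, _, h1, h2⟩
    · rw [pow_two, inv_mul_cancel_left] at hs
      exact hs

/-- Automorphisms of prime order outside the inner-diagonal group are field automorphisms. -/
theorem isFieldClass (hm : 2 ≤ m) (hs : m = 2 → 3 ≤ Fintype.card F) {r : ℕ} [Fact r.Prime]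
    [CharP F r] {p : ℕ} [Fact p.Prime] (hpr : p ≠ r) (x : MulAut (Cfsg.PSp m F))
    (hord : orderOf x = p) (hnot : ¬ Cfsg.IsInnerDiagonalAutPSp x) :
    Cfsg.IsFieldAutClassPSp x := by
  have hp : p.Prime := Fact.out
  have hxp : x ^ p = 1 := hord ▸ pow_orderOf_eq_one x
  obtain ⟨g, σ, hg, hx⟩ : ∃ (g : GL (Fin m ⊕ Fin m) F) (σ : F ≃+* F),
      g ∈ Cfsg.GSp m F ∧ IsSemi g σ x := by
    by_cases h4 : m = 2 ∧ (2 : F) = 0
    · obtain ⟨rfl, h2⟩ := h4
      haveI : CharP F 2 := CharTwo.of_one_ne_zero_of_two_eq_zero one_ne_zero h2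
      have hr : r = 2 := CharP.eq F ‹CharP F r› ‹CharP F 2›
      exact exists_semi_of_odd (by rw [Nat.card_eq_fintype_card]; exact hs rfl)
        (hp.odd_of_ne_two (hr ▸ hpr)) hxp
    · exact exists_semi hm (fun hm2 h2 => h4 ⟨hm2, h2⟩) x
  have hm1 : 1 ≤ m := by omega
  have hσ : σ ≠ 1 := fun e => hnot ⟨g, hg, (induced_iff g (RingEquiv.refl F) x).2 (by
    subst e; exact hx)⟩
  obtain ⟨hN, hpw⟩ := AutPSpField.IsSemi.pow hg hx p
  rw [hxp] at hpw
  have hσp : σ ^ p = 1 := (AutPSpField.eq_one hm1 hN hpw).1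
  have hσo : orderOf σ = p := orderOf_eq_prime hσp hσ
  obtain ⟨φ, hφ⟩ := AutPSL.exists_induced (S := Sp m F) rho_injective
    (normalises (one_mem (Cfsg.GSp m F)) σ)
  have hδ : x = pgsp m F ⟨g, hg⟩ * φ := by
    have h2 := AutPSL.Induced.comp (normalises (one_mem (Cfsg.GSp m F)) σ)
      (AutPSpField.isSemi_pgsp ⟨g, hg⟩) hφ
    rw [map_one, mul_one, one_mul] at h2
    exact AutPSL.Induced.ext (normalises hg σ) hx h2
  obtain ⟨a, -, ha⟩ := AutPSpField.field_coset (σ := σ) hm1 hφ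
    (δ := pgsp m F ⟨g, hg⟩) ((mem_inndiag_iff _).2 ⟨_, rfl⟩) (by rw [← hδ, hord, hσo])
  rw [← hδ] at ha
  refine ⟨a⁻¹, σ, hσ, ?_⟩
  rw [ha, inv_inv, show a⁻¹ * (a * φ * a⁻¹) * a = φ by group]
  exact (AutPSpField.isStd_iff σ φ).2 hφ

end semi

section fixed

variable {m : ℕ} {F : Type u} [Field F] [Fintype F] {σ : F ≃+* F}

theorem std_tv {φ : MulAut (Cfsg.PSp m F)} (hφ : IsSemi 1 σ φ) (v : Vec m F) (c : F) :
    φ (pi m F (tv v c)) = pi m F (tv (fv σ v) (σ c)) := by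
  refine hφ (tv v c) (tv (fv σ v) (σ c)) ?_
  rw [AutPSL.act_apply, one_mul, inv_one, mul_one]
  refine Units.ext ?_
  show (tv (fv σ v) (σ c)).1 = (tv v c).1.map σ
  ext i j
  have hJ : ∀ a b, σ (Matrix.J (Fin m) F a b) = Matrix.J (Fin m) F a b := fun a b => by
    rcases a with a | a <;> rcases b with b | b <;> by_cases e : a = b <;>
      simp [Matrix.J, Matrix.one_apply, e]
  simp [tv, fv, sympTransvection, Matrix.vecMulVec_apply, Matrix.one_apply, Matrix.mulVec,
    dotProduct, apply_ite (f := σ), hJ]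

theorem tv_mem_fix {φ : MulAut (Cfsg.PSp m F)} (hφ : IsSemi 1 σ φ) {v : Vec m F}
    (hv : ∀ i, σ (v i) = v i) {c : F} (hc : σ c = c) : pi m F (tv v c) ∈ Fix φ := by
  rw [mem_fix, std_tv hφ, hc, show fv σ v = v from funext hv]

/-- Automorphisms fixing all rational transvections are field automorphisms over the fixed field. -/
theorem pow_eq_one_of_fix (hm : 2 ≤ m) {φ : MulAut (Cfsg.PSp m F)} (hφ : IsSemi 1 σ φ) {p : ℕ}
    (hσ : orderOf σ = p) {β : MulAut (Cfsg.PSp m F)}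
    (h : ∀ (v : Vec m F) (c : F), (∀ i, σ (v i) = v i) → σ c = c →
      β (pi m F (tv v c)) = pi m F (tv v c)) :
    β ^ p = 1 ∧ (β ∈ Cfsg.inndiagPSp m F → β = 1) := by
  classical
  haveI : Nonempty (Fin m ⊕ Fin m) := ⟨Sum.inl ⟨0, by omega⟩⟩
  let i₀ : Fin m ⊕ Fin m := Sum.inl ⟨0, by omega⟩
  let i₁ : Fin m ⊕ Fin m := Sum.inl ⟨1, by omega⟩
  have h01 : i₁ ≠ i₀ := by simp [i₀, i₁]
  have hrat : ∀ i : Fin m ⊕ Fin m, ∀ j, σ ((Pi.single i (1 : F) : Vec m F) j) = (Pi.single i (1 : F) : Vec m F) j := by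
    intro i j
    by_cases e : j = i <;> simp [e]
  have hne : ∀ i : Fin m ⊕ Fin m, (Pi.single i (1 : F) : Vec m F) ≠ 0 := fun i e => by
    simpa using congrFun e i
  have hfix1 := h (Pi.single i₀ 1) 1 (hrat i₀) (map_one σ)
  obtain ⟨g, τ, hg, hb⟩ := isSemiSp_of_fix hm ⟨_, 1, hne i₀, one_ne_zero, rfl⟩ hfix1
  obtain ⟨μ, hμ, hact⟩ := exists_act_tv hg τ
  have key : ∀ v : Vec m F, v ≠ 0 → (∀ i, σ (v i) = v i) →
      ∃ a : F, (g : Matrix (Fin m ⊕ Fin m) (Fin m ⊕ Fin m) F) *ᵥ fv τ v = a • v := by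
    intro v hv hvr
    have e := h v 1 hvr (map_one σ)
    rw [show pi m F (tv v 1) = QuotientGroup.mk (tv v 1) from rfl,
      hb _ _ (hact v 1).symm] at e
    obtain ⟨a, ha⟩ := eq_smul_of_pi_eq (mulVec_fv_ne g τ hv) hv
      (mul_ne_zero (inv_ne_zero hμ) ((map_ne_zero τ).2 one_ne_zero)) e
    have ha0 : a ≠ 0 := fun e0 => hv (by rw [ha, e0, zero_smul])
    exact ⟨a⁻¹, (eq_inv_smul_iff₀ ha0).2 ha.symm⟩
  have hfv : ∀ i : Fin m ⊕ Fin m, fv τ (Pi.single i 1 : Vec m F) = Pi.single i 1 := fun i =>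
    funext fun j => by by_cases e : j = i <;> simp [fv, e]
  have hdiag : ∀ i, ∃ a : F, (g : Matrix (Fin m ⊕ Fin m) (Fin m ⊕ Fin m) F) *ᵥ (Pi.single i 1 : Vec m F) =
      a • (Pi.single i 1 : Vec m F) := fun i => by
    have := key _ (hne i) (hrat i)
    rwa [hfv] at this
  choose a ha using hdiag
  have heq : ∀ i, a i = a i₀ := by
    intro i
    by_cases e : i = i₀
    · rw [e]
    obtain ⟨c, hc⟩ := key (Pi.single i 1 + Pi.single i₀ 1)
      (fun e0 => by simpa [e] using congrFun e0 i)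
      (fun j => by simp [map_add, hrat])
    rw [show fv τ (Pi.single i 1 + Pi.single i₀ 1 : Vec m F) = Pi.single i 1 + Pi.single i₀ 1 from
      funext fun j => by
        by_cases e1 : j = i <;> by_cases e2 : j = i₀ <;> simp [fv, e1, e2, e, Ne.symm e, map_add],
      Matrix.mulVec_add, ha, ha] at hc
    have e1 := congrFun hc i
    have e2 := congrFun hc i₀
    simp [e, Ne.symm e] at e1 e2
    rw [e1, e2]
  have ha0 : a i₀ ≠ 0 := fun e0 => by
    have := ha i₀
    rw [e0, zero_smul] at this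
    exact hne i₀ (by
      rw [← hfv i₀]
      by_contra hx
      exact mulVec_fv_ne g τ (hne i₀) (by rw [hfv]; exact this))
  have hgs : g = AutPSL.scalarGL _ (Units.mk0 (a i₀) ha0) := by
    refine Units.ext (Matrix.ext_of_mulVec_single fun i => ?_)
    rw [ha, heq, AutPSL.scalarGL_coe, Units.val_mk0, Matrix.smul_mulVec, Matrix.one_mulVec]
  have hτ : ∀ y : F, σ y = y → τ y = y := by
    intro y hy
    obtain ⟨c, hc⟩ := key (Pi.single i₀ 1 + y • Pi.single i₁ 1)
      (fun e0 => by simpa [h01.symm] using congrFun e0 i₀)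
      (fun j => by simp [map_add, hrat, hy])
    rw [show fv τ (Pi.single i₀ 1 + y • Pi.single i₁ 1 : Vec m F) = Pi.single i₀ 1 + τ y • Pi.single i₁ 1 from
      funext fun j => by
        by_cases e1 : j = i₀ <;> by_cases e2 : j = i₁ <;> simp [fv, e1, e2, h01, h01.symm, map_add],
      Matrix.mulVec_add, Matrix.mulVec_smul, ha, ha, heq i₁] at hc
    have e1 := congrFun hc i₀
    have e2 := congrFun hc i₁
    simp [h01, h01.symm] at e1 e2
    rw [← e1, mul_comm (a i₀) y] at e2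
    exact mul_right_cancel₀ ha0 e2
  have hb1 : IsSemi 1 τ β :=
    induced_smul (g := g) (g' := 1) (c := (a i₀)⁻¹) (inv_ne_zero ha0)
      (by rw [hgs, AutPSL.scalarGL_coe, Units.val_one, smul_smul, Units.val_mk0,
        inv_mul_cancel₀ ha0, one_smul]) hb
  refine ⟨?_, fun hin => ?_⟩
  · haveI : Finite (F ≃+* F) := Finite.of_injective _ DFunLike.coe_injective
    let G := Subgroup.zpowers σ
    have hgfix : ∀ z : F, z ∈ FixedPoints.subfield G F → σ z = z := fun z hz =>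
      hz ⟨σ, Subgroup.mem_zpowers σ⟩
    let τ' : F →ₐ[FixedPoints.subfield G F] F :=
      { τ.toRingHom with commutes' := fun z => hτ _ (hgfix _ z.2) }
    obtain ⟨⟨γ, hγ⟩, hγτ⟩ := (FixedPoints.toAlgHom_bijective G F).2 τ'
    have hγ' : γ = τ := RingEquiv.ext fun z => (DFunLike.congr_fun hγτ z : _)
    obtain ⟨k, hk⟩ := hγ
    have hτp : τ ^ p = 1 := by
      show _ = _
      rw [← hγ', ← hk]
      show (σ ^ k) ^ p = 1
      rw [← zpow_natCast (σ ^ k), ← _root_.zpow_mul, mul_comm, _root_.zpow_mul, zpow_natCast,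
        ← hσ, pow_orderOf_eq_one, _root_.one_zpow]
    have ho := AutPSpField.orderOf_std (by omega) hb1
    exact orderOf_dvd_iff_pow_eq_one.1 (ho ▸ orderOf_dvd_of_pow_eq_one hτp)
  · obtain ⟨k, hk⟩ := (mem_inndiag_iff β).1 hin
    have hτ1 := (CG26.AutPSp.unique (m := m) (by omega) k.2 (one_mem _)
      (hk ▸ AutPSpField.isSemi_pgsp k) hb1).1
    rw [← hτ1] at hb1
    exact AutPSL.Induced.ext AutPSL.normalises_one hb1 (AutPSL.induced_one' rho_injective)

end fixed

section subfield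

variable {m : ℕ} {F : Type u} [Field F] [Fintype F] {σ : F ≃+* F} {F₀ : Type v} [Field F₀]
  [Fintype F₀]

/-- Extension of scalars. -/
def spMap (i : F₀ →+* F) : Sp m F₀ →* Sp m F where
  toFun s := ⟨s.1.map i, SymplecticGroup.map_mem s.2 i⟩
  map_one' := Subtype.ext (i.mapMatrix.map_one)
  map_mul' s t := Subtype.ext (i.mapMatrix.map_mul s.1 t.1)

theorem spMap_mem_fix {φ : MulAut (Cfsg.PSp m F)} (hφ : IsSemi 1 σ φ) (i : F₀ →+* F)
    (hi : ∀ y, σ (i y) = i y) (s : Sp m F₀) : pi m F (spMap i s) ∈ Fix φ := by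
  rw [mem_fix]
  refine hφ (spMap i s) (spMap i s) ?_
  rw [AutPSL.act_apply, one_mul, inv_one, mul_one]
  refine Units.ext (Matrix.ext fun a b => ?_)
  exact (hi _).symm

theorem spMap_tv (i : F₀ →+* F) (v : Vec m F₀) (c : F₀) :
    spMap i (tv v c) = tv (fun j => i (v j)) (i c) := by
  refine Subtype.ext (Matrix.ext fun a b => ?_)
  have hJ : ∀ a b, i (Matrix.J (Fin m) F₀ a b) = Matrix.J (Fin m) F a b := fun a b => by
    rcases a with a | a <;> rcases b with b | b <;> by_cases e : a = b <;>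
      simp [Matrix.J, Matrix.one_apply, e]
  simp [spMap, tv, sympTransvection, Matrix.vecMulVec_apply, Matrix.one_apply, Matrix.mulVec,
    dotProduct, apply_ite (f := i), hJ]

theorem center_psp (hm : 2 ≤ m) (h : m = 2 → 3 ≤ Fintype.card F) :
    Subgroup.center (Cfsg.PSp m F) = ⊥ := by
  haveI := Cfsg.Agent.S0270.result (F := F) m hm h
  rcases IsSimpleGroup.eq_bot_or_eq_top_of_normal (Subgroup.center (Cfsg.PSp m F)) inferInstance with
    e | e
  · exact e
  · exfalso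
    have hv : eI (F := F) ⟨0, by omega⟩ ≠ (0 : Vec m F) := eI_ne_zero _
    obtain ⟨w, hw, -⟩ := exists_nonorth hv hv
    have hw0 : w ≠ 0 := fun e0 => hw (by rw [e0, ← zero_smul F (0 : Vec m F), sympForm_smul_right, zero_mul])
    exact hw ((orth_iff hw0).2 fun x _ y _ => (Subgroup.mem_center_iff.1 (e ▸ Subgroup.mem_top x) y).symm)

theorem normal_prime_perm {p : ℕ} (hp : p.Prime) (hp2 : p ≠ 2)
    (hdvd : p ∣ Nat.card (Equiv.Perm (Fin 6))) (N : Subgroup (Equiv.Perm (Fin 6))) [N.Normal]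
    (hN : (Nat.card N).Coprime p) : N = ⊥ := by
  haveI := alternatingGroup.isSimpleGroup (α := Fin 6) (by simp)
  have hA : (Nat.card (alternatingGroup (Fin 6))) * 2 = Nat.card (Equiv.Perm (Fin 6)) := by
    rw [Nat.card_eq_fintype_card, Nat.card_eq_fintype_card, Fintype.card_perm, Fintype.card_fin,
      mul_comm, two_mul_card_alternatingGroup, Fintype.card_perm, Fintype.card_fin]
  have hpA : p ∣ Nat.card (alternatingGroup (Fin 6)) :=
    (hp.dvd_mul.1 (hA ▸ hdvd)).resolve_right fun h => hp2 ((Nat.prime_dvd_prime_iff_eq hp Nat.prime_two).1 h)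
  haveI : (N.subgroupOf (alternatingGroup (Fin 6))).Normal :=
    ⟨fun a ha g => (inferInstance : N.Normal).conj_mem _ ha _⟩
  rcases IsSimpleGroup.eq_bot_or_eq_top_of_normal (N.subgroupOf (alternatingGroup (Fin 6)))
    inferInstance with e | e
  · have hsq : ∀ n ∈ N, n * n = 1 := fun n hn => by
      have hmem : n * n ∈ alternatingGroup (Fin 6) := by
        rw [Equiv.Perm.mem_alternatingGroup, map_mul]
        exact Int.units_mul_self _
      have : (⟨n * n, hmem⟩ : alternatingGroup (Fin 6)) ∈ N.subgroupOf (alternatingGroup (Fin 6)) :=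
        N.mul_mem hn hn
      rw [e, Subgroup.mem_bot] at this
      exact congrArg Subtype.val this
    have hcard : ∀ n ∈ N, n = 1 ∨ Equiv.Perm.sign n = -1 := fun n hn => by
      rcases Int.units_eq_one_or (Equiv.Perm.sign n) with h | h
      · left
        have : (⟨n, h⟩ : alternatingGroup (Fin 6)) ∈ N.subgroupOf (alternatingGroup (Fin 6)) := hn
        rw [e, Subgroup.mem_bot] at this
        exact congrArg Subtype.val this
      · exact Or.inr h
    refine (Subgroup.eq_bot_iff_forall _).2 fun n hn => ?_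
    have hcent : n ∈ Subgroup.center (Equiv.Perm (Fin 6)) := Subgroup.mem_center_iff.2 fun g => by
      have hgn : g * n * g⁻¹ * n⁻¹ = 1 := by
        rcases hcard _ (N.mul_mem ((inferInstance : N.Normal).conj_mem n hn g) (N.inv_mem hn)) with h | h
        · exact h
        · rw [map_mul, map_mul, map_mul, map_inv, map_inv] at h
          rcases Int.units_eq_one_or (Equiv.Perm.sign g) with e1 | e1 <;>
            rcases Int.units_eq_one_or (Equiv.Perm.sign n) with e2 | e2 <;>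
            simp [e1, e2] at h
      exact mul_inv_eq_one.1 hgn |> fun h => mul_inv_eq_iff_eq_mul.1 h
    by_contra hn1
    obtain ⟨a, ha⟩ : ∃ a, n a ≠ a := by
      by_contra hall
      push Not at hall
      exact hn1 (Equiv.ext hall)
    obtain ⟨c, hca, hcb⟩ : ∃ c : Fin 6, c ≠ a ∧ c ≠ n a := by
      exact (by decide : ∀ x y : Fin 6, ∃ c, c ≠ x ∧ c ≠ y) a (n a)
    have h6 := DFunLike.congr_fun (Subgroup.mem_center_iff.1 hcent (Equiv.swap (n a) c)) a
    simp [Equiv.Perm.mul_apply, Equiv.swap_apply_of_ne_of_ne (Ne.symm ha) (Ne.symm hca)] at h6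
    exact hcb h6
  · exfalso
    have hle : alternatingGroup (Fin 6) ≤ N := fun a ha => by
      have : (⟨a, ha⟩ : alternatingGroup (Fin 6)) ∈ N.subgroupOf (alternatingGroup (Fin 6)) :=
        e ▸ Subgroup.mem_top _
      exact this
    exact hp.coprime_iff_not_dvd.1 hN.symm (hpA.trans (Subgroup.card_dvd_of_le hle))

/-- Normal subgroups of `p'`-order of `PSp` are trivial when `p` divides the order. -/
theorem normal_prime_bot (hm : 2 ≤ m) {p : ℕ} (hp : p.Prime) (hpr : m = 2 ∧ Fintype.card F₀ = 2 → p ≠ 2)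
    (hdvd : p ∣ Nat.card (Cfsg.PSp m F₀)) (N : Subgroup (Cfsg.PSp m F₀)) [N.Normal]
    (hN : (Nat.card N).Coprime p) : N = ⊥ := by
  by_cases h22 : m = 2 ∧ Fintype.card F₀ = 2
  · obtain ⟨rfl, h2⟩ := h22
    obtain ⟨e⟩ := Cfsg.Agent.S0247.result h2
    haveI : CharP F₀ 2 := by
      haveI : Fact (Nat.Prime 2) := ⟨Nat.prime_two⟩
      exact charP_of_card_eq_prime_pow (show Fintype.card F₀ = 2 ^ 1 by rw [h2, pow_one])
    let e₀ := MulEquiv.ofBijective (pi 2 F₀) ⟨AutPSp.pi_injective, QuotientGroup.mk'_surjective _⟩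
    let e' : Cfsg.PSp 2 F₀ ≃* Equiv.Perm (Fin 6) := e₀.symm.trans e
    haveI : (N.map e'.toMonoidHom).Normal := Subgroup.Normal.map inferInstance _ e'.surjective
    have := normal_prime_perm hp (hpr ⟨rfl, h2⟩) (Nat.card_congr e'.toEquiv ▸ hdvd)
      (N.map e'.toMonoidHom) (by rwa [Subgroup.card_map_of_injective (f := e'.toMonoidHom) e'.injective])
    exact (Subgroup.map_eq_bot_iff_of_injective (f := e'.toMonoidHom) _ e'.injective).1 this
  · haveI := Cfsg.Agent.S0270.result (F := F₀) m hm fun e => by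
      have := Fintype.one_lt_card (α := F₀)
      rcases Nat.lt_or_ge (Fintype.card F₀) 3 with h | h
      · exact absurd ⟨e, by omega⟩ h22
      · exact h
    rcases IsSimpleGroup.eq_bot_or_eq_top_of_normal N inferInstance with e | e
    · exact e
    · rw [e, Subgroup.card_top] at hN
      exact absurd hdvd (hp.coprime_iff_not_dvd.1 hN.symm)

end subfield

section main

variable {m : ℕ} {F : Type u} [Field F] [Fintype F]

theorem fix_hyps (hm : 2 ≤ m) (hs : m = 2 → 3 ≤ Fintype.card F) {r : ℕ} [Fact r.Prime] [CharP F r]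
    {p : ℕ} [Fact p.Prime] (hpr : p ≠ r) {σ : F ≃+* F} (hσ : orderOf σ = p)
    {φ : MulAut (Cfsg.PSp m F)} (hφ : IsSemi 1 σ φ) :
    Fix φ ≠ ⊥ ∧ (∀ β : MulAut (Cfsg.PSp m F), (∀ k ∈ Fix φ, β k = k) → β ^ p = 1) ∧
      (p ∣ Nat.card (Fix φ) → ∀ M : Subgroup (Cfsg.PSp m F), M ≤ Fix φ →
        (∀ l ∈ Fix φ, ∀ a ∈ M, l * a * l⁻¹ ∈ M) → (Nat.card M).Coprime p → M = ⊥) := by
  classical
  have hp : p.Prime := Fact.out
  have hm1 : 1 ≤ m := by omega
  have hZ := center_psp (F := F) hm hs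
  refine ⟨fun e => ?_, fun β hβ => ?_, fun hdvd M hM hnor hcop => ?_⟩
  · have h1 := tv_mem_fix hφ (v := eI ⟨0, by omega⟩)
      (fun j => by by_cases e1 : j = Sum.inl ⟨0, by omega⟩ <;> simp [eI, e1]) (map_one σ)
    rw [e, Subgroup.mem_bot] at h1
    exact one_ne_zero (pi_tv_eq_one (eI_ne_zero _) h1)
  · exact (pow_eq_one_of_fix hm hφ hσ fun v c hv hc => hβ _ (tv_mem_fix hφ hv hc)).1
  let F₀ := (σ.toRingHom).eqLocusField (RingHom.id F)
  let i : F₀ →+* F := F₀.subtype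
  have hi : ∀ x : F, σ x = x ↔ ∃ y, i y = x :=
    fun x => ⟨fun h => ⟨⟨x, h⟩, rfl⟩, by rintro ⟨y, rfl⟩; exact y.2⟩
  letI : Fintype F₀ := Fintype.ofFinite _
  let ψ : Sp m F₀ →* Cfsg.PSp m F := (pi m F).comp (spMap i)
  have hψfix : ∀ s, ψ s ∈ Fix φ := fun s => spMap_mem_fix hφ i (fun y => y.2) s
  have hψker : ψ.ker = Subgroup.center (Sp m F₀) := by
    ext s
    rw [MonoidHom.mem_ker]
    show (QuotientGroup.mk (spMap i s) : Cfsg.PSp m F) = 1 ↔ _
    rw [QuotientGroup.eq_one_iff]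
    constructor
    · intro h
      refine Subgroup.mem_center_iff.2 fun t => ?_
      have e := Subgroup.mem_center_iff.1 h (spMap i t)
      rw [← map_mul, ← map_mul] at e
      exact Subtype.ext (Matrix.ext fun a b => i.injective (congrArg (fun z : Sp m F => z.1 a b) e))
    · intro h
      rcases mem_center_iff.1 h with e | e
      · rw [e, map_one]; exact one_mem _
      · refine mem_center_iff.2 (Or.inr ?_)
        rw [e]
        refine Subtype.ext (Matrix.ext fun a b => ?_)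
        show i ((-1 : Matrix (Fin m ⊕ Fin m) (Fin m ⊕ Fin m) F₀) a b) = _
        by_cases hab : a = b <;> simp [negOne, hab]
  let ψ' : Cfsg.PSp m F₀ →* Cfsg.PSp m F := QuotientGroup.lift _ ψ hψker.ge
  have hψ' : Function.Injective ψ' := by
    rw [injective_iff_map_eq_one]
    intro a ha
    obtain ⟨s, rfl⟩ := QuotientGroup.mk_surjective a
    exact (QuotientGroup.eq_one_iff s).2 (hψker ▸ (MonoidHom.mem_ker.2 ha))
  have hψ'fix : ∀ a, ψ' a ∈ Fix φ := fun a => by
    obtain ⟨s, rfl⟩ := QuotientGroup.mk_surjective a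
    exact hψfix s
  haveI : (M.comap ψ').Normal := ⟨fun a ha g => by
    show ψ' (g * a * g⁻¹) ∈ M
    rw [map_mul, map_mul, map_inv]
    exact hnor _ (hψ'fix g) _ ha⟩
  have hq : Fintype.card F₀ = 2 → p ≠ 2 := fun h2 hp2 => by
    have h1 : ((2 : ℕ) : F₀) = 0 := by rw [← h2]; exact FiniteField.cast_card_eq_zero F₀
    have h3 : ((2 : ℕ) : F) = 0 := by rw [← map_natCast i, h1, map_zero]
    have h4 := (CharP.cast_eq_zero_iff F r 2).1 h3
    exact hpr (hp2.trans ((Nat.prime_dvd_prime_iff_eq Fact.out Nat.prime_two).1 h4).symm)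
  have hdvd0 : p ∣ Nat.card (Cfsg.PSp m F₀) := by
    obtain ⟨e⟩ := AutPSpField.exists_centralizer_equiv hm1 hφ i hi
    let j : Fix φ →* ↥(Cfsg.inndiagPSp m F ⊓ Subgroup.centralizer {φ}) :=
      ((MulAut.conj : Cfsg.PSp m F →* _).comp (Fix φ).subtype).codRestrict _ fun k => by
        refine ⟨?_, (conj_comm_iff hZ).2 k.2⟩
        obtain ⟨s, hs'⟩ := QuotientGroup.mk_surjective (k : Cfsg.PSp m F)
        exact (mem_inndiag_iff _).2 ⟨⟨rho m F s, AutPSpField.rho_mem s⟩, by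
          rw [AutPSpField.pgsp_rho, hs']; rfl⟩
    have hj : Function.Injective j := fun a b h =>
      Subtype.ext (conj_injective hZ (congrArg Subtype.val h))
    have h1 : p ∣ Nat.card (Cfsg.PGSp m F₀) :=
      hdvd.trans ((Subgroup.card_dvd_of_injective j hj).trans (dvd_of_eq (Nat.card_congr e.toEquiv)))
    haveI : Nonempty (Fin m ⊕ Fin m) := ⟨Sum.inl ⟨0, by omega⟩⟩
    have hS : Nat.card ((Cfsg.Geo.scalars (Fin m ⊕ Fin m) F₀).subgroupOf (Cfsg.GSp m F₀)) =
        Nat.card F₀ˣ := by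
      refine (Nat.card_congr (Equiv.ofBijective
        (fun c : F₀ˣ => (⟨⟨AutPSL.scalarGL _ c, AutPSpField.scalarGL_mem c⟩,
          (Cfsg.Geo.mem_scalars_iff _).2 ⟨c, AutPSL.scalarGL_coe c⟩⟩ :
            (Cfsg.Geo.scalars (Fin m ⊕ Fin m) F₀).subgroupOf (Cfsg.GSp m F₀))) ⟨fun c d h => ?_, ?_⟩)).symm
      · exact AutPSL.scalarGL_injective (congrArg (fun z => z.1.1) h)
      · rintro ⟨⟨g, hg⟩, hgs⟩
        obtain ⟨c, hc⟩ := (Cfsg.Geo.mem_scalars_iff _).1 hgs
        exact ⟨c, Subtype.ext (Subtype.ext (Units.ext (by rw [AutPSL.scalarGL_coe]; exact hc.symm)))⟩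
    have h2 : Nat.card (Cfsg.PGSp m F₀) = Nat.card (Sp m F₀) := by
      have h3 := Subgroup.card_eq_card_quotient_mul_card_subgroup
        ((Cfsg.Geo.scalars (Fin m ⊕ Fin m) F₀).subgroupOf (Cfsg.GSp m F₀))
      rw [hS, AutPSp.card_GSp hm1, mul_comm] at h3
      exact (Nat.eq_of_mul_eq_mul_right Nat.card_pos h3).symm
    rw [h2, Subgroup.card_eq_card_quotient_mul_card_subgroup (Subgroup.center (Sp m F₀))] at h1
    rcases hp.dvd_mul.1 h1 with h | h
    · exact h
    · -- the centre has order at most two, and `J` gives an involution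
      have hle : Nat.card (Subgroup.center (Sp m F₀)) ≤ 2 := by
        rw [← SetLike.coe_sort_coe, Nat.card_coe_set_eq]
        refine (Set.ncard_le_ncard (t := {1, negOne}) (fun z hz => ?_)).trans
          ((Set.ncard_insert_le _ _).trans (by rw [Set.ncard_singleton]))
        rcases mem_center_iff.1 hz with e1 | e1 <;> simp [e1]
      have hp2 : p = 2 := le_antisymm ((Nat.le_of_dvd Nat.card_pos h).trans hle) hp.two_le
      have hne : (2 : F₀) ≠ 0 := fun h0 => hpr (by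
        have h3 : ((2 : ℕ) : F) = 0 := by rw [← map_natCast i, Nat.cast_ofNat, h0, map_zero]
        exact hp2.trans ((Nat.prime_dvd_prime_iff_eq Fact.out Nat.prime_two).1
          ((CharP.cast_eq_zero_iff F r 2).1 h3)).symm)
      let Jm : Sp m F₀ := ⟨Matrix.J (Fin m) F₀, SymplecticGroup.J_mem _ _⟩
      have hJ2 : Jm * Jm = negOne := Subtype.ext (Matrix.J_squared _ _)
      have hJc : Jm ∉ Subgroup.center (Sp m F₀) := fun hc => by
        rcases mem_center_iff.1 hc with e1 | e1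
        · have := congrArg (fun z : Sp m F₀ => z.1 (Sum.inl ⟨0, hm1⟩) (Sum.inl ⟨0, hm1⟩)) e1
          simp [Jm, Matrix.J] at this
        · have := congrArg (fun z : Sp m F₀ => z.1 (Sum.inl ⟨0, hm1⟩) (Sum.inl ⟨0, hm1⟩)) e1
          simp [Jm, Matrix.J, negOne] at this
      have hord : orderOf (QuotientGroup.mk Jm : Cfsg.PSp m F₀) = 2 := by
        refine orderOf_eq_prime ?_ fun e1 => hJc ((QuotientGroup.eq_one_iff _).1 e1)
        rw [pow_two, ← QuotientGroup.mk_mul, hJ2, QuotientGroup.eq_one_iff]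
        exact mem_center_iff.2 (Or.inr rfl)
      rw [hp2, ← hord]
      exact orderOf_dvd_natCard _
  have hbot := normal_prime_bot (F₀ := F₀) hm hp (fun h => hq h.2) hdvd0 (M.comap ψ')
    (Nat.Coprime.coprime_dvd_left (Subgroup.card_comap_dvd_of_injective M ψ' hψ') hcop)
  refine (Subgroup.eq_bot_iff_forall _).2 fun a ha => ?_
  have hcomm : ∀ t, a * ψ' t * a⁻¹ = ψ' t ↔ MulAut.conj a (ψ' t) = ψ' t := fun t => Iff.rfl
  have hconj : MulAut.conj a = 1 := by
    refine (pow_eq_one_of_fix hm hφ hσ fun v c hv hc => ?_).2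
      (by
        obtain ⟨s, rfl⟩ := QuotientGroup.mk_surjective a
        exact (mem_inndiag_iff _).2 ⟨⟨rho m F s, AutPSpField.rho_mem s⟩, AutPSpField.pgsp_rho s⟩)
    let v₀ : Vec m F₀ := fun j => ⟨v j, hv j⟩
    let t : Cfsg.PSp m F₀ := QuotientGroup.mk (tv v₀ ⟨c, hc⟩)
    have ht : ψ' t = pi m F (tv v c) := by
      show pi m F (spMap i (tv v₀ ⟨c, hc⟩)) = _
      rw [spMap_tv]
      rfl
    rw [← ht]
    show a * ψ' t * a⁻¹ = ψ' t
    have h1 : a * ψ' t * a⁻¹ * (ψ' t)⁻¹ ∈ M := by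
      have h0 := M.mul_mem ha (hnor _ (hψ'fix t) _ (M.inv_mem ha))
      simpa [mul_assoc] using h0
    have hMl : ∀ z ∈ M, z ∈ Fix φ := fun z hz => hM hz
    by_contra hne
    have h2 : ψ' t * (a * ψ' t * a⁻¹ * (ψ' t)⁻¹) * (ψ' t)⁻¹ ∈ M := hnor _ (hψ'fix t) _ h1
    -- the commutator lies in the image, hence in the trivial comap
    have himg : a * ψ' t * a⁻¹ ∈ ψ'.range := by
      obtain ⟨s, rfl⟩ := QuotientGroup.mk_surjective a
      obtain ⟨e⟩ := AutPSpField.exists_centralizer_equiv hm1 hφ i hi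
      have hc' : pgsp m F ⟨rho m F s, AutPSpField.rho_mem s⟩ ∈ Subgroup.centralizer ({φ} : Set _) := by
        rw [AutPSpField.pgsp_rho]
        exact (conj_comm_iff hZ).2 (hMl _ ha)
      obtain ⟨g₀, d, hg₀, hgd⟩ := (AutPSpField.comm_field_iff hm1 hφ _).1 hc'
      obtain ⟨μ, hμ, hact⟩ := exists_act_tv g₀.2 (1 : F ≃+* F)
      have hw : (QuotientGroup.mk s : Cfsg.PSp m F) * ψ' t * (QuotientGroup.mk s)⁻¹ =
          pi m F (tv (((g₀ : GL (Fin m ⊕ Fin m) F) : Matrix (Fin m ⊕ Fin m) (Fin m ⊕ Fin m) F) *ᵥ v) (μ⁻¹ * c)) := by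
        rw [ht]
        have h3 : pgsp m F g₀ = MulAut.conj (QuotientGroup.mk s : Cfsg.PSp m F) := by
          rw [← AutPSpField.pgsp_rho, hgd, map_mul,
            show pgsp m F ⟨AutPSL.scalarGL _ d, AutPSpField.scalarGL_mem d⟩ = 1 from
              (AutPSpField.pgsp_eq_one_iff hm1).2 ⟨d, rfl⟩, mul_one]
        have h4 := AutPSpField.isSemi_pgsp g₀
        rw [h3] at h4
        exact h4 (tv v c) _ (hact v c).symm
      have hgv : ∀ j, σ ((((g₀ : GL (Fin m ⊕ Fin m) F) : Matrix (Fin m ⊕ Fin m) (Fin m ⊕ Fin m) F) *ᵥ v) j) =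
          (((g₀ : GL (Fin m ⊕ Fin m) F) : Matrix (Fin m ⊕ Fin m) (Fin m ⊕ Fin m) F) *ᵥ v) j := fun j => by
        have hent : ∀ a b, σ (((g₀ : GL (Fin m ⊕ Fin m) F) : Matrix (Fin m ⊕ Fin m) (Fin m ⊕ Fin m) F) a b) =
            ((g₀ : GL (Fin m ⊕ Fin m) F) : Matrix (Fin m ⊕ Fin m) (Fin m ⊕ Fin m) F) a b := fun a b =>
          congrArg (fun g : GL (Fin m ⊕ Fin m) F => (g : Matrix (Fin m ⊕ Fin m) (Fin m ⊕ Fin m) F) a b) hg₀
        simp [Matrix.mulVec, dotProduct, map_sum, hent, hv]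
      have hμc : σ (μ⁻¹ * c) = μ⁻¹ * c := by
        have hfx : pi m F (tv (((g₀ : GL (Fin m ⊕ Fin m) F) : Matrix (Fin m ⊕ Fin m) (Fin m ⊕ Fin m) F) *ᵥ v) (μ⁻¹ * c)) ∈ Fix φ := by
          rw [← hw]
          exact (Fix φ).mul_mem ((Fix φ).mul_mem (hMl _ ha) (hψ'fix t)) ((Fix φ).inv_mem (hMl _ ha))
        rw [mem_fix, std_tv hφ, show fv σ _ = _ from funext hgv] at hfx
        set w := ((g₀ : GL (Fin m ⊕ Fin m) F) : Matrix (Fin m ⊕ Fin m) (Fin m ⊕ Fin m) F) *ᵥ v
        by_cases hw0 : w = 0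
        · exfalso
          refine hne ?_
          rw [hw, hw0, ht]
          have hv0 : v = 0 := by
            have := congrArg ((((g₀ : GL (Fin m ⊕ Fin m) F)⁻¹ : GL _ F) : Matrix (Fin m ⊕ Fin m) (Fin m ⊕ Fin m) F) *ᵥ ·) hw0
            simp only [w, Matrix.mulVec_mulVec, ← Units.val_mul, inv_mul_cancel, Units.val_one,
              Matrix.one_mulVec, Matrix.mulVec_zero] at this
            exact this
          rw [hv0, ← zero_smul F (0 : Vec m F), tv_smul_vec, tv_smul_vec]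
          simp
        · have h5 : pi m F (tv w (σ (μ⁻¹ * c) + -(μ⁻¹ * c))) = 1 := by
            rw [← tv_mul_tv, map_mul, hfx, ← map_mul, tv_mul_tv, add_neg_cancel, tv_zero, map_one]
          linear_combination pi_tv_eq_one hw0 h5
      rw [hw]
      refine ⟨QuotientGroup.mk (tv (fun j => ⟨_, hgv j⟩ : Vec m F₀) ⟨_, hμc⟩), ?_⟩
      show pi m F (spMap i _) = _
      rw [spMap_tv]
      rfl
    obtain ⟨t', ht'⟩ := himg
    have h3 : t' * t⁻¹ ∈ M.comap ψ' := by
      show ψ' (t' * t⁻¹) ∈ M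
      rw [map_mul, map_inv, ht']
      exact h1
    rw [hbot, Subgroup.mem_bot, mul_inv_eq_one] at h3
    exact hne (by rw [← ht', h3])
  exact conj_injective hZ (by rw [hconj, map_one])

theorem criterion (hm : 2 ≤ m) (hs : m = 2 → 3 ≤ Fintype.card F) {r : ℕ} [Fact r.Prime] [CharP F r]
    (A : Subgroup (MulAut (Cfsg.PSp m F))) (hinn : ∀ k : Cfsg.PSp m F, MulAut.conj k ∈ A)
    {p : ℕ} [Fact p.Prime] (hpr : p ≠ r) (x : MulAut (Cfsg.PSp m F)) (hord : orderOf x = p)
    (hnot : ¬ Cfsg.IsInnerDiagonalAutPSp x) :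
    Cfsg.pPrimeCore p ↥(A ⊓ Subgroup.centralizer {x}) ≠ ⊥ ↔
      (Cfsg.IsFieldAutClassPSp x ∧ Nat.Coprime p (Nat.card (Fix x))) := by
  have hF := isFieldClass hm hs hpr x hord hnot
  obtain ⟨α, σ, -, hφ⟩ := id hF
  have hφ' := (AutPSpField.isStd_iff σ _).1 hφ
  have hσ : orderOf σ = p := by
    rw [← AutPSpField.orderOf_std (by omega) hφ', AutPSL.orderOf_conj', hord]
  obtain ⟨h1, h2, h3⟩ := fix_hyps hm hs hpr hσ hφ'
  have hcard : (Fix x).map α.toMonoidHom = Fix (α * x * α⁻¹) := by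
    ext k
    constructor
    · rintro ⟨z, hz, rfl⟩
      have hz' : x z = z := hz
      show α (x (α⁻¹ (α z))) = α z
      rw [MulAut.inv_apply_self, hz']
    · intro hk
      refine ⟨α⁻¹ k, ?_, MulAut.apply_inv_self _ α k⟩
      show x (α⁻¹ k) = α⁻¹ k
      have hk' : α (x (α⁻¹ k)) = k := hk
      conv_rhs => rw [← hk']
      rw [MulAut.inv_apply_self]
  have hmem : ∀ z, z ∈ Fix x → α z ∈ Fix (α * x * α⁻¹) := fun z hz => hcard ▸ ⟨z, hz, rfl⟩
  have hmem' : ∀ k, k ∈ Fix (α * x * α⁻¹) → α⁻¹ k ∈ Fix x := fun k hk => by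
    rw [← hcard] at hk
    obtain ⟨z, hz, rfl⟩ := hk
    show α⁻¹ (α z) ∈ _
    rw [MulAut.inv_apply_self]
    exact hz
  rw [core_iff (center_psp hm hs) (x := x) ?_ ?_ ?_ A hinn]
  · exact ⟨fun h => ⟨hF, h⟩, fun h => h.2⟩
  · intro e
    refine h1 ?_
    rw [← hcard, e, Subgroup.map_bot]
  · intro β hβ
    have h4 : (MulAut.conj α β) ^ p = 1 := h2 _ fun k hk => by
      show α (β (α⁻¹ k)) = k
      rw [hβ _ (hmem' k hk), MulAut.apply_inv_self]
    rw [← map_pow, ← map_one (MulAut.conj α)] at h4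
    exact (MulAut.conj α).injective h4
  · intro hdvd M hM hnor hcop
    have hinj : Function.Injective α.toMonoidHom := α.injective
    have h4 : M.map α.toMonoidHom = ⊥ := by
      refine h3 (by rw [← hcard, Subgroup.card_map_of_injective hinj]; exact hdvd) _
        (hcard ▸ Subgroup.map_mono hM) ?_ (by rwa [Subgroup.card_map_of_injective hinj])
      rintro l hl _ ⟨z, hz, rfl⟩
      refine ⟨α⁻¹ l * z * (α⁻¹ l)⁻¹, hnor _ (hmem' l hl) _ hz, ?_⟩
      show α (α⁻¹ l * z * (α⁻¹ l)⁻¹) = l * α z * l⁻¹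
      rw [map_mul, map_mul, map_inv, MulAut.apply_inv_self]
    exact (Subgroup.map_eq_bot_iff_of_injective _ hinj).1 h4

end main

end Cfsg.Agent.CG26.PSpLB
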