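import Cfsg.Prelude.Def_Classical
import Mathlib

/-!
Maximal totally singular subspaces of the hyperbolic quadratic form: two families.
-/

namespace Cfsg.Agent.CG26.Plus

variable {F : Type*} [Field F] {m : ℕ}

/-- `quadFormPlus` as a quadratic form -/
def plusQuad (m : ℕ) (F : Type*) [Field F] : QuadraticForm F (Fin m ⊕ Fin m → F) :=
  ∑ i : Fin m, QuadraticMap.linMulLin (LinearMap.proj (Sum.inl i)) (LinearMap.proj (Sum.inr i))

theorem plusQuad_apply (v : Fin m ⊕ Fin m → F) : plusQuad m F v = Cfsg.quadFormPlus m F v := by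
  simp [plusQuad, Cfsg.quadFormPlus]

/-- its polar form -/
abbrev pB (m : ℕ) (F : Type*) [Field F] : LinearMap.BilinForm F (Fin m ⊕ Fin m → F) :=
  QuadraticMap.polarBilin (plusQuad m F)

theorem pB_apply (x y : Fin m ⊕ Fin m → F) :
    pB m F x y = ∑ i, (x (.inl i) * y (.inr i) + y (.inl i) * x (.inr i)) := by
  simp only [pB, QuadraticMap.polarBilin_apply_apply, QuadraticMap.polar, plusQuad_apply,
    Cfsg.quadFormPlus, Pi.add_apply, ← Finset.sum_sub_distrib]
  exact Finset.sum_congr rfl fun i _ => by ring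

theorem pB_symm (x y : Fin m ⊕ Fin m → F) : pB m F x y = pB m F y x := by
  simp only [pB, QuadraticMap.polarBilin_apply_apply, QuadraticMap.polar_comm]

theorem pB_nondeg : (pB m F).Nondegenerate := by
  have main : ∀ x, (∀ y, pB m F x y = 0) → x = 0 := by
    intro x hx
    funext k
    rcases k with i | i
    · have h := hx (Pi.single (Sum.inr i) 1)
      rw [pB_apply] at h
      simpa [Pi.single_apply] using h
    · have h := hx (Pi.single (Sum.inl i) 1)
      rw [pB_apply] at h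
      simpa [Pi.single_apply] using h
  exact ⟨main, fun x hx => main x fun y => by rw [pB_symm]; exact hx y⟩

theorem pB_refl : (pB m F).IsRefl := fun x y h => by rw [pB_symm]; exact h

/-- totally singular -/
def IsTS (U : Submodule F (Fin m ⊕ Fin m → F)) : Prop := ∀ u ∈ U, Cfsg.quadFormPlus m F u = 0

theorem plusQuad_add (u v : Fin m ⊕ Fin m → F) :
    plusQuad m F (u + v) = plusQuad m F u + plusQuad m F v + pB m F u v := by
  simp only [pB, QuadraticMap.polarBilin_apply_apply, QuadraticMap.polar]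
  ring

theorem IsTS.pB_eq {U : Submodule F (Fin m ⊕ Fin m → F)} (hU : IsTS U) {x y : Fin m ⊕ Fin m → F}
    (hx : x ∈ U) (hy : y ∈ U) : pB m F x y = 0 := by
  simp [pB, QuadraticMap.polar, plusQuad_apply, hU _ (U.add_mem hx hy), hU x hx, hU y hy]

/-- the perp -/
abbrev perp (U : Submodule F (Fin m ⊕ Fin m → F)) : Submodule F (Fin m ⊕ Fin m → F) :=
  (pB m F).orthogonal U

theorem mem_perp {U : Submodule F (Fin m ⊕ Fin m → F)} {x : Fin m ⊕ Fin m → F} :
    x ∈ perp U ↔ ∀ u ∈ U, pB m F u x = 0 := Iff.rfl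

theorem finrank_perp (U : Submodule F (Fin m ⊕ Fin m → F)) :
    Module.finrank F ↥(perp U) + Module.finrank F U = 2 * m := by
  have h1 := LinearMap.BilinForm.finrank_orthogonal (pB_nondeg (F := F) (m := m)) U
  have h2 : Module.finrank F (Fin m ⊕ Fin m → F) = 2 * m := by simp; omega
  have h3 := Submodule.finrank_le U
  unfold perp
  omega

theorem IsTS.sup_span {H : Submodule F (Fin m ⊕ Fin m → F)} (hH : IsTS H) {z : Fin m ⊕ Fin m → F}
    (hz : z ∈ perp H) (hq : Cfsg.quadFormPlus m F z = 0) : IsTS (H ⊔ F ∙ z) := by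
  intro u hu
  obtain ⟨h, hh, w, hw, rfl⟩ := Submodule.mem_sup.1 hu
  obtain ⟨a, rfl⟩ := Submodule.mem_span_singleton.1 hw
  rw [← plusQuad_apply, plusQuad_add, QuadraticMap.map_smul, plusQuad_apply, plusQuad_apply, hq, hH h hh,
    map_smul, mem_perp.1 hz h hh]
  simp

theorem finrank_sup_span {H : Submodule F (Fin m ⊕ Fin m → F)} {z : Fin m ⊕ Fin m → F} (hz : z ∉ H) :
    Module.finrank F ↥(H ⊔ F ∙ z) = Module.finrank F H + 1 := by
  have hz0 : z ≠ 0 := fun h => hz (h ▸ H.zero_mem)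
  have h := Submodule.finrank_sup_add_finrank_inf_eq H (F ∙ z)
  have hinf : H ⊓ F ∙ z = ⊥ := by
    rw [eq_bot_iff]
    intro x hx
    obtain ⟨hxH, hxz⟩ := Submodule.mem_inf.1 hx
    obtain ⟨a, rfl⟩ := Submodule.mem_span_singleton.1 hxz
    rcases eq_or_ne a 0 with rfl | ha
    · simp
    · exact absurd ((Submodule.smul_mem_iff _ ha).1 hxH) hz
  rw [hinf, finrank_bot, finrank_span_singleton hz0] at h
  omega

theorem eq_sup_span {H U : Submodule F (Fin m ⊕ Fin m → F)} (hHU : H ≤ U)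
    (hd : Module.finrank F U = Module.finrank F H + 1) {z : Fin m ⊕ Fin m → F} (hz : z ∈ U) (hzH : z ∉ H) :
    U = H ⊔ F ∙ z :=
  (Submodule.eq_of_le_of_finrank_le (sup_le hHU ((Submodule.span_singleton_le_iff_mem _ _).2 hz))
    (by rw [finrank_sup_span hzH]; omega)).symm

theorem le_perp {H U : Submodule F (Fin m ⊕ Fin m → F)} (hU : IsTS U) (hHU : H ≤ U) : U ≤ perp H :=
  fun _ hx => mem_perp.2 fun _ hh => hU.pB_eq (hHU hh) hx

/-- `X ∩ H⊥` is one dimension larger than `X ∩ H`. -/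
theorem finrank_inf_perp {H X : Submodule F (Fin m ⊕ Fin m → F)}
    (hHd : Module.finrank F H + 1 = m) (hX : IsTS X) (hXd : Module.finrank F X = m) :
    Module.finrank F ↥(X ⊓ perp H) = Module.finrank F ↥(X ⊓ H) + 1 := by
  have hXperp : perp X = X := by
    refine (Submodule.eq_of_le_of_finrank_le (le_perp hX le_rfl) ?_).symm
    have := finrank_perp X
    omega
  have e : X ⊓ perp H = perp (X ⊔ H) := by
    nth_rewrite 1 [← hXperp]
    ext z
    simp only [Submodule.mem_inf, mem_perp]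
    constructor
    · rintro ⟨h1, h2⟩ u hu
      obtain ⟨a, ha, b, hb, rfl⟩ := Submodule.mem_sup.1 hu
      rw [map_add, LinearMap.add_apply, h1 a ha, h2 b hb, add_zero]
    · intro h
      exact ⟨fun u hu => h u (Submodule.mem_sup_left hu), fun u hu => h u (Submodule.mem_sup_right hu)⟩
  rw [e]
  have h1 := finrank_perp (X ⊔ H)
  have h2 := Submodule.finrank_sup_add_finrank_inf_eq X H
  omega

/-- the standard maximal totally singular subspace -/
def std (m : ℕ) (F : Type*) [Field F] : Submodule F (Fin m ⊕ Fin m → F) where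
  carrier := {v | ∀ i, v (.inr i) = 0}
  add_mem' ha hb i := by simp [ha i, hb i]
  zero_mem' i := rfl
  smul_mem' c x hx i := by simp [hx i]

theorem std_ts : IsTS (std m F) := fun u hu =>
  Finset.sum_eq_zero fun i _ => by rw [show u (.inr i) = 0 from hu i, mul_zero]

theorem std_finrank : Module.finrank F ↥(std m F) = m := by
  let e : ↥(std m F) ≃ₗ[F] (Fin m → F) :=
    { toFun := fun v i => v.1 (.inl i)
      map_add' := fun _ _ => rfl
      map_smul' := fun _ _ => rfl
      invFun := fun w => ⟨Sum.elim w 0, fun _ => rfl⟩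
      left_inv := fun v => Subtype.ext (funext fun k => by
        rcases k with i | i
        · rfl
        · exact (v.2 i).symm)
      right_inv := fun _ => rfl }
  rw [e.finrank_eq, Module.finrank_fin_fun]

/-- the two singular points of the hyperbolic line `H⊥/H` -/
theorem exists_two {H : Submodule F (Fin m ⊕ Fin m → F)} (hH : IsTS H)
    (hHd : Module.finrank F H + 1 = m) :
    ∃ x y : Fin m ⊕ Fin m → F, x ∈ perp H ∧ y ∈ perp H ∧ x ∉ H ∧ y ∉ H ∧
      Cfsg.quadFormPlus m F x = 0 ∧ Cfsg.quadFormPlus m F y = 0 ∧ y ∉ H ⊔ F ∙ x ∧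
      ∀ z ∈ perp H, Cfsg.quadFormPlus m F z = 0 → z ∈ H ⊔ F ∙ x ∨ z ∈ H ⊔ F ∙ y := by
  have hsub : H ≤ perp H := le_perp hH le_rfl
  obtain ⟨x, hx, hxH⟩ : ∃ x ∈ std m F ⊓ perp H, x ∉ H := by
    by_contra h
    push Not at h
    have h1 := Submodule.finrank_mono (show std m F ⊓ perp H ≤ std m F ⊓ H from
      fun z hz => Submodule.mem_inf.2 ⟨(Submodule.mem_inf.1 hz).1, h z hz⟩)
    rw [finrank_inf_perp hHd std_ts std_finrank] at h1
    omega
  obtain ⟨hxS, hxP⟩ := Submodule.mem_inf.1 hx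
  have hqx := std_ts x hxS
  have hperp2 : perp (perp H) = H :=
    LinearMap.BilinForm.orthogonal_orthogonal (pB_nondeg (F := F) (m := m)) pB_refl H
  obtain ⟨z, hz, hzx⟩ : ∃ z ∈ perp H, pB m F z x ≠ 0 := by
    by_contra h
    push Not at h
    exact hxH (hperp2 ▸ mem_perp.2 h)
  obtain ⟨w, hwP, hxw⟩ : ∃ w ∈ perp H, pB m F x w = 1 :=
    ⟨(pB m F z x)⁻¹ • z, Submodule.smul_mem _ _ hz, by
      rw [LinearMap.map_smul, smul_eq_mul, pB_symm x z, inv_mul_cancel₀ hzx]⟩
  have hbxx : pB m F x x = 0 := std_ts.pB_eq hxS hxS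
  obtain ⟨y, hy⟩ : ∃ y, y = w + (-plusQuad m F w) • x := ⟨_, rfl⟩
  have hyP : y ∈ perp H := hy ▸ Submodule.add_mem _ hwP (Submodule.smul_mem _ _ hxP)
  have hbxy : pB m F x y = 1 := by
    rw [hy, LinearMap.map_add, LinearMap.map_smul, hbxx, smul_zero, add_zero, hxw]
  have hbH : ∀ u ∈ H, ∀ v ∈ perp H, pB m F u v = 0 := fun u hu v hv => mem_perp.1 hv u hu
  have hqadd := plusQuad_add (F := F) (m := m)
  have hqy : Cfsg.quadFormPlus m F y = 0 := by
    rw [← plusQuad_apply, hy, hqadd, QuadraticMap.map_smul, LinearMap.map_smul, plusQuad_apply x, hqx,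
      pB_symm w x, hxw]
    simp
  have hyX : y ∉ H ⊔ F ∙ x := by
    intro h
    have : pB m F x y = 0 := (hH.sup_span hxP hqx).pB_eq
      (Submodule.mem_sup_right (Submodule.mem_span_singleton_self x)) h
    rw [hbxy] at this
    exact one_ne_zero this
  have hyH : y ∉ H := fun h => hyX (Submodule.mem_sup_left h)
  refine ⟨x, y, hxP, hyP, hxH, hyH, hqx, hqy, hyX, ?_⟩
  have hspan : perp H = (H ⊔ F ∙ x) ⊔ F ∙ y := by
    refine (Submodule.eq_of_le_of_finrank_le (sup_le (sup_le hsub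
      ((Submodule.span_singleton_le_iff_mem _ _).2 hxP))
      ((Submodule.span_singleton_le_iff_mem _ _).2 hyP)) ?_).symm
    rw [finrank_sup_span hyX, finrank_sup_span hxH]
    have := finrank_perp H
    omega
  intro v hv hq
  rw [hspan] at hv
  obtain ⟨u, hu, t, ht, rfl⟩ := Submodule.mem_sup.1 hv
  obtain ⟨h, hh, s, hs, rfl⟩ := Submodule.mem_sup.1 hu
  obtain ⟨a, rfl⟩ := Submodule.mem_span_singleton.1 hs
  obtain ⟨b, rfl⟩ := Submodule.mem_span_singleton.1 ht
  have hab : a * b = 0 := by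
    rw [← plusQuad_apply, hqadd, hqadd, QuadraticMap.map_smul, QuadraticMap.map_smul, plusQuad_apply h,
      plusQuad_apply x, plusQuad_apply y, hH h hh, hqx, hqy, map_add, LinearMap.add_apply,
      map_smul (pB m F), LinearMap.smul_apply, map_smul (pB m F h), map_smul (pB m F h),
      map_smul (pB m F x), hbH h hh x hxP, hbH h hh y hyP, hbxy] at hq
    simpa using hq
  rcases mul_eq_zero.1 hab with rfl | rfl
  · right
    simp only [zero_smul, add_zero]
    exact Submodule.add_mem _ (Submodule.mem_sup_left hh)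
      (Submodule.mem_sup_right (Submodule.mem_span_singleton.2 ⟨b, rfl⟩))
  · left
    simp only [zero_smul, add_zero]
    exact hu

/-- exactly two maximal totally singular subspaces through `H` -/
theorem ts_over {H : Submodule F (Fin m ⊕ Fin m → F)} (hH : IsTS H) (hHd : Module.finrank F H + 1 = m) :
    ∃ U₁ U₂ : Submodule F (Fin m ⊕ Fin m → F), U₁ ≠ U₂ ∧
      (Module.finrank F U₁ = m ∧ IsTS U₁ ∧ H ≤ U₁) ∧ (Module.finrank F U₂ = m ∧ IsTS U₂ ∧ H ≤ U₂) ∧
      (∀ U : Submodule F (Fin m ⊕ Fin m → F), Module.finrank F U = m → IsTS U → H ≤ U → U = U₁ ∨ U = U₂) ∧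
      (∀ z ∈ perp H, Cfsg.quadFormPlus m F z = 0 → z ∈ U₁ ∨ z ∈ U₂) := by
  obtain ⟨x, y, hxP, hyP, hxH, hyH, hqx, hqy, hyX, hall⟩ := exists_two hH hHd
  refine ⟨H ⊔ F ∙ x, H ⊔ F ∙ y, fun h => hyX (h ▸ Submodule.mem_sup_right (Submodule.mem_span_singleton_self y)),
    ⟨by rw [finrank_sup_span hxH]; omega, hH.sup_span hxP hqx, le_sup_left⟩,
    ⟨by rw [finrank_sup_span hyH]; omega, hH.sup_span hyP hqy, le_sup_left⟩, fun U hUd hU hHU => ?_, hall⟩
  obtain ⟨z, hz, hzH⟩ : ∃ z ∈ U, z ∉ H := by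
    by_contra h
    push Not at h
    have := Submodule.finrank_mono (show U ≤ H from h)
    omega
  rw [eq_sup_span hHU (by omega) hz hzH]
  rcases hall z (le_perp hU hHU hz) (hU z hz) with h | h
  · exact Or.inl (eq_sup_span le_sup_left (finrank_sup_span hxH) h hzH).symm
  · exact Or.inr (eq_sup_span le_sup_left (finrank_sup_span hyH) h hzH).symm

/-- adjacent subspaces meet any third in dimensions differing by one -/
theorem adjacent {U W X : Submodule F (Fin m ⊕ Fin m → F)} (hU : IsTS U) (hUd : Module.finrank F U = m)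
    (hW : IsTS W) (hWd : Module.finrank F W = m) (hUW : Module.finrank F ↥(U ⊓ W) + 1 = m)
    (hX : IsTS X) (hXd : Module.finrank F X = m) :
    Module.finrank F ↥(U ⊓ X) = Module.finrank F ↥(W ⊓ X) + 1 ∨
      Module.finrank F ↥(W ⊓ X) = Module.finrank F ↥(U ⊓ X) + 1 := by
  suffices key : ∀ U W : Submodule F (Fin m ⊕ Fin m → F), IsTS U → Module.finrank F U = m → IsTS W →
      Module.finrank F W = m → Module.finrank F ↥(U ⊓ W) + 1 = m →
      (∃ z ∈ X, z ∈ perp (U ⊓ W) ∧ z ∉ U ⊓ W ∧ z ∈ U) →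
      Module.finrank F ↥(U ⊓ X) = Module.finrank F ↥(W ⊓ X) + 1 by
    set H := U ⊓ W with hHdef
    have hH : IsTS H := fun u hu => hU u (Submodule.mem_inf.1 hu).1
    obtain ⟨z, hz, hzH⟩ : ∃ z ∈ X ⊓ perp H, z ∉ H := by
      by_contra h
      push Not at h
      have h1 := Submodule.finrank_mono (show X ⊓ perp H ≤ X ⊓ H from
        fun z hz => Submodule.mem_inf.2 ⟨(Submodule.mem_inf.1 hz).1, h z hz⟩)
      rw [finrank_inf_perp hUW hX hXd] at h1
      omega
    obtain ⟨hzX, hzP⟩ := Submodule.mem_inf.1 hz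
    obtain ⟨U₁, U₂, hne, -, -, huniq, hall⟩ := ts_over hH hUW
    have hne' : U ≠ W := fun h => by rw [hHdef, h, inf_idem, hWd] at hUW; omega
    have hzUW : z ∈ U ∨ z ∈ W := by
      rcases huniq U hUd hU inf_le_left with h1 | h1 <;> rcases huniq W hWd hW inf_le_right with h2 | h2
      · exact absurd (h1.trans h2.symm) hne'
      · rw [h1, h2]; exact hall z hzP (hX z hzX)
      · rw [h1, h2]; exact (hall z hzP (hX z hzX)).symm
      · exact absurd (h1.trans h2.symm) hne'
    rcases hzUW with h | h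
    · exact Or.inl (key U W hU hUd hW hWd hUW ⟨z, hzX, hzP, hzH, h⟩)
    · refine Or.inr (key W U hW hWd hU hUd (by rw [inf_comm]; exact hUW) ⟨z, hzX, ?_, ?_, h⟩)
      · rw [inf_comm]; exact hzP
      · rw [inf_comm]; exact hzH
  intro U W hU hUd hW hWd hUW ⟨z, hzX, hzP, hzH, hzU⟩
  have hdim := finrank_inf_perp hUW hX hXd
  have hUle : U ⊓ X ≤ X ⊓ perp (U ⊓ W) := fun v hv =>
    Submodule.mem_inf.2 ⟨(Submodule.mem_inf.1 hv).2, le_perp hU inf_le_left (Submodule.mem_inf.1 hv).1⟩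
  have hWle : W ⊓ X ≤ X ⊓ perp (U ⊓ W) := fun v hv =>
    Submodule.mem_inf.2 ⟨(Submodule.mem_inf.1 hv).2, le_perp hW inf_le_right (Submodule.mem_inf.1 hv).1⟩
  have h1 : X ⊓ (U ⊓ W) < U ⊓ X := by
    refine lt_of_le_of_ne (fun v hv => Submodule.mem_inf.2 ⟨(Submodule.mem_inf.1 (Submodule.mem_inf.1 hv).2).1,
      (Submodule.mem_inf.1 hv).1⟩) fun h => hzH ?_
    exact (Submodule.mem_inf.1 ((SetLike.ext_iff.1 h z).2 (Submodule.mem_inf.2 ⟨hzU, hzX⟩))).2
  have h2 : X ⊓ (U ⊓ W) ≤ W ⊓ X := fun v hv => Submodule.mem_inf.2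
    ⟨(Submodule.mem_inf.1 (Submodule.mem_inf.1 hv).2).2, (Submodule.mem_inf.1 hv).1⟩
  have h3 : W ⊓ X < X ⊓ perp (U ⊓ W) := by
    refine lt_of_le_of_ne hWle fun h => hzH (Submodule.mem_inf.2 ⟨hzU, ?_⟩)
    exact (Submodule.mem_inf.1 ((SetLike.ext_iff.1 h z).2 (Submodule.mem_inf.2 ⟨hzX, hzP⟩))).1
  have := Submodule.finrank_lt_finrank_of_lt h1
  have := Submodule.finrank_mono hUle
  have := Submodule.finrank_mono h2
  have := Submodule.finrank_lt_finrank_of_lt h3
  omega

theorem exists_between {S U : Submodule F (Fin m ⊕ Fin m → F)} (hSU : S ≤ U) :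
    ∀ j, Module.finrank F S + j ≤ Module.finrank F U →
      ∃ H, S ≤ H ∧ H ≤ U ∧ Module.finrank F ↥H = Module.finrank F S + j := by
  intro j
  induction j with
  | zero => exact fun _ => ⟨S, le_rfl, hSU, rfl⟩
  | succ j ih =>
    intro hj
    obtain ⟨H, h1, h2, h3⟩ := ih (by omega)
    obtain ⟨z, hz, hzH⟩ : ∃ z ∈ U, z ∉ H := by
      by_contra h
      push Not at h
      have := Submodule.finrank_mono (show U ≤ H from h)
      omega
    exact ⟨H ⊔ F ∙ z, le_sup_of_le_left h1, sup_le h2 ((Submodule.span_singleton_le_iff_mem _ _).2 hz),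
      by rw [finrank_sup_span hzH]; omega⟩

/-- parity -/
theorem parity {X : Submodule F (Fin m ⊕ Fin m → F)} (hX : IsTS X) (hXd : Module.finrank F X = m) :
    ∀ (k : ℕ) (U W : Submodule F (Fin m ⊕ Fin m → F)), IsTS U → Module.finrank F U = m → IsTS W →
      Module.finrank F W = m → Module.finrank F ↥(U ⊓ W) + k = m →
      Even (Module.finrank F ↥(U ⊓ X) + Module.finrank F ↥(W ⊓ X) + k) := by
  intro k
  induction k with
  | zero =>
    intro U W hU hUd hW hWd hk
    have hUW : U = W := by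
      have h1 : U ⊓ W = U := Submodule.eq_of_le_of_finrank_le inf_le_left (by omega)
      exact Submodule.eq_of_le_of_finrank_le (inf_eq_left.1 h1) (by omega)
    subst hUW
    exact ⟨Module.finrank F ↥(U ⊓ X), by omega⟩
  | succ k ih =>
    intro U W hU hUd hW hWd hk
    obtain ⟨H, hSH, hHU, hHd⟩ := exists_between (inf_le_left : U ⊓ W ≤ U) k (by omega)
    have hHd' : Module.finrank F H + 1 = m := by omega
    have hH : IsTS H := fun u hu => hU u (hHU hu)
    have hinf : W ⊓ H = U ⊓ W := le_antisymm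
      (fun v hv => Submodule.mem_inf.2 ⟨hHU (Submodule.mem_inf.1 hv).2, (Submodule.mem_inf.1 hv).1⟩)
      (fun v hv => Submodule.mem_inf.2 ⟨(Submodule.mem_inf.1 hv).2, hSH hv⟩)
    have hdim := finrank_inf_perp hHd' hW hWd
    rw [hinf] at hdim
    obtain ⟨z, hz, hzH⟩ : ∃ z ∈ W ⊓ perp H, z ∉ H := by
      by_contra h
      push Not at h
      have h1 := Submodule.finrank_mono (show W ⊓ perp H ≤ W ⊓ H from
        fun z hz => Submodule.mem_inf.2 ⟨(Submodule.mem_inf.1 hz).1, h z hz⟩)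
      rw [hinf] at h1
      omega
    obtain ⟨hzW, hzP⟩ := Submodule.mem_inf.1 hz
    obtain ⟨U', hU'def⟩ : ∃ U', U' = H ⊔ F ∙ z := ⟨_, rfl⟩
    have hU'd : Module.finrank F ↥U' = m := by rw [hU'def, finrank_sup_span hzH]; omega
    have hU' : IsTS U' := hU'def ▸ hH.sup_span hzP (hW z hzW)
    have hzU : z ∉ U := fun h => hzH (hSH (Submodule.mem_inf.2 ⟨h, hzW⟩))
    have hUU' : U ⊓ U' = H := by
      refine (Submodule.eq_of_le_of_finrank_le (le_inf hHU (hU'def ▸ le_sup_left)) ?_).symm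
      have hlt : U ⊓ U' < U' := lt_of_le_of_ne inf_le_right fun h => hzU
        (inf_eq_right.1 h (hU'def ▸ Submodule.mem_sup_right (Submodule.mem_span_singleton_self z)))
      have := Submodule.finrank_lt_finrank_of_lt hlt
      omega
    have hUU'd : Module.finrank F ↥(U ⊓ U') + 1 = m := by rw [hUU']; exact hHd'
    have hlt : U ⊓ W < U' ⊓ W := lt_of_le_of_ne
      (le_inf (hU'def ▸ hSH.trans le_sup_left) inf_le_right) fun h => hzU
        (Submodule.mem_inf.1 ((SetLike.ext_iff.1 h z).2 (Submodule.mem_inf.2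
          ⟨hU'def ▸ Submodule.mem_sup_right (Submodule.mem_span_singleton_self z), hzW⟩))).1
    have h1 := Submodule.finrank_lt_finrank_of_lt hlt
    have h2 := adjacent hU hUd hU' hU'd hUU'd hW hWd
    have h3 := adjacent hU hUd hU' hU'd hUU'd hX hXd
    have hk' : Module.finrank F ↥(U' ⊓ W) + k = m := by omega
    obtain ⟨r, hr⟩ := ih U' W hU' hU'd hW hWd hk'
    rcases h3 with h | h
    · exact ⟨r + 1, by omega⟩
    · exact ⟨r, by omega⟩

end Cfsg.Agent.CG26.Plus
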