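import Cfsg.Agent.CG26.SympSimDet
import Cfsg.Agent.CG26.CentSpinor
import Cfsg.Agent.Lib.UnitaryOrthogonal.GraphSplit

/-!
Semisimple elements of odd order in orthogonal groups: centralisers reach every multiplier and
spinor norm, so classes do not split in the inner-diagonal group.
-/

set_option autoImplicit false
set_option linter.unusedSectionVars false

namespace Cfsg.Agent.CG26.SemiCent

open QuadraticMap Module Matrix Cfsg.Agent.Reflections
open Cfsg.Agent.Forms59 (reflProd)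

universe u

variable {ι : Type} [Fintype ι] [DecidableEq ι] {F : Type u} [Field F] [Fintype F] [DecidableEq F]
  {Q : QuadraticForm F (ι → F)}

/-- An anisotropic fixed vector. -/
theorem exists_fix_aniso (hQ : Q.polarBilin.Nondegenerate) (a : Module.End F (ι → F))
    (ha : ∀ v, Q (a v) = Q v) {N : ℕ} (hN : a ^ N = 1) (hodd : Odd N) (hNF : (N : F) ≠ 0)
    {v : ι → F} (hv : a v = v) (hv0 : v ≠ 0) : ∃ w, a w = w ∧ Q w ≠ 0 := by
  by_contra hc
  push Not at hc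
  have hB : ∀ x y, Q.polarBilin (a x) (a y) = Q.polarBilin x y := fun x y => by
    simp [polar, ← map_add, ha]
  refine hv0 (eq_zero_of_polar_eq_zero hQ fun y => ?_)
  obtain ⟨r, hr, k, hk, rfl⟩ := Submodule.mem_sup.1
    ((Forms59.isCompl_range_ker a hN hNF).sup_eq_top ▸ Submodule.mem_top : y ∈ _)
  have hk' : a k = k :=
    Forms59.eq_one_of_sq_fixed hN hodd (sub_eq_zero.1 (by simpa using LinearMap.mem_ker.1 hk))
  have h1 : polar ⇑Q r v = 0 :=
    Forms59.orth_range_ker Q.polarBilin a hB r hr v (LinearMap.mem_ker.2 (by simp [hv]))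
  rw [polar_add_right, polar_comm ⇑Q v r, h1, zero_add, polar, hc v hv, hc k hk',
    hc _ (by rw [map_add, hv, hk'])]
  ring

/-- A second anisotropic fixed vector orthogonal to the first. -/
theorem exists_fix_pair (h2 : (2 : F) ≠ 0) (hQ : Q.polarBilin.Nondegenerate) {n : ℕ}
    (hcard : Fintype.card ι = 2 * n) (a : Module.End F (ι → F)) (ha : ∀ v, Q (a v) = Q v) {N : ℕ}
    (hN : a ^ N = 1) (hodd : Odd N) (hNF : (N : F) ≠ 0) {w : ι → F} (hw : a w = w) (hQw : Q w ≠ 0) :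
    ∃ y, a y = y ∧ Q y ≠ 0 ∧ polar ⇑Q w y = 0 := by
  set B := Q.polarBilin with hBdef
  have hB : ∀ x y, B (a x) (a y) = B x y := fun x y => by simp [B, polar, ← map_add, ha]
  set R := LinearMap.range (a * a - 1)
  set K := LinearMap.ker (a * a - 1)
  have hc := Forms59.isCompl_range_ker a hN hNF
  have hKfix : ∀ k ∈ K, a k = k := fun k hk =>
    Forms59.eq_one_of_sq_fixed hN hodd (sub_eq_zero.1 (by simpa using LinearMap.mem_ker.1 hk))
  have hfixK : ∀ k, a k = k → k ∈ K := fun k hk => LinearMap.mem_ker.2 (by simp [hk])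
  have haR : ∀ x ∈ R, a x ∈ R := by rintro _ ⟨x, rfl⟩; exact ⟨a x, by simp⟩
  have hsurj : Function.Surjective a := fun x => by
    obtain ⟨N', rfl⟩ : ∃ N', N = N' + 1 := ⟨N - 1, by have := hodd.pos; omega⟩
    exact ⟨(a ^ N') x, by rw [← Module.End.mul_apply, ← pow_succ', hN]; rfl⟩
  let B' : LinearMap.BilinForm F (ι → F) := LinearMap.BilinForm.comp B a LinearMap.id - LinearMap.BilinForm.comp B LinearMap.id a
  have hB' : ∀ u v, B' u v = B (a u) v - B u (a v) := fun u v => rfl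
  have halt : B'.IsAlt := fun u => by
    rw [hB']; simp only [B, polarBilin_apply_apply]; rw [polar_comm, sub_self]
  obtain ⟨m, e, f, he, hf, h12, h11, h22, hspan⟩ :=
    Cfsg.Agent.Forms.exists_symplectic_family B' halt R fun x hx hxR => by
      refine Submodule.disjoint_def.1 hc.disjoint x hx (LinearMap.mem_ker.2 ?_)
      refine hQ.1 _ fun y => ?_
      obtain ⟨u, rfl⟩ := hsurj y
      obtain ⟨r, hr, k, hk, rfl⟩ := Submodule.mem_sup.1
        (hc.sup_eq_top ▸ Submodule.mem_top : u ∈ _)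
      have h1 := hxR r hr
      have h2' : B (a x) k = 0 ∧ B x (a k) = 0 :=
        ⟨Forms59.orth_range_ker B a hB _ (haR x hx) k hk,
          by rw [hKfix k hk]; exact Forms59.orth_range_ker B a hB x hx k hk⟩
      rw [hB'] at h1
      rw [LinearMap.sub_apply, Module.End.mul_apply, Module.End.one_apply, map_sub,
        LinearMap.sub_apply, hB, map_add, map_add, map_add, h2'.1, h2'.2]
      linear_combination h1
  have hR := Cfsg.Agent.Forms.finrank_eq_of_symplectic_family B' halt R e f he hf h12 h11 h22 hspan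
  have hsum := Submodule.finrank_add_eq_of_isCompl hc
  rw [hR, Module.finrank_fintype_fun_eq_card, hcard] at hsum
  obtain ⟨y, hyK, hy⟩ : ∃ y ∈ K, y ∉ Submodule.span F {w} := by
    by_contra h
    push Not at h
    have h1 := Submodule.finrank_mono (show K ≤ Submodule.span F {w} from h)
    rw [finrank_span_singleton (fun e => hQw (by rw [e, map_zero]))] at h1
    have h2' : 0 < finrank F K := by
      have : w ∈ K := hfixK w hw
      exact Module.finrank_pos_iff_exists_ne_zero.2 ⟨⟨w, this⟩, fun e => hQw (by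
        rw [show w = 0 from congrArg Subtype.val e, map_zero])⟩
    change 2 * m + finrank F K = 2 * n at hsum
    omega
  by_contra hcon
  push Not at hcon
  let pr : (ι → F) → (ι → F) := fun z => z - (polar ⇑Q w z / polar ⇑Q w w) • w
  have hww : polar ⇑Q w w ≠ 0 := by rw [polar_self']; exact mul_ne_zero h2 hQw
  have hpr : ∀ z, polar ⇑Q w (pr z) = 0 := fun z => by
    simp only [pr, polar_sub_right, polar_smul_right, smul_eq_mul]
    field_simp; ring
  have hprf : ∀ z, a z = z → a (pr z) = pr z := fun z hz => by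
    simp only [pr, map_sub, map_smul, hw, hz]
  have hzero : ∀ z, a z = z → polar ⇑Q w z = 0 → Q z = 0 := fun z hz h => by
    by_contra h0; exact hcon z hz h0 h
  refine hy ?_
  have : pr y = 0 := eq_zero_of_polar_eq_zero hQ fun u => by
    obtain ⟨r, hr, k, hk, rfl⟩ := Submodule.mem_sup.1
      (hc.sup_eq_top ▸ Submodule.mem_top : u ∈ _)
    have hpy := hprf y (hKfix y hyK)
    have h1 : polar ⇑Q r (pr y) = 0 := Forms59.orth_range_ker B a hB r hr _ (hfixK _ hpy)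
    rw [polar_add_right, polar_comm ⇑Q (pr y) r, h1, zero_add,
      show k = pr k + (polar ⇑Q w k / polar ⇑Q w w) • w by simp [pr], polar_add_right,
      polar_smul_right, polar_comm ⇑Q (pr y) w, hpr, smul_zero, add_zero, polar,
      hzero _ hpy (hpr y), hzero _ (hprf k (hKfix k hk)) (hpr k),
      hzero _ (by rw [map_add, hpy, hprf k (hKfix k hk)]) (by rw [polar_add_right, hpr, hpr, add_zero])]
    ring
  rw [Submodule.mem_span_singleton]
  exact ⟨_, (sub_eq_zero.1 this).symm⟩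

theorem pow_mulVecLin (M : Matrix ι ι F) : ∀ N : ℕ, (M.mulVecLin) ^ N = (M ^ N).mulVecLin
  | 0 => by rw [pow_zero, pow_zero, Matrix.mulVecLin_one]; rfl
  | N + 1 => by rw [pow_succ, pow_succ, pow_mulVecLin M N, Matrix.mulVecLin_mul]; rfl

theorem lin_pow {a : ↥(Cfsg.isometryGroup F ⇑Q)} {N : ℕ} (hN : a ^ N = 1) :
    (mat a).mulVecLin ^ N = 1 := by
  rw [pow_mulVecLin]
  have : mat a ^ N = 1 := by
    have := congrArg mat hN
    simpa [mat] using this
  rw [this, Matrix.mulVecLin_one]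
  rfl

theorem refl_comm_of_fix (a : ↥(Cfsg.isometryGroup F ⇑Q)) {w : ι → F} (hw : act a w = w)
    (hQw : Q w ≠ 0) : Commute (refl Q w) a := by
  have := conj_refl a hQw
  rw [hw, mul_inv_eq_iff_eq_mul] at this
  exact this.symm

/-- An element of the special orthogonal group outside `Ω` in the centraliser. -/
theorem exists_spinor (h2 : (2 : F) ≠ 0) (hQ : Q.polarBilin.Nondegenerate) {n : ℕ}
    (hn : 1 ≤ n) (hcard : Fintype.card ι = 2 * n) (a : ↥(Cfsg.isometryGroup F ⇑Q)) {N : ℕ}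
    (hN : a ^ N = 1) (hodd : Odd N) (hNF : (N : F) ≠ 0) :
    ∃ z : ↥(Cfsg.isometryGroup F ⇑Q), detHom Q z = 1 ∧ z ∉ Cfsg.Omega F ⇑Q ∧ Commute z a := by
  have hfun : ∀ v, Q ((mat a).mulVecLin v) = Q v := fun v => act_Q a v
  by_cases hfix : ∀ v, (mat a).mulVecLin v = v → v = 0
  · obtain ⟨z, h1, h2', h3⟩ :=
      exists_comm_no_fix h2 hQ (by omega) _ hfun (lin_pow hN) hodd hNF hfix
    exact ⟨z, h1, h2', isom_ext fun x => by rw [act_mul, act_mul]; exact h3 x⟩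
  push Not at hfix
  obtain ⟨v, hv, hv0⟩ := hfix
  obtain ⟨w, hw, hQw⟩ := exists_fix_aniso hQ _ hfun (lin_pow hN) hodd hNF hv hv0
  obtain ⟨y, hy, hQy, hwy⟩ := exists_fix_pair h2 hQ hcard _ hfun (lin_pow hN) hodd hNF hw hQw
  obtain ⟨ε, hε0, hε⟩ := exists_nonsquare_scalar (F := F) h2
  obtain ⟨s, t, hst⟩ := exists_sum_sq h2 hQw hQy (ε * Q w)
  set x := s • w + t • y with hx
  have hQx : Q x = ε * Q w := by
    rw [hx, map_add', Reflections.map_smul', Reflections.map_smul', polar_smul_left, polar_smul_right, hwy]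
    simp only [smul_eq_mul, mul_zero, add_zero]
    linear_combination hst
  have hax : act a x = x := by
    rw [hx, act_add, act_smul, act_smul, show act a w = w from hw, show act a y = y from hy]
  have hQx0 : Q x ≠ 0 := by rw [hQx]; exact mul_ne_zero hε0 hQw
  refine ⟨reflProd Q [w, x], ?_, ?_, ?_⟩
  · simp [reflProd, detHom_refl hQw, detHom_refl hQx0]
  · rw [Forms59.reflProd_mem_omega_iff h2 hQ (by omega) _ (by simp [hQw, hQx0])]
    rintro ⟨-, r, hr⟩
    simp only [List.map_cons, List.map_nil, List.prod_cons, List.prod_nil, mul_one, hQx] at hr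
    exact hε ⟨r / Q w, by field_simp; linear_combination hr⟩
  · rw [show reflProd Q [w, x] = refl Q w * refl Q x by simp [reflProd]]
    exact (refl_comm_of_fix a hw hQw).mul_left (refl_comm_of_fix a hax hQx0)

/-- A similitude with multiplier `ν` and determinant `νⁿ` in the centraliser. -/
theorem exists_sim (h2 : (2 : F) ≠ 0) (hQ : Q.polarBilin.Nondegenerate) {n : ℕ}
    (hcard : Fintype.card ι = 2 * n) (a : ↥(Cfsg.isometryGroup F ⇑Q)) {N : ℕ}
    (hN : a ^ N = 1) (hodd : Odd N) (hNF : (N : F) ≠ 0) {ν : F} (hν : ν ≠ 0)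
    (g0 : (ι → F) ≃ₗ[F] (ι → F)) (hg0 : ∀ v, Q (g0 v) = ν * Q v) :
    ∃ c : GL ι F, (∀ v, Q ((c : Matrix ι ι F) *ᵥ v) = ν * Q v) ∧
      (c : Matrix ι ι F).det = ν ^ n ∧ Commute c (a : GL ι F) := by
  set A := (mat a).mulVecLin with hA
  have hfun : ∀ v, Q (A v) = Q v := fun v => act_Q a v
  let b : Module.End F (ι → F) := g0.toLinearMap * A * g0.symm.toLinearMap
  have hbA : g0.toLinearMap * A = b * g0.toLinearMap := LinearMap.ext fun x => by simp [b]
  have hbQ : ∀ v, Q (b v) = Q v := fun v => by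
    have : ν * Q v = ν * Q (b v) := by
      obtain ⟨x, rfl⟩ := g0.surjective v
      show ν * Q (g0 x) = ν * Q (g0 (A (g0.symm (g0 x))))
      rw [g0.symm_apply_apply, hg0, hg0, hfun]
    exact (mul_left_cancel₀ hν this).symm
  have hbN : b ^ N = 1 := by
    have h := (show SemiconjBy g0.toLinearMap A b from hbA).pow_right N
    rw [lin_pow hN] at h
    refine LinearMap.ext fun x => ?_
    obtain ⟨y, rfl⟩ := g0.surjective x
    exact (LinearMap.congr_fun h.eq y).symm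
  obtain ⟨G, hG, hGc⟩ := Forms59.orth_conj Q hQ A b g0.toLinearMap g0.bijective hbA hfun hbQ
    (lin_pow hN) hbN hNF hodd
  let C : (ι → F) ≃ₗ[F] (ι → F) := g0.trans G.symm
  have hC : ∀ v, Q (C v) = ν * Q v := fun v => by
    show Q (G.symm (g0 v)) = _
    rw [← hG, G.apply_symm_apply, hg0]
  have hCA : ∀ v, C (A v) = A (C v) := fun v => by
    show G.symm (g0 (A v)) = A (G.symm (g0 v))
    apply G.injective
    rw [G.apply_symm_apply, hGc, G.apply_symm_apply]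
    exact LinearMap.congr_fun hbA v
  have hB : ∀ (D : Module.End F (ι → F)) (μ : F), (∀ v, Q (D v) = μ * Q v) →
      ∀ u v, Q.polarBilin (D u) (D v) = μ * Q.polarBilin u v := fun D μ hD u v => by
    simp only [polarBilin_apply_apply, polar, ← map_add, hD]; ring
  -- some sign of the determinant
  have hdsq : LinearMap.det C.toLinearMap ^ 2 = (ν ^ n) ^ 2 := by
    let bs := Pi.basisFun F ι
    have h := LinearMap.BilinForm.toMatrix_comp (b := bs) Q.polarBilin C.toLinearMap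
      C.toLinearMap (c := bs)
    rw [show LinearMap.BilinForm.comp Q.polarBilin C.toLinearMap C.toLinearMap = ν • Q.polarBilin from
      LinearMap.ext fun u => LinearMap.ext fun v => hB _ ν hC u v, map_smul] at h
    have hd := congrArg Matrix.det h
    rw [Matrix.det_smul, Matrix.det_mul, Matrix.det_mul, Matrix.det_transpose, LinearMap.det_toMatrix,
      hcard, mul_comm 2 n, pow_mul] at hd
    have hG0 := (LinearMap.BilinForm.nondegenerate_iff_det_ne_zero bs).1 hQ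
    exact mul_right_cancel₀ hG0 (by linear_combination -hd)
  have mk : ∀ D : (ι → F) ≃ₗ[F] (ι → F), (∀ v, Q (D v) = ν * Q v) → (∀ v, D (A v) = A (D v)) →
      LinearMap.det D.toLinearMap = ν ^ n →
      ∃ c : GL ι F, (∀ v, Q ((c : Matrix ι ι F) *ᵥ v) = ν * Q v) ∧
        (c : Matrix ι ι F).det = ν ^ n ∧ Commute c (a : GL ι F) := by
    intro D h1 h2' h3
    let c : GL ι F := Matrix.GeneralLinearGroup.toLin.symm
      ((LinearMap.GeneralLinearGroup.generalLinearEquiv F _).symm D)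
    have hc : (c : Matrix ι ι F).mulVecLin = D.toLinearMap := by
      rw [← Matrix.GeneralLinearGroup.coe_toLin, MulEquiv.apply_symm_apply]; rfl
    have hcv : ∀ v, (c : Matrix ι ι F) *ᵥ v = D v := fun v => LinearMap.congr_fun hc v
    refine ⟨c, fun v => by rw [hcv]; exact h1 v, ?_, Units.ext (Matrix.ext_iff_mulVec.2 fun v => ?_)⟩
    · rw [← h3, ← hc, ← LinearMap.det_toLin']; rfl
    · rw [Units.val_mul, Units.val_mul, ← mulVec_mulVec, ← mulVec_mulVec, hcv, hcv]; exact h2' v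
  rcases sq_eq_sq_iff_eq_or_eq_neg.1 hdsq with hd | hd
  · exact mk C hC hCA hd
  by_cases hfix : ∀ v, A v = v → v = 0
  · refine mk C hC hCA (det_eq_of_commute Q.polarBilin hQ (fun u v => polar_comm _ _ _) A
      C.toLinearMap (fun u v => by simpa using hB A 1 (fun v => by rw [hfun, one_mul]) u v)
      (fun v hv => hfix v (Forms59.eq_one_of_sq_fixed (lin_pow hN) hodd hv)) hν (hB _ ν hC) hCA
      (by rw [Module.finrank_fintype_fun_eq_card, hcard]))
  push Not at hfix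
  obtain ⟨v, hv, hv0⟩ := hfix
  obtain ⟨w, hw, hQw⟩ := exists_fix_aniso hQ A hfun (lin_pow hN) hodd hNF hv hv0
  let R : (ι → F) ≃ₗ[F] (ι → F) :=
    LinearMap.GeneralLinearGroup.generalLinearEquiv F _
      (Matrix.GeneralLinearGroup.toLin ((refl Q w : ↥(Cfsg.isometryGroup F ⇑Q)) : GL ι F))
  have hR : ∀ v, R v = act (refl Q w) v := fun v => rfl
  refine mk (R.trans C) (fun v => ?_) (fun v => ?_) ?_
  · show Q (C (R v)) = _; rw [hC, hR, act_Q]
  · show C (R (A v)) = A (C (R v))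
    rw [← hCA, hR, hR]
    exact congrArg C (by
      have := congrArg (fun g => act g v) (refl_comm_of_fix a hw hQw).eq
      rw [act_mul, act_mul] at this; exact this)
  · rw [show (R.trans C).toLinearMap = C.toLinearMap ∘ₗ R.toLinearMap from rfl, LinearMap.det_comp, hd,
      show LinearMap.det R.toLinearMap = (mat (refl Q w)).det by
        rw [← LinearMap.det_toLin']; rfl, mat_refl hQw, det_reflection Q hQw]
    ring

open Cfsg.Agent.UnitaryOrthogonal.GraphSplit (Ind ind_mul ind_inv ind_ext ind_one ind_omega normalises)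
open Cfsg.Agent.FieldAutGen.Orth (Frame rho mem_iso induced_iff iso_le_sim isSemi_one_iff)
open Cfsg.Agent.AutPSL (scalarGL scalarGL_coe)


theorem exists_gen {T : Subgroup (GL ι F)} (hT : T ≤ (Cfsg.Geo.quadSimilarityGroup (F := F) ⇑Q)) {β : (MulAut (Cfsg.POmega F ⇑Q))}
    (hβ : β ∈ Cfsg.autSubgroupOf fun β => ∃ g : GL ι F, g ∈ T ∧
      Cfsg.IsInducedBySemilinearPOmega ⇑Q g (RingEquiv.refl F) β) :
    ∃ g ∈ T, Ind (⇑Q) g β := by
  rw [Cfsg.autSubgroupOf] at hβ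
  induction hβ using Subgroup.closure_induction'' with
  | mem x hx => obtain ⟨g, hg, hi⟩ := hx; exact ⟨g, hg, induced_iff.1 hi⟩
  | one => exact ⟨1, one_mem _, ind_one⟩
  | inv_mem x hx =>
    obtain ⟨g, hg, hi⟩ := hx
    exact ⟨g⁻¹, inv_mem hg, ind_inv (hT hg) (induced_iff.1 hi)⟩
  | mul x y _ _ hx hy =>
    obtain ⟨g, hg, hi⟩ := hx
    obtain ⟨k, hk, hj⟩ := hy
    exact ⟨g * k, mul_mem hg hk, ind_mul (hT hk) hi hj⟩

theorem exists_aut {g : GL ι F} (hg : g ∈ (Cfsg.Geo.quadSimilarityGroup (F := F) ⇑Q)) : ∃ β : (MulAut (Cfsg.POmega F ⇑Q)), Ind (⇑Q) g β :=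
  AutPSL.exists_induced (FieldAutGen.Orth.rho_injective _) (normalises hg)

theorem ind_pow {g : GL ι F} (hg : g ∈ (Cfsg.Geo.quadSimilarityGroup (F := F) ⇑Q)) {β : (MulAut (Cfsg.POmega F ⇑Q))} (h : Ind (⇑Q) g β) :
    ∀ r : ℕ, Ind (⇑Q) (g ^ r) (β ^ r)
  | 0 => by rw [pow_zero, pow_zero]; exact ind_one
  | r + 1 => by rw [pow_succ, pow_succ]; exact ind_mul hg (ind_pow hg h r) h

theorem ind_scalar (l : Fˣ) : scalarGL ι l ∈ (Cfsg.Geo.quadSimilarityGroup (F := F) ⇑Q) ∧ Ind (⇑Q) (scalarGL ι l) (1 : (MulAut (Cfsg.POmega F ⇑Q))) := by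
  refine ⟨⟨l * l, fun v => ?_⟩, fun s s' hs => ?_⟩
  · rw [scalarGL_coe, Matrix.smul_mulVec, Matrix.one_mulVec, Units.val_mul, Reflections.map_smul']
  · have : rho (⇑Q) s' = rho (⇑Q) s := by
      apply Units.ext
      rw [hs, AutPSL.act_coe, scalarGL_coe]
      have : ((scalarGL ι l)⁻¹ : GL ι F).val = (l : F)⁻¹ • (1 : Matrix ι ι F) := by
        rw [← map_inv, scalarGL_coe, Units.val_inv_eq_inv_val]
      rw [this]
      simp [Matrix.map_id', smul_smul]
    rw [FieldAutGen.Orth.rho_injective _ this]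
    rfl

theorem ind_commute {g k : GL ι F} {β γ : (MulAut (Cfsg.POmega F ⇑Q))} (hg : g ∈ (Cfsg.Geo.quadSimilarityGroup (F := F) ⇑Q)) (hk : k ∈ (Cfsg.Geo.quadSimilarityGroup (F := F) ⇑Q)) (hβ : Ind (⇑Q) g β)
    (hγ : Ind (⇑Q) k γ) (h : Commute g k) : Commute β γ := by
  refine ind_ext (mul_mem hg hk) (ind_mul hk hβ hγ) ?_
  rw [h.eq]
  exact ind_mul hg hγ hβ

/-- An element of odd order comes from an isometry of the same order. -/
theorem exists_lift (hQ : Q.polarBilin.Nondegenerate) (h2 : (2 : F) ≠ 0) {k : ℕ} (hk : 3 ≤ k)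
    (E : Frame Q k) {g : GL ι F} (hg : g ∈ (Cfsg.Geo.quadSimilarityGroup (F := F) ⇑Q)) {x : (MulAut (Cfsg.POmega F ⇑Q))} (hgx : Ind (⇑Q) g x) {r : ℕ}
    (hr : Odd r) (hx : x ^ r = 1) :
    ∃ s : ↥(Cfsg.isometryGroup F ⇑Q), s ^ r = 1 ∧ Ind (⇑Q) (s : GL ι F) x := by
  obtain ⟨v, hv⟩ : ∃ v, Q v ≠ 0 := ⟨E.e ⟨0, by omega⟩ + E.f ⟨0, by omega⟩, by
    rw [map_add', E.Qe, E.Qf, E.ef, if_pos rfl]; simp⟩
  have hscalar : ∀ h : GL ι F, h ∈ (Cfsg.Geo.quadSimilarityGroup (F := F) ⇑Q) → Ind (⇑Q) h (1 : (MulAut (Cfsg.POmega F ⇑Q))) → ∃ l : Fˣ, h = scalarGL ι l :=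
    fun h hh hi => (FieldAutGen.Orth.eq_one_of_induced hk E
      (FieldAutGen.Orth.hasSiegel_of_two_ne_zero h2 Q hQ) (isSemi_one_iff.2 hh) hi).2
  obtain ⟨l, hl⟩ := hscalar _ (pow_mem hg r) (hx ▸ ind_pow hg hgx r)
  obtain ⟨c, hc⟩ := hg
  have hpow : ∀ j, Q (((g ^ j : GL ι F) : Matrix ι ι F) *ᵥ v) = (c : F) ^ j * Q v := by
    intro j
    induction j with
    | zero => simp
    | succ j ih =>
      rw [pow_succ', Units.val_mul, ← mulVec_mulVec, hc, ih, pow_succ']; ring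
  have hcl : c ^ r = l * l := Units.ext (by
    have := hpow r
    rw [hl, scalarGL_coe, Matrix.smul_mulVec, Matrix.one_mulVec, Reflections.map_smul'] at this
    exact (mul_right_cancel₀ hv this).symm)
  obtain ⟨j, rfl⟩ := hr
  set l' : Fˣ := l * (c ^ j)⁻¹
  have hc' : c = l' * l' := by
    rw [show l' * l' = l * l * (c ^ j * c ^ j)⁻¹ by simp only [l', mul_inv]; ac_rfl, ← hcl,
      ← pow_add, ← two_mul, pow_succ, mul_inv_cancel_comm]
  set s0 := g * scalarGL ι l'⁻¹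
  have hs0 : s0 ∈ Cfsg.isometryGroup F ⇑Q := mem_iso.2 fun u => by
    rw [Units.val_mul, scalarGL_coe, ← mulVec_mulVec, Matrix.smul_mulVec, Matrix.one_mulVec, hc,
      Reflections.map_smul', hc', Units.val_mul, Units.val_inv_eq_inv_val]
    field_simp
  have hs0x : Ind (⇑Q) s0 x := by
    have := ind_mul (ind_scalar (Q := Q) l'⁻¹).1 hgx (ind_scalar l'⁻¹).2
    rwa [mul_one] at this
  obtain ⟨m, hm⟩ := hscalar _ (pow_mem (iso_le_sim _ hs0) (2 * j + 1))
    (hx ▸ ind_pow (iso_le_sim _ hs0) hs0x _)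
  have hm1 : (m : F) * m = 1 := by
    have := mem_iso.1 (pow_mem hs0 (2 * j + 1)) v
    rw [hm, scalarGL_coe, Matrix.smul_mulVec, Matrix.one_mulVec, Reflections.map_smul'] at this
    exact (mul_eq_right₀ hv).1 this
  refine ⟨⟨s0 ^ (2 * j + 1 + 1), pow_mem hs0 _⟩, Subtype.ext ?_, ?_⟩
  · show (s0 ^ (2 * j + 1 + 1)) ^ (2 * j + 1) = 1
    rw [← pow_mul, mul_comm, pow_mul, hm, ← map_pow, show 2 * j + 1 + 1 = 2 * (j + 1) by ring,
      pow_mul, pow_two, show m * m = 1 from Units.ext hm1, one_pow, map_one]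
  · have := ind_pow (iso_le_sim _ hs0) hs0x (2 * j + 1 + 1)
    rwa [pow_succ x, hx, one_mul] at this

/-- Classes of semisimple elements of odd order do not split. -/
theorem classes (h2 : (2 : F) ≠ 0) (hQ : Q.polarBilin.Nondegenerate) {n : ℕ} (hn : 3 ≤ n)
    (hcard : Fintype.card ι = 2 * n) {k : ℕ} (hk : 3 ≤ k) (E : Frame Q k)
    (hsim : ∀ ν : F, ν ≠ 0 → ∃ g0 : (ι → F) ≃ₗ[F] (ι → F), ∀ v, Q (g0 v) = ν * Q v)
    {P : GL ι F → Prop}
    (hP : ∀ (g : GL ι F) (c : F), c ≠ 0 → (∀ v, Q ((g : Matrix ι ι F) *ᵥ v) = c * Q v) →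
      (P g ↔ (g : Matrix ι ι F).det = c ^ n))
    {InnD : Subgroup (MulAut (Cfsg.POmega F ⇑Q))}
    (hInn : InnD = Cfsg.autSubgroupOf fun β => ∃ g : GL ι F, g ∈ (Cfsg.Geo.quadSimilarityGroup (F := F) ⇑Q) ∧ P g ∧
      Cfsg.IsInducedBySemilinearPOmega ⇑Q g (RingEquiv.refl F) β)
    (x : (MulAut (Cfsg.POmega F ⇑Q))) (hx : x ∈ Cfsg.pgoAut F ⇑Q) {r : ℕ} (hr : Odd r) (hrF : (r : F) ≠ 0)
    (hxr : orderOf x = r) :
    (∀ y : (MulAut (Cfsg.POmega F ⇑Q)), (Cfsg.IsConjUnder (Cfsg.Inn (Cfsg.POmega F ⇑Q)) x y ↔ Cfsg.IsConjUnder InnD x y) ∧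
      (Cfsg.IsConjUnder (Cfsg.psoAut F ⇑Q) x y ↔ Cfsg.IsConjUnder InnD x y)) ∧
    ∀ y : (MulAut (Cfsg.POmega F ⇑Q)), Cfsg.IsConjUnder (Cfsg.poAut F ⇑Q) x y ↔ Cfsg.IsConjUnder (Cfsg.pgoAut F ⇑Q) x y := by
  obtain ⟨g, hg, hgx⟩ := exists_gen (Q := Q) (T := (Cfsg.Geo.quadSimilarityGroup (F := F) ⇑Q)) le_rfl hx
  obtain ⟨s, hs, hsx⟩ := exists_lift hQ h2 hk E hg hgx hr (hxr ▸ pow_orderOf_eq_one x)
  have hsGS := iso_le_sim _ s.2
  obtain ⟨z, hzdet, hzΩ, hzs⟩ := exists_spinor h2 hQ (by omega) hcard s hs hr hrF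
  obtain ⟨ν, hν0, hν⟩ := exists_nonsquare_scalar (F := F) h2
  obtain ⟨g0, hg0⟩ := hsim ν hν0
  obtain ⟨cs, hcs, hcdet, hcc⟩ := exists_sim h2 hQ hcard s hs hr hrF hν0 g0 hg0
  have hcsGS : cs ∈ (Cfsg.Geo.quadSimilarityGroup (F := F) ⇑Q) := ⟨Units.mk0 ν hν0, hcs⟩
  obtain ⟨γc, hγc⟩ := exists_aut hcsGS
  have hcx : Commute γc x := ind_commute hcsGS hsGS hγc hsx hcc
  -- multipliers
  have red : ∀ (h : GL ι F) (c : F), c ≠ 0 → (∀ v, Q ((h : Matrix ι ι F) *ᵥ v) = c * Q v) →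
      ∀ β : (MulAut (Cfsg.POmega F ⇑Q)), Ind (⇑Q) h β → ∃ (u : ↥(Cfsg.isometryGroup F ⇑Q)) (κ γ : (MulAut (Cfsg.POmega F ⇑Q))),
        Commute γ x ∧ Ind (⇑Q) (u : GL ι F) κ ∧ β = κ * γ ∧
        ((h : Matrix ι ι F).det = c ^ n → detHom Q u = 1) := by
    intro h c hc0 hc β hβ
    have hsq : ∀ (h : GL ι F) (c : F) (β : (MulAut (Cfsg.POmega F ⇑Q))), IsSquare c → c ≠ 0 →
        (∀ v, Q ((h : Matrix ι ι F) *ᵥ v) = c * Q v) → Ind (⇑Q) h β →
        ∃ u : ↥(Cfsg.isometryGroup F ⇑Q), Ind (⇑Q) (u : GL ι F) β ∧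
          ((h : Matrix ι ι F).det = c ^ n → detHom Q u = 1) := by
      rintro h c β ⟨l, rfl⟩ hc0 hc hβ
      set L : Fˣ := Units.mk0 l (left_ne_zero_of_mul hc0)
      have hu : h * scalarGL ι L⁻¹ ∈ Cfsg.isometryGroup F ⇑Q := mem_iso.2 fun v => by
        rw [Units.val_mul, scalarGL_coe, ← mulVec_mulVec, Matrix.smul_mulVec, Matrix.one_mulVec,
          hc, Reflections.map_smul', Units.val_inv_eq_inv_val]
        simp only [L, Units.val_mk0]
        field_simp [left_ne_zero_of_mul hc0]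
      refine ⟨⟨_, hu⟩, ?_, fun hdet => Units.ext ?_⟩
      · have := ind_mul (ind_scalar (Q := Q) L⁻¹).1 hβ (ind_scalar L⁻¹).2
        rwa [mul_one] at this
      · rw [detHom_val]
        show (((h * scalarGL ι L⁻¹ : GL ι F)) : Matrix ι ι F).det = 1
        rw [Units.val_mul, det_mul, scalarGL_coe, det_smul, det_one, mul_one, hdet, hcard,
          Units.val_inv_eq_inv_val, pow_mul, inv_pow, ← mul_pow]
        simp only [L, Units.val_mk0]
        rw [show l * l * (l ^ 2)⁻¹ = 1 by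
          have := left_ne_zero_of_mul hc0; field_simp, one_pow]
    by_cases hsqc : IsSquare c
    · obtain ⟨u, hu, hudet⟩ := hsq h c β hsqc hc0 hc hβ
      exact ⟨u, β, 1, Commute.one_left _, hu, (mul_one β).symm, hudet⟩
    · have hsq' : IsSquare (c * ν⁻¹) := by
        rcases square_class hν hc0 with ⟨t, _, rfl⟩ | ⟨t, _, rfl⟩
        · exact absurd ⟨t, by ring⟩ hsqc
        · exact ⟨t, by field_simp⟩
      have hinv : ∀ v, Q (((cs⁻¹ : GL ι F) : Matrix ι ι F) *ᵥ v) = ν⁻¹ * Q v := fun v => by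
        have := hcs (((cs⁻¹ : GL ι F) : Matrix ι ι F) *ᵥ v)
        rw [mulVec_mulVec, ← Units.val_mul, mul_inv_cancel, Units.val_one, one_mulVec] at this
        rw [this, inv_mul_cancel_left₀ hν0]
      obtain ⟨u, hu, hudet⟩ := hsq (h * cs⁻¹) (c * ν⁻¹) (β * γc⁻¹) hsq'
        (mul_ne_zero hc0 (inv_ne_zero hν0))
        (fun v => by rw [Units.val_mul, ← mulVec_mulVec, hc, hinv, mul_assoc])
        (ind_mul (inv_mem hcsGS) hβ (ind_inv hcsGS hγc))
      refine ⟨u, _, γc, hcx, hu, (inv_mul_cancel_right β γc).symm, fun hdet => hudet ?_⟩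
      rw [Units.val_mul, det_mul, hdet, Matrix.coe_units_inv, Matrix.det_nonsing_inv,
        Ring.inverse_eq_inv, hcdet, mul_pow, inv_pow]
  -- inclusions
  have hiso_pso : ∀ (u : ↥(Cfsg.isometryGroup F ⇑Q)) (κ : (MulAut (Cfsg.POmega F ⇑Q))), detHom Q u = 1 → Ind (⇑Q) (u : GL ι F) κ →
      κ ∈ Cfsg.psoAut F ⇑Q := fun u κ hu hi =>
    Subgroup.subset_closure ⟨u, ⟨u.2, hu⟩, induced_iff.2 hi⟩
  have hInn_pso : Cfsg.Inn (Cfsg.POmega F ⇑Q) ≤ Cfsg.psoAut F ⇑Q := by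
    rintro _ ⟨q, rfl⟩
    obtain ⟨t, rfl⟩ := QuotientGroup.mk_surjective q
    exact Subgroup.subset_closure
      ⟨rho (⇑Q) t, ⟨(t : ↥(Cfsg.isometryGroup F ⇑Q)).2, FieldAutGen.Orth.omega_le_special t.2⟩,
        induced_iff.2 (ind_omega t)⟩
  have hpso : Cfsg.psoAut F ⇑Q ≤ InnD := by
    rw [hInn]
    refine Subgroup.closure_mono ?_
    rintro β ⟨u, hu, huβ⟩
    refine ⟨u, iso_le_sim _ hu.1, (hP u 1 one_ne_zero fun v => ?_).2 ?_, huβ⟩
    · rw [one_mul]; exact mem_iso.1 hu.1 v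
    · rw [one_pow]; exact congrArg Units.val hu.2
  have hpo : Cfsg.poAut F ⇑Q ≤ Cfsg.pgoAut F ⇑Q :=
    Subgroup.closure_mono fun β ⟨u, hu, huβ⟩ => ⟨u, iso_le_sim _ hu, huβ⟩
  -- index two
  have hidx : ∀ u : ↥(Cfsg.isometryGroup F ⇑Q), detHom Q u = 1 →
      u ∈ Cfsg.Omega F ⇑Q ∨ u * z⁻¹ ∈ Cfsg.Omega F ⇑Q := by
    intro u hu
    rw [omega_eq_ker h2 hQ (by omega) hν, MonoidHom.mem_ker, MonoidHom.mem_ker, map_mul, map_inv]
    have key : ∀ u : ↥(Cfsg.isometryGroup F ⇑Q), detHom Q u = 1 →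
        theta Q 1 u = theta Q ν u := by
      intro u hu
      have hm : u ∈ Cfsg.specialIsometryGroup F ⇑Q := by rw [special_eq]; exact hu
      rw [special_eq_closure h2 hQ] at hm
      induction hm using Subgroup.closure_induction with
      | mem g hg =>
        obtain ⟨a, b, ha, hb, rfl⟩ := exists_of_mem_reflPairs hg
        obtain ⟨a1, a2⟩ := Forms59.theta_pair_refl h2 hν ha
        obtain ⟨b1, b2⟩ := Forms59.theta_pair_refl h2 hν hb
        rw [map_mul, map_mul, ← Units.val_inj, Units.val_mul, Units.val_mul, a1, a2, b1, b2]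
        ring
      | one => simp
      | mul g g' hg hg' ih ih' =>
        rw [map_mul, map_mul, ih, ih'] <;>
          exact MonoidHom.mem_ker.1 ((special_eq Q).le ((special_eq_closure h2 hQ).symm.le (by assumption)))
      | inv g hg ih =>
        rw [map_inv, map_inv, ih]
        exact MonoidHom.mem_ker.1 ((special_eq Q).le ((special_eq_closure h2 hQ).symm.le hg))
    have hz' := hzΩ
    rw [omega_eq_ker h2 hQ (by omega) hν, MonoidHom.mem_ker] at hz'
    simp only [thetaPair, MonoidHom.prod_apply, ← key u hu, ← key z hzdet] at hz' ⊢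
    rcases Int.units_eq_one_or (theta Q 1 u) with e | e <;>
      rcases Int.units_eq_one_or (theta Q 1 z) with e' | e' <;> simp [e, e'] at hz' ⊢
  have hzGS := iso_le_sim _ z.2
  obtain ⟨γz, hγz⟩ := exists_aut hzGS
  have hzx : Commute γz x := ind_commute hzGS hsGS hγz hsx (congrArg Subtype.val hzs.eq)
  have hmain : ∀ β ∈ InnD, ∃ κ ∈ Cfsg.Inn (Cfsg.POmega F ⇑Q), ∃ γ, Commute γ x ∧ β = κ * γ := by
    intro β hβ
    obtain ⟨h, ⟨c, hc0, hc, hdet⟩, hh⟩ :=
      Cfsg.Agent.UnitaryOrthogonal.GraphSplit.exists_proper_of_mem hP hInn hβ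
    obtain ⟨u, κ, γ, hγ, hu, rfl, hud⟩ := red h c hc0 hc β hh
    have hcase : ∀ (t : ↥(Cfsg.isometryGroup F ⇑Q)) (κ : (MulAut (Cfsg.POmega F ⇑Q))), t ∈ Cfsg.Omega F ⇑Q →
        Ind (⇑Q) (t : GL ι F) κ → κ ∈ Cfsg.Inn (Cfsg.POmega F ⇑Q) := fun t κ ht hi =>
      ⟨QuotientGroup.mk ⟨t, ht⟩, (ind_ext (iso_le_sim _ t.2) hi (ind_omega ⟨t, ht⟩)).symm⟩
    rcases hidx u (hud hdet) with hΩ | hΩ
    · exact ⟨κ, hcase u κ hΩ hu, γ, hγ, rfl⟩
    · refine ⟨κ * γz⁻¹, hcase _ _ hΩ (ind_mul (inv_mem hzGS) hu (ind_inv hzGS hγz)), γz * γ,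
        hzx.mul_left hγ, by group⟩
  have hconj : ∀ {H K : Subgroup (MulAut (Cfsg.POmega F ⇑Q))}, (∀ β ∈ H, ∃ κ ∈ K, ∃ γ, Commute γ x ∧ β = κ * γ) →
      ∀ y, Cfsg.IsConjUnder H x y → Cfsg.IsConjUnder K x y := by
    rintro H K hHK y ⟨β, hβ, rfl⟩
    obtain ⟨κ, hκ, γ, hγ, rfl⟩ := hHK β hβ
    refine ⟨κ, hκ, ?_⟩
    rw [show κ * γ * x * (κ * γ)⁻¹ = κ * (γ * x * γ⁻¹) * κ⁻¹ by group, hγ.eq, mul_inv_cancel_right]
  have hmono : ∀ {H K : Subgroup (MulAut (Cfsg.POmega F ⇑Q))}, H ≤ K → ∀ y, Cfsg.IsConjUnder H x y → Cfsg.IsConjUnder K x y :=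
    fun hle y ⟨β, hβ, e⟩ => ⟨β, hle hβ, e⟩
  refine ⟨fun y => ⟨⟨hmono (hInn_pso.trans hpso) y, hconj hmain y⟩,
    ⟨hmono hpso y, fun h => hmono hInn_pso y (hconj hmain y h)⟩⟩,
    fun y => ⟨hmono hpo y, hconj (fun β hβ => ?_) y⟩⟩
  obtain ⟨h, ⟨c, hc⟩, hh⟩ := exists_gen (Q := Q) (T := (Cfsg.Geo.quadSimilarityGroup (F := F) ⇑Q)) le_rfl hβ
  obtain ⟨u, κ, γ, hγ, hu, rfl, -⟩ := red h c c.ne_zero hc β hh
  exact ⟨κ, Subgroup.subset_closure ⟨u, u.2, induced_iff.2 hu⟩, γ, hγ, rfl⟩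

end Cfsg.Agent.CG26.SemiCent
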