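import Cfsg.Agent.Lib.Forms.Sesq
import Mathlib.LinearAlgebra.SymplecticGroup
import Mathlib.LinearAlgebra.Matrix.BilinearForm

/-!
The determinant of a similitude of an alternating form; similitudes commuting with an isometry
without eigenvalues `±1`.
-/

set_option autoImplicit false

namespace Cfsg.Agent.CG26.SemiCent

open Module Matrix

variable {F V : Type*} [Field F] [AddCommGroup V] [Module F V] [FiniteDimensional F V]

/-- A similitude of a nondegenerate alternating form has determinant `ν ^ n`. -/
theorem det_alt_similitude (B : LinearMap.BilinForm F V) (hA : B.IsAlt)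
    (hB : ∀ v, (∀ u, B v u = 0) → v = 0) (g : Module.End F V) {ν : F} (hν : ν ≠ 0)
    (hg : ∀ u v, B (g u) (g v) = ν * B u v) {n : ℕ} (hn : finrank F V = 2 * n) :
    LinearMap.det g = ν ^ n := by
  classical
  obtain ⟨m, e, f, -, -, h12, h11, h22, hspan⟩ :=
    Cfsg.Agent.Forms.exists_symplectic_family B hA ⊤ fun w _ h => hB w fun u => h u trivial
  have hli := Cfsg.Agent.Forms.linearIndependent_symplectic_family B hA e f h12 h11 h22
  let b : Basis (Fin m ⊕ Fin m) F V := Basis.mk hli hspan
  have hmn : m = n := by
    have := Module.finrank_eq_card_basis b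
    rw [hn, Fintype.card_sum, Fintype.card_fin] at this
    omega
  subst hmn
  have h21 : ∀ i j, B (f i) (e j) = -(if j = i then (1 : F) else 0) := fun i j => by
    rw [← h12]; exact (LinearMap.IsAlt.neg hA _ _).symm
  have hb : ∀ x, b x = Sum.elim e f x := fun x => Basis.mk_apply hli hspan x
  have hG : LinearMap.BilinForm.toMatrix b B = -(Matrix.J (Fin m) F) := by
    ext (i | i) (j | j) <;>
      simp [LinearMap.BilinForm.toMatrix_apply, hb, Matrix.J, h11, h22, h12, h21,
        Matrix.one_apply, eq_comm]
  set M := LinearMap.toMatrix b b g with hM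
  have hMJ : Mᵀ * Matrix.J (Fin m) F * M = ν • Matrix.J (Fin m) F := by
    have h := LinearMap.BilinForm.toMatrix_comp (b := b) B g g (c := b)
    rw [show B.comp g g = ν • B from LinearMap.ext fun u => LinearMap.ext fun v => hg u v,
      map_smul, hG, ← hM] at h
    simpa using h.symm
  let D : Matrix (Fin m ⊕ Fin m) (Fin m ⊕ Fin m) F := fromBlocks (ν⁻¹ • 1) 0 0 1
  have hmem : M * D ∈ Matrix.symplecticGroup (Fin m) F := by
    rw [SymplecticGroup.mem_iff']
    calc (M * D)ᵀ * Matrix.J (Fin m) F * (M * D)
        = Dᵀ * (Mᵀ * Matrix.J (Fin m) F * M) * D := by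
          rw [transpose_mul]; simp only [Matrix.mul_assoc]
      _ = Matrix.J (Fin m) F := by
          rw [hMJ]
          simp [D, Matrix.J, fromBlocks_transpose, fromBlocks_multiply,
            fromBlocks_smul, smul_smul, hν]
  have hdet := SymplecticGroup.det_eq_one hmem
  rw [det_mul, det_fromBlocks_zero₂₁, det_smul, det_one, mul_one, mul_one, Fintype.card_fin,
    hM, LinearMap.det_toMatrix, inv_pow, mul_inv_eq_one₀ (pow_ne_zero _ hν)] at hdet
  exact hdet

/-- A similitude commuting with an isometry `a` with `a² - 1` injective is proper. -/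
theorem det_eq_of_commute (B : LinearMap.BilinForm F V) (hB : B.Nondegenerate)
    (hsym : ∀ u v, B u v = B v u) (a g : Module.End F V) (ha : ∀ u v, B (a u) (a v) = B u v)
    (hinj : ∀ v, a (a v) = v → v = 0) {ν : F} (hν : ν ≠ 0)
    (hg : ∀ u v, B (g u) (g v) = ν * B u v) (hga : ∀ v, g (a v) = a (g v)) {n : ℕ}
    (hn : finrank F V = 2 * n) : LinearMap.det g = ν ^ n := by
  let B' : LinearMap.BilinForm F V := B.comp a LinearMap.id - B.comp LinearMap.id a
  have hB' : ∀ u v, B' u v = B (a u) v - B u (a v) := fun u v => rfl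
  refine det_alt_similitude B' (fun u => by rw [hB', hsym, sub_self]) (fun v h => ?_) g hν
    (fun u v => ?_) hn
  · refine hinj v (sub_eq_zero.1 (hB.1 _ fun y => ?_))
    obtain ⟨u, rfl⟩ := (LinearMap.injective_iff_surjective.1 (show Function.Injective a from
      LinearMap.ker_eq_bot.1 (LinearMap.ker_eq_bot'.2 fun z hz => hB.1 z fun y => by
        rw [← ha, hz]; simp))) y
    have := h u
    rw [hB'] at this
    rw [map_sub, LinearMap.sub_apply, ha]
    exact this
  · rw [hB', hB', ← hga, ← hga, hg, hg]; ring

end Cfsg.Agent.CG26.SemiCent
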