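import Mathlib

/-!
Counting totally isotropic lines (2-subspaces) by double counting.
-/

namespace Cfsg.Agent.CG26

open scoped Classical

variable {F V : Type*} [Field F] [Fintype F] [AddCommGroup V] [Module F V] [Fintype V]

/-- A reflexive form given as a function, semilinear in the second variable. -/
structure LineForm (F V : Type*) [Field F] [AddCommGroup V] [Module F V] where
  f : V → V → F
  add_left : ∀ u v w, f (u + v) w = f u w + f v w
  add_right : ∀ u v w, f u (v + w) = f u v + f u w
  smul_left : ∀ (a : F) u w, f u w = 0 → f (a • u) w = 0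
  smul_right : ∀ (a : F) u w, f u w = 0 → f u (a • w) = 0
  refl : ∀ u w, f u w = 0 → f w u = 0

/-- totally isotropic planes -/
def LineForm.Plane (B : LineForm F V) (W : Submodule F V) : Prop :=
  Module.finrank F W = 2 ∧ ∀ u ∈ W, ∀ w ∈ W, B.f u w = 0

variable (B : LineForm F V)

theorem LineForm.span_pair_iso {v w : V} (hv : B.f v v = 0) (hvw : B.f v w = 0) (hw : B.f w w = 0) :
    ∀ x ∈ Submodule.span F ({v, w} : Set V), ∀ y ∈ Submodule.span F ({v, w} : Set V), B.f x y = 0 := by
  intro x hx y hy
  obtain ⟨a, b, rfl⟩ := Submodule.mem_span_pair.1 hx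
  obtain ⟨c, d, rfl⟩ := Submodule.mem_span_pair.1 hy
  rw [B.add_left, B.add_right, B.add_right, B.smul_left a _ _ (B.smul_right c _ _ hv),
    B.smul_left a _ _ (B.smul_right d _ _ hvw), B.smul_left b _ _ (B.smul_right c _ _ (B.refl _ _ hvw)),
    B.smul_left b _ _ (B.smul_right d _ _ hw)]
  simp

/-- planes through a point -/
theorem LineForm.card_through {v : V} (hv0 : v ≠ 0) (hv : B.f v v = 0) {A : ℕ}
    (hA : Nat.card {w : V // B.f v w = 0 ∧ B.f w w = 0} = A) :
    Nat.card {W : Submodule F V // B.Plane W ∧ v ∈ W} * (Nat.card F ^ 2 - Nat.card F) = A - Nat.card F := by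
  haveI : Finite (Submodule F V) := Finite.of_injective _ SetLike.coe_injective
  have hspanv : Nat.card (F ∙ v) = Nat.card F := by
    rw [Module.natCard_eq_pow_finrank (K := F), finrank_span_singleton hv0, pow_one]
  let T := {W : Submodule F V // B.Plane W ∧ v ∈ W}
  let X := {w : V // (B.f v w = 0 ∧ B.f w w = 0) ∧ w ∉ F ∙ v}
  have hX : Nat.card X + Nat.card F = A := by
    rw [← hA, ← hspanv]
    let e : {w : V // B.f v w = 0 ∧ B.f w w = 0} ≃ X ⊕ (F ∙ v) :=
      { toFun := fun w => if h : w.1 ∈ F ∙ v then Sum.inr ⟨w.1, h⟩ else Sum.inl ⟨w.1, w.2, h⟩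
        invFun := fun s => match s with
          | .inl w => ⟨w.1, w.2.1⟩
          | .inr w => ⟨w.1, by
              obtain ⟨a, ha⟩ := Submodule.mem_span_singleton.1 w.2
              rw [← ha]
              exact ⟨B.smul_right a _ _ hv, B.smul_left a _ _ (B.smul_right a _ _ hv)⟩⟩
        left_inv := fun w => by by_cases h : w.1 ∈ F ∙ v <;> simp [h]
        right_inv := fun s => by
          rcases s with w | w
          · simp [w.2.2]
          · simp [w.2] }
    rw [Nat.card_congr e, Nat.card_sum]
  have hplane : ∀ w : X, B.Plane (Submodule.span F ({v, w.1} : Set V)) ∧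
      v ∈ Submodule.span F ({v, w.1} : Set V) := by
    intro w
    refine ⟨⟨?_, B.span_pair_iso hv w.2.1.1 w.2.1.2⟩, Submodule.subset_span (by simp)⟩
    have hli : LinearIndependent F ![v, w.1] := by
      rw [LinearIndependent.pair_iff' hv0]
      intro a ha
      exact w.2.2 (Submodule.mem_span_singleton.2 ⟨a, ha⟩)
    have h := finrank_span_eq_card hli
    rw [Matrix.range_cons, Matrix.range_cons, Matrix.range_empty, Set.union_empty, Set.singleton_union] at h
    simpa using h
  let g : X → T := fun w => ⟨_, hplane w⟩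
  have hfib : ∀ W : T, Nat.card {w : X // g w = W} = Nat.card F ^ 2 - Nat.card F := by
    rintro ⟨W, ⟨hW2, hWiso⟩, hvW⟩
    have hcW : Nat.card W = Nat.card F ^ 2 := by rw [Module.natCard_eq_pow_finrank (K := F), hW2]
    let e : W ≃ {w : X // g w = ⟨W, ⟨hW2, hWiso⟩, hvW⟩} ⊕ (F ∙ v) :=
      { toFun := fun w => if h : w.1 ∈ F ∙ v then Sum.inr ⟨w.1, h⟩ else
          Sum.inl ⟨⟨w.1, ⟨hWiso v hvW w.1 w.2, hWiso w.1 w.2 w.1 w.2⟩, h⟩, Subtype.ext (by
            refine Submodule.eq_of_le_of_finrank_le (Submodule.span_le.2 ?_) ?_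
            · rintro x (rfl | rfl)
              · exact hvW
              · exact w.2
            · rw [hW2]
              exact (hplane ⟨w.1, ⟨hWiso v hvW w.1 w.2, hWiso w.1 w.2 w.1 w.2⟩, h⟩).1.1.ge)⟩
        invFun := fun s => match s with
          | .inl w => ⟨w.1.1, by
              have h : Submodule.span F ({v, w.1.1} : Set V) = W := congrArg Subtype.val w.2
              show w.1.1 ∈ W
              refine (SetLike.ext_iff.1 h _).1 ?_
              exact Submodule.subset_span (by simp)⟩
          | .inr w => ⟨w.1, (Submodule.span_singleton_le_iff_mem _ _).2 hvW w.2⟩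
        left_inv := fun w => by by_cases h : w.1 ∈ F ∙ v <;> simp [h]
        right_inv := fun s => by
          rcases s with w | w
          · simp [w.1.2.2]
          · simp [w.2] }
    have h := Nat.card_congr e
    rw [Nat.card_sum, hcW, hspanv] at h
    omega
  haveI : Fintype T := Fintype.ofFinite T
  have hsig : Nat.card X = Nat.card T * (Nat.card F ^ 2 - Nat.card F) := by
    rw [Nat.card_congr (Equiv.sigmaFiberEquiv g).symm, Nat.card_sigma, Finset.sum_congr rfl (fun W _ => hfib W),
      Finset.sum_const, Finset.card_univ, smul_eq_mul, Nat.card_eq_fintype_card (α := T)]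
  show Nat.card T * _ = _
  omega

/-- all planes -/
theorem LineForm.card_planes {M : ℕ}
    (hM : ∀ v : V, v ≠ 0 → B.f v v = 0 → Nat.card {W : Submodule F V // B.Plane W ∧ v ∈ W} = M) :
    Nat.card {W : Submodule F V // B.Plane W} * (Nat.card F ^ 2 - 1) =
      Nat.card {v : V // v ≠ 0 ∧ B.f v v = 0} * M := by
  haveI : Finite (Submodule F V) := Finite.of_injective _ SetLike.coe_injective
  haveI : Fintype {W : Submodule F V // B.Plane W} := Fintype.ofFinite _
  let e : (Σ W : {W : Submodule F V // B.Plane W}, {v : W.1 // v ≠ 0}) ≃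
      Σ v : {v : V // v ≠ 0 ∧ B.f v v = 0}, {W : Submodule F V // B.Plane W ∧ v.1 ∈ W} :=
    { toFun := fun p => ⟨⟨p.2.1.1, fun h => p.2.2 (Subtype.ext h),
          p.1.2.2 _ p.2.1.2 _ p.2.1.2⟩, ⟨p.1.1, p.1.2, p.2.1.2⟩⟩
      invFun := fun p => ⟨⟨p.2.1, p.2.2.1⟩, ⟨⟨p.1.1, p.2.2.2⟩, fun h => p.1.2.1 (congrArg Subtype.val h)⟩⟩
      left_inv := fun p => rfl
      right_inv := fun p => rfl }
  have hcW : ∀ W : {W : Submodule F V // B.Plane W}, Nat.card {v : W.1 // v ≠ 0} = Nat.card F ^ 2 - 1 := by
    intro W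
    rw [Nat.card_eq_fintype_card, Fintype.card_subtype_compl, Fintype.card_subtype_eq,
      ← Nat.card_eq_fintype_card, Module.natCard_eq_pow_finrank (K := F), W.2.1]
  have h := Nat.card_congr e
  have e1 : Nat.card (Σ W : {W : Submodule F V // B.Plane W}, {v : W.1 // v ≠ 0}) =
      Nat.card {W : Submodule F V // B.Plane W} * (Nat.card F ^ 2 - 1) := by
    rw [Nat.card_sigma, Finset.sum_congr rfl (fun W _ => hcW W), Finset.sum_const, Finset.card_univ,
      smul_eq_mul, ← Nat.card_eq_fintype_card]
  have e2 : Nat.card (Σ v : {v : V // v ≠ 0 ∧ B.f v v = 0}, {W : Submodule F V // B.Plane W ∧ v.1 ∈ W}) =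
      Nat.card {v : V // v ≠ 0 ∧ B.f v v = 0} * M := by
    rw [Nat.card_sigma, Finset.sum_congr rfl (fun v _ => hM v.1 v.2.1 v.2.2), Finset.sum_const,
      Finset.card_univ, smul_eq_mul, ← Nat.card_eq_fintype_card]
  rw [e1, e2] at h
  exact h

theorem LineForm.card_singular :
    Nat.card {v : V // v ≠ 0 ∧ B.f v v = 0} + 1 = Nat.card {v : V // B.f v v = 0} := by
  have h0 : B.f 0 0 = 0 := by
    have h := B.add_left 0 0 0
    rw [add_zero] at h
    linear_combination -h
  have e : {v : V // B.f v v = 0} ≃ {v : V // v ≠ 0 ∧ B.f v v = 0} ⊕ Unit :=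
    { toFun := fun v => if h : v.1 = 0 then Sum.inr () else Sum.inl ⟨v.1, h, v.2⟩
      invFun := fun s => match s with
        | .inl v => ⟨v.1, v.2.2⟩
        | .inr _ => ⟨0, h0⟩
      left_inv := fun v => by
        by_cases h : v.1 = 0
        · simp [h, Subtype.ext_iff]
        · simp [h]
      right_inv := fun s => by
        rcases s with v | v
        · simp [v.2.1]
        · simp }
  rw [Nat.card_congr e, Nat.card_sum, Nat.card_unique (α := Unit)]

end Cfsg.Agent.CG26
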