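import Cfsg.Agent.CG26.QuadClass

/-!
Tensor products of bilinear forms over finite fields: isotropic subspaces of half the dimension.
-/

namespace Cfsg.Agent.CG26

open scoped TensorProduct

variable {F : Type*} [Field F] {U W : Type*} [AddCommGroup U] [Module F U] [AddCommGroup W] [Module F W]

theorem tmul_apply (B₁ : LinearMap.BilinForm F U) (B₂ : LinearMap.BilinForm F W) (a a' : U) (b b' : W) :
    (B₁.tmul B₂) (a ⊗ₜ[F] b) (a' ⊗ₜ[F] b') = B₁ a a' * B₂ b b' := by
  show LinearMap.BilinForm.tensorDistrib F F (B₁ ⊗ₜ B₂) (a ⊗ₜ b) (a' ⊗ₜ b') = _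
  rw [LinearMap.BilinForm.tensorDistrib_tmul, smul_eq_mul, mul_comm]

theorem alt_skew {B : LinearMap.BilinForm F U} (hA : B.IsAlt) (a a' : U) : B a' a = - B a a' :=
  (LinearMap.IsAlt.neg hA a a').symm

theorem tmul_symm_of_alt {B₁ : LinearMap.BilinForm F U} {B₂ : LinearMap.BilinForm F W} (h₁ : B₁.IsAlt)
    (h₂ : B₂.IsAlt) (x y : U ⊗[F] W) : (B₁.tmul B₂) x y = (B₁.tmul B₂) y x := by
  induction x using TensorProduct.induction_on with
  | zero => simp
  | tmul a b =>
    induction y using TensorProduct.induction_on with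
    | zero => simp
    | tmul a' b' => rw [tmul_apply, tmul_apply, alt_skew h₁ a a', alt_skew h₂ b b', neg_mul_neg]
    | add y₁ y₂ e₁ e₂ => simp only [map_add, LinearMap.add_apply, e₁, e₂]
  | add x₁ x₂ e₁ e₂ => simp only [map_add, LinearMap.add_apply, e₁, e₂]

theorem tmul_nondegenerate [FiniteDimensional F U] [FiniteDimensional F W] {B₁ : LinearMap.BilinForm F U}
    {B₂ : LinearMap.BilinForm F W} (h₁ : B₁.Nondegenerate) (h₂ : B₂.Nondegenerate) :
    LinearMap.BilinForm.Nondegenerate (B₁.tmul B₂) := by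
  classical
  let b₁ := Module.finBasis F U
  let b₂ := Module.finBasis F W
  rw [LinearMap.BilinForm.nondegenerate_iff_det_ne_zero (b₁.tensorProduct b₂)]
  have e : LinearMap.BilinForm.toMatrix (b₁.tensorProduct b₂) (B₁.tmul B₂) =
      Matrix.kronecker (LinearMap.BilinForm.toMatrix b₁ B₁) (LinearMap.BilinForm.toMatrix b₂ B₂) := by
    ext ⟨i, j⟩ ⟨i', j'⟩
    simp [LinearMap.BilinForm.toMatrix_apply, Module.Basis.tensorProduct_apply, mul_comm]
  rw [e]
  unfold Matrix.kronecker
  rw [Matrix.det_kronecker]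
  exact mul_ne_zero (pow_ne_zero _ ((LinearMap.BilinForm.nondegenerate_iff_det_ne_zero b₁).1 h₁))
    (pow_ne_zero _ ((LinearMap.BilinForm.nondegenerate_iff_det_ne_zero b₂).1 h₂))

/-- a non-degenerate alternating form has a totally isotropic subspace of half the dimension -/
theorem exists_lagrangian [FiniteDimensional F U] {B : LinearMap.BilinForm F U} (hn : B.Nondegenerate)
    (hA : B.IsAlt) {k : ℕ} (hk : Module.finrank F U = 2 * k) :
    ∃ X : Submodule F U, Module.finrank F X = k ∧ ∀ x ∈ X, ∀ y ∈ X, B x y = 0 := by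
  suffices h : ∀ i, i ≤ k → ∃ X : Submodule F U, Module.finrank F X = i ∧ ∀ x ∈ X, ∀ y ∈ X, B x y = 0 from
    h k le_rfl
  intro i
  induction i with
  | zero =>
    exact fun _ => ⟨⊥, finrank_bot F U, fun x hx y _ => by rw [(Submodule.mem_bot F).1 hx]; simp⟩
  | succ i ih =>
    intro hi
    obtain ⟨X, hX, hiso⟩ := ih (by omega)
    have h1 := LinearMap.BilinForm.finrank_orthogonal hn X
    obtain ⟨z, hz, hzX⟩ : ∃ z ∈ B.orthogonal X, z ∉ X := by
      by_contra h
      push Not at h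
      have := Submodule.finrank_mono (show B.orthogonal X ≤ X from h)
      omega
    have hz0 : z ≠ 0 := fun h => hzX (h ▸ X.zero_mem)
    have hinf : X ⊓ F ∙ z = ⊥ := by
      rw [eq_bot_iff]
      intro x hx
      obtain ⟨hxX, hxz⟩ := Submodule.mem_inf.1 hx
      obtain ⟨a, rfl⟩ := Submodule.mem_span_singleton.1 hxz
      rcases eq_or_ne a 0 with rfl | ha
      · simp
      · exact absurd ((Submodule.smul_mem_iff _ ha).1 hxX) hzX
    refine ⟨X ⊔ F ∙ z, ?_, ?_⟩
    · have h := Submodule.finrank_sup_add_finrank_inf_eq X (F ∙ z)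
      rw [hinf, finrank_bot, finrank_span_singleton hz0] at h
      omega
    · intro x hx y hy
      obtain ⟨x', hx', u, hu, rfl⟩ := Submodule.mem_sup.1 hx
      obtain ⟨y', hy', v, hv, rfl⟩ := Submodule.mem_sup.1 hy
      obtain ⟨a, rfl⟩ := Submodule.mem_span_singleton.1 hu
      obtain ⟨b, rfl⟩ := Submodule.mem_span_singleton.1 hv
      have e1 : B x' z = 0 := hz x' hx'
      have e2 : B z y' = 0 := by rw [alt_skew hA y' z, show B y' z = 0 from hz y' hy', neg_zero]
      simp [hiso x' hx' y' hy', e1, e2, hA.self_eq_zero z]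

/-- `B` is diagonal with weights `w` in the coordinates given by `g`. -/
def DiagRep {V : Type*} [AddCommGroup V] [Module F V] {ι : Type*} [Fintype ι]
    (B : LinearMap.BilinForm F V) (w : ι → F) : Prop :=
  ∃ g : (ι → F) ≃ₗ[F] V, ∀ x y, B (g x) (g y) = ∑ i, w i * (x i * y i)

theorem DiagRep.of_wequiv {V : Type*} [AddCommGroup V] [Module F V] {ι : Type*} [Fintype ι]
    {B : LinearMap.BilinForm F V} {w w' : ι → F} (h2 : (2 : F) ≠ 0) (h : DiagRep B w) (e : WEquiv w w') :
    DiagRep B w' := by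
  obtain ⟨g, hg⟩ := h
  obtain ⟨f, hf⟩ := e
  refine ⟨f.trans g, fun x y => ?_⟩
  rw [LinearEquiv.trans_apply, LinearEquiv.trans_apply, hg]
  have key : ∀ (v : ι → F) (a b : ι → F),
      (2 : F) * (∑ i, v i * (a i * b i)) = wsq v (a + b) - wsq v a - wsq v b := by
    intro v a b
    simp only [wsq, Finset.mul_sum, ← Finset.sum_sub_distrib, Pi.add_apply]
    exact Finset.sum_congr rfl fun i _ => by ring
  apply mul_left_cancel₀ h2
  rw [key, key, ← map_add, hf, hf, hf]

theorem DiagRep.reindex {V : Type*} [AddCommGroup V] [Module F V] {ι κ : Type*} [Fintype ι] [Fintype κ]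
    {B : LinearMap.BilinForm F V} {w : ι → F} (h : DiagRep B w) (e : κ ≃ ι) : DiagRep B (w ∘ e) := by
  obtain ⟨g, hg⟩ := h
  refine ⟨(LinearEquiv.funCongrLeft F F e.symm).trans g, fun x y => ?_⟩
  rw [LinearEquiv.trans_apply, LinearEquiv.trans_apply, hg, ← Equiv.sum_comp e]
  simp [LinearMap.funLeft_apply]

theorem exists_diagRep {V : Type*} [AddCommGroup V] [Module F V] [FiniteDimensional F V] (h2 : (2 : F) ≠ 0)
    (B : LinearMap.BilinForm F V) (hn : B.Nondegenerate) (hs : B.IsSymm) {n : ℕ}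
    (hdim : Module.finrank F V = n) : ∃ w : Fin n → F, (∀ i, w i ≠ 0) ∧ DiagRep B w := by
  haveI : Invertible (2 : F) := invertibleOfNonzero h2
  subst hdim
  obtain ⟨v, hv⟩ := LinearMap.BilinForm.exists_orthogonal_basis (LinearMap.BilinForm.isSymm_iff.1 hs)
  refine ⟨fun i => B (v i) (v i), hv.not_isOrtho_basis_self_of_separatingLeft hn.1, v.equivFun.symm,
    fun x y => ?_⟩
  simp only [Module.Basis.equivFun_symm_apply, map_sum, LinearMap.coe_sum, Finset.sum_apply, map_smul,
    LinearMap.smul_apply, smul_eq_mul]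
  refine Finset.sum_congr rfl fun i _ => ?_
  rw [Finset.sum_eq_single i (fun j _ hji => by rw [show B (v j) (v i) = 0 from hv hji]; ring) (by simp)]
  ring

theorem diagRep_tmul {ι κ : Type*} [Fintype ι] [Fintype κ] {B₁ : LinearMap.BilinForm F U}
    {B₂ : LinearMap.BilinForm F W} {w : ι → F} {u : κ → F} (h₁ : DiagRep B₁ w) (h₂ : DiagRep B₂ u) :
    DiagRep (B₁.tmul B₂) (fun p : ι × κ => w p.1 * u p.2) := by
  classical
  obtain ⟨g, hg⟩ := h₁
  obtain ⟨h, hh⟩ := h₂
  let b₁ := Module.Basis.ofEquivFun g.symm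
  let b₂ := Module.Basis.ofEquivFun h.symm
  let b := b₁.tensorProduct b₂
  have hb : ∀ p q : ι × κ, (B₁.tmul B₂) (b p) (b q) = if p = q then w p.1 * u p.2 else 0 := by
    rintro ⟨i, j⟩ ⟨i', j'⟩
    simp only [b, Module.Basis.tensorProduct_apply, tmul_apply, b₁, b₂, Module.Basis.coe_ofEquivFun,
      LinearEquiv.symm_symm, hg, hh, Pi.single_apply, ite_mul, one_mul, zero_mul, mul_ite, mul_one, mul_zero,
      Finset.sum_ite_eq', Finset.mem_univ, if_true, Prod.mk.injEq]
    by_cases h1 : i = i' <;> by_cases h2' : j = j' <;> simp [h1, h2', Ne.symm]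
  refine ⟨b.equivFun.symm, fun x y => ?_⟩
  simp only [Module.Basis.equivFun_symm_apply, map_sum, LinearMap.coe_sum, Finset.sum_apply, map_smul,
    LinearMap.smul_apply, smul_eq_mul, hb]
  refine Finset.sum_congr rfl fun p _ => ?_
  simp only [mul_ite, mul_zero, ite_mul, zero_mul, Finset.sum_ite_eq, Finset.sum_ite_eq',
    Finset.mem_univ, if_true]
  ring

/-- an injective family of pairwise orthogonal isotropic vectors gives a totally isotropic subspace -/
theorem exists_iso_of_map {V : Type*} [AddCommGroup V] [Module F V] {ι κ : Type*} [Fintype ι] [Fintype κ]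
    {B : LinearMap.BilinForm F V} {w : ι → F} (h : DiagRep B w) (L : (κ → F) →ₗ[F] (ι → F))
    (hL : Function.Injective L) (h0 : ∀ a b, ∑ i, w i * (L a i * L b i) = 0) :
    ∃ X : Submodule F V, Module.finrank F X = Fintype.card κ ∧ ∀ x ∈ X, ∀ y ∈ X, B x y = 0 := by
  obtain ⟨g, hg⟩ := h
  refine ⟨LinearMap.range (g.toLinearMap ∘ₗ L), ?_, ?_⟩
  · rw [LinearMap.finrank_range_of_inj (show Function.Injective (g.toLinearMap ∘ₗ L) from g.injective.comp hL), Module.finrank_fintype_fun_eq_card]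
  · rintro _ ⟨a, rfl⟩ _ ⟨b, rfl⟩
    simp [hg, h0]

/-- plus type from the discriminant, dimension divisible by four -/
theorem exists_iso_of_disc_four [Fintype F] {V : Type*} [AddCommGroup V] [Module F V] {ι : Type*}
    [Fintype ι] {B : LinearMap.BilinForm F V} {w : ι → F} (h2 : (2 : F) ≠ 0) (h : DiagRep B w)
    (hw : ∀ i, w i ≠ 0) {N : ℕ} (hcard : Fintype.card ι = N * 4) (hN : 0 < N) {e : F}
    (he : ∏ i, w i = e ^ 2) :
    ∃ X : Submodule F V, Module.finrank F X = N * 2 ∧ ∀ x ∈ X, ∀ y ∈ X, B x y = 0 := by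
  classical
  let eqv : Fin N × Fin 4 ≃ ι := Fintype.equivOfCardEq (by simp [hcard])
  haveI : Nonempty (Fin N × Fin 4) := ⟨(⟨0, hN⟩, 0)⟩
  have h' : DiagRep B (fun _ : Fin N × Fin 4 => (1 : F)) := (h.reindex eqv).of_wequiv h2
    (wequiv_of_prod h2 (fun i => hw _) (fun _ => one_ne_zero) (e := e) (by
      rw [show (∏ i, (w ∘ eqv) i) = ∏ i, w i from Equiv.prod_comp eqv w, he]; simp))
  obtain ⟨a, b, hab⟩ := binary_represents h2 (one_ne_zero (α := F)) one_ne_zero (-1 : F)
  rw [one_mul, one_mul] at hab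
  let L : (Fin N × Fin 2 → F) →ₗ[F] (Fin N × Fin 4 → F) :=
    { toFun := fun x p => ![x (p.1, 0), x (p.1, 1), a * x (p.1, 0) - b * x (p.1, 1),
        b * x (p.1, 0) + a * x (p.1, 1)] p.2
      map_add' := fun x y => by
        funext p; obtain ⟨i, j⟩ := p
        fin_cases j <;> simp <;> ring
      map_smul' := fun c x => by
        funext p; obtain ⟨i, j⟩ := p
        fin_cases j <;> simp <;> ring }
  obtain ⟨X, hX, hX'⟩ := exists_iso_of_map h' L (fun x y hxy => funext fun ⟨i, j⟩ => by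
      fin_cases j
      · simpa [L] using congrFun hxy (i, 0)
      · simpa [L] using congrFun hxy (i, 1)) (fun x y => by
      rw [Fintype.sum_prod_type]
      refine Finset.sum_eq_zero fun i _ => ?_
      simp [L, Fin.sum_univ_four]
      linear_combination (x (i, 0) * y (i, 0) + x (i, 1) * y (i, 1)) * hab)
  exact ⟨X, by rw [hX]; simp, hX'⟩

theorem exists_iso_of_disc [Fintype F] {V : Type*} [AddCommGroup V] [Module F V] {ι : Type*}
    [Fintype ι] {B : LinearMap.BilinForm F V} {w : ι → F} (h2 : (2 : F) ≠ 0) (h : DiagRep B w)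
    (hw : ∀ i, w i ≠ 0) {M : ℕ} (hcard : Fintype.card ι = M * 2) (hM : 0 < M) {e : F}
    (he : ∏ i, w i = (-1) ^ M * e ^ 2) :
    ∃ X : Submodule F V, Module.finrank F X = M ∧ ∀ x ∈ X, ∀ y ∈ X, B x y = 0 := by
  classical
  let eqv : Fin M × Fin 2 ≃ ι := Fintype.equivOfCardEq (by simp [hcard])
  haveI : Nonempty (Fin M × Fin 2) := ⟨(⟨0, hM⟩, 0)⟩
  have h' : DiagRep B (fun p : Fin M × Fin 2 => ![(1 : F), -1] p.2) := (h.reindex eqv).of_wequiv h2
    (wequiv_of_prod h2 (fun i => hw _) (fun p => by obtain ⟨i, j⟩ := p; fin_cases j <;> simp) (e := e) (by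
      rw [show (∏ i, (w ∘ eqv) i) = ∏ i, w i from Equiv.prod_comp eqv w, he, Fintype.prod_prod_type]
      simp [Fin.prod_univ_two]))
  let L : (Fin M → F) →ₗ[F] (Fin M × Fin 2 → F) := LinearMap.funLeft F F Prod.fst
  obtain ⟨X, hX, hX'⟩ := exists_iso_of_map h' L
    (LinearMap.funLeft_injective_of_surjective F F _ Prod.fst_surjective) (fun x y => by
      rw [Fintype.sum_prod_type]
      refine Finset.sum_eq_zero fun i _ => ?_
      simp [L, Fin.sum_univ_two, LinearMap.funLeft_apply])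
  exact ⟨X, by rw [hX]; simp, hX'⟩

theorem det_fromBlocks_zero_corner {n : Type*} [Fintype n] [DecidableEq n] (A C D : Matrix n n F) :
    (Matrix.fromBlocks 0 A C D).det = (-1) ^ Fintype.card n * (A.det * C.det) := by
  have hs : Matrix.fromBlocks 0 (1 : Matrix n n F) 1 0 =
      Matrix.fromBlocks (1 : Matrix n n F) 1 0 (1 : Matrix n n F) * Matrix.fromBlocks (-(1 : Matrix n n F)) 0 1 (1 : Matrix n n F) *
        Matrix.fromBlocks (1 : Matrix n n F) (-1) 0 (1 : Matrix n n F) := by
    simp [Matrix.fromBlocks_multiply]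
  have hdet : (Matrix.fromBlocks 0 (1 : Matrix n n F) 1 0).det = (-1) ^ Fintype.card n := by
    rw [hs, Matrix.det_mul, Matrix.det_mul, Matrix.det_fromBlocks_zero₂₁, Matrix.det_fromBlocks_zero₁₂,
      Matrix.det_fromBlocks_zero₂₁, Matrix.det_neg]
    simp
  have h : Matrix.fromBlocks 0 A C D = Matrix.fromBlocks A 0 D C * Matrix.fromBlocks 0 1 1 0 := by
    simp [Matrix.fromBlocks_multiply]
  rw [h, Matrix.det_mul, Matrix.det_fromBlocks_zero₁₂, hdet]
  ring

theorem disc_of_iso {V : Type*} [AddCommGroup V] [Module F V] [FiniteDimensional F V] {ι : Type*}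
    [Fintype ι] {B : LinearMap.BilinForm F V} {w : ι → F} (h : DiagRep B w) (hs : ∀ x y, B x y = B y x)
    {M : ℕ} (hdim : Module.finrank F V = M + M) {X : Submodule F V} (hX : Module.finrank F X = M)
    (hiso : ∀ x ∈ X, ∀ y ∈ X, B x y = 0) : ∃ e : F, ∏ i, w i = (-1) ^ M * e ^ 2 := by
  classical
  obtain ⟨g, hg⟩ := h
  let bd := Module.Basis.ofEquivFun g.symm
  obtain ⟨Y, hY⟩ := Submodule.exists_isCompl X
  have hYd : Module.finrank F Y = M := by
    have := Submodule.finrank_add_eq_of_isCompl hY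
    omega
  let b : Module.Basis (Fin M ⊕ Fin M) F V :=
    ((Module.finBasisOfFinrankEq F X hX).prod (Module.finBasisOfFinrankEq F Y hYd)).map
      (Submodule.prodEquivOfIsCompl X Y hY)
  have hbX : ∀ i, b (Sum.inl i) ∈ X := fun i => by simp [b]
  let eι : Fin M ⊕ Fin M ≃ ι := b.indexEquiv bd
  let bd' := bd.reindex eι.symm
  let G := LinearMap.BilinForm.toMatrix b B
  have hG : G = Matrix.fromBlocks 0 G.toBlocks₁₂ G.toBlocks₁₂.transpose G.toBlocks₂₂ := by
    ext i j
    rcases i with i | i <;> rcases j with j | j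
    · simp only [Matrix.fromBlocks_apply₁₁, Matrix.zero_apply, G, LinearMap.BilinForm.toMatrix_apply]
      exact hiso _ (hbX i) _ (hbX j)
    · rfl
    · simp only [Matrix.fromBlocks_apply₂₁, Matrix.transpose_apply, Matrix.toBlocks₁₂, Matrix.of_apply, G,
        LinearMap.BilinForm.toMatrix_apply]
      exact hs _ _
    · rfl
  have hdG : G.det = (-1) ^ M * G.toBlocks₁₂.det ^ 2 := by
    conv_lhs => rw [hG]
    rw [det_fromBlocks_zero_corner, Matrix.det_transpose, Fintype.card_fin, sq]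
  have hD : LinearMap.BilinForm.toMatrix bd' B = Matrix.diagonal (w ∘ eι) := by
    ext i j
    simp only [LinearMap.BilinForm.toMatrix_apply, bd', Module.Basis.reindex_apply, Equiv.symm_symm, bd,
      Module.Basis.coe_ofEquivFun, LinearEquiv.symm_symm, hg, Pi.single_apply]
    by_cases hij : i = j
    · subst hij; simp
    · simp [Matrix.diagonal_apply_ne _ hij, Ne.symm hij]
  have hch := LinearMap.BilinForm.toMatrix_mul_basis_toMatrix b bd' B
  have hdet := congrArg Matrix.det hch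
  rw [Matrix.det_mul, Matrix.det_mul, Matrix.det_transpose, hD, Matrix.det_diagonal,
    show LinearMap.BilinForm.toMatrix b B = G from rfl, hdG] at hdet
  refine ⟨(b.toMatrix bd').det * G.toBlocks₁₂.det, ?_⟩
  rw [show (∏ i, w i) = ∏ i, (w ∘ eι) i from (Equiv.prod_comp eι w).symm, ← hdet]
  ring

end Cfsg.Agent.CG26
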