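import Cfsg.Agent.AutPSU.Descent
import Cfsg.Agent.Lib.Unitary.Center
import Cfsg.Agent.Lib.Symplectic.Simple
import Cfsg.Agent.Lib.Symplectic.Card
import Cfsg.Agent.Lib.Symplectic.Perfect

/-!
`PSp_4(3) ≅ PSU_4(2)`: the Weil representation of `Sp_4(3)` over the field with four elements,
restricted to the even functions on `(F₃)²` vanishing at the origin.
-/

set_option autoImplicit false

namespace Cfsg.Agent.CG26.U4Sp4

open Matrix Symplectic

/-- The prime field. -/
abbrev K := ZMod 3

/-- The positions. -/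
abbrev X := Fin 2 → K

local instance fact_three : Fact (Nat.Prime 3) := ⟨by decide⟩

variable {F : Type*} [Field F]

/-- The additive character. -/
def chi (w : F) (k : K) : F := w ^ k.val

variable {w : F} (hw : w ^ 2 + w + 1 = 0)

include hw

theorem w_cube : w ^ 3 = 1 := by linear_combination (w - 1) * hw

theorem chi_add (j k : K) : chi w (j + k) = chi w j * chi w k := by
  rw [chi, chi, chi, ← pow_add, ZMod.val_add]
  exact (pow_eq_pow_mod _ (w_cube hw)).symm

omit hw in
theorem chi_zero : chi w 0 = 1 := by simp [chi]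

section

variable [CharP F 2]

theorem w_ne_one : w ≠ 1 := fun h => by
  rw [h] at hw
  exact one_ne_zero (α := F) (by linear_combination hw - CharTwo.two_eq_zero (R := F))

theorem sum_chi (d : K) : ∑ k : K, chi w (d * k) = if d = 0 then 1 else 0 := by
  rw [show ∑ k : K, chi w (d * k) = chi w (d * 0) + chi w (d * 1) + chi w (d * 2) from
    Fin.sum_univ_three (fun k : K => chi w (d * k))]
  have e : ∀ x : K, x = 0 ∨ x = 1 ∨ x = 2 := by decide
  rcases e d with rfl | rfl | rfl
  · simp only [zero_mul, chi_zero, if_true]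
    linear_combination CharTwo.two_eq_zero (R := F)
  · rw [if_neg (by decide)]
    simp only [chi, one_mul]
    rw [show ((0 : K)).val = 0 from rfl, show ((1 : K)).val = 1 from rfl, show ((2 : K)).val = 2 from rfl]
    linear_combination hw
  · rw [if_neg (by decide)]
    simp only [chi, show (2 : K) * 0 = 0 by decide, show (2 : K) * 1 = 2 by decide, show (2 : K) * 2 = 1 by decide]
    rw [show ((0 : K)).val = 0 from rfl, show ((1 : K)).val = 1 from rfl, show ((2 : K)).val = 2 from rfl]
    linear_combination hw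

theorem chi_sq (k : K) : chi w k ^ 2 = chi w (-k) := by
  rw [pow_two, ← chi_add hw]
  congr 1
  revert k; decide

theorem chi_injective : Function.Injective (chi w) := by
  intro j k h
  have h1 : chi w (j - k) = 1 := by
    have e := chi_add hw (j - k) k
    rw [sub_add_cancel, h] at e
    have hk : chi w k ≠ 0 := pow_ne_zero _ fun e0 => by simp [e0] at hw
    exact mul_right_cancel₀ hk (e.symm.trans (one_mul _).symm)
  by_contra hne
  have e : ∀ x : K, x ≠ 0 → x.val = 1 ∨ x.val = 2 := by decide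
  unfold chi at h1
  rcases e _ (sub_ne_zero.2 hne) with h2 | h2 <;> rw [h2] at h1
  · exact w_ne_one hw (by simpa using h1)
  · exact w_ne_one hw (by linear_combination (w - 1) * hw - w * h1)

end

omit hw

/-- The first half of a vector. -/
def fst (v : Vec 2 K) : X := fun i => v (Sum.inl i)

/-- The second half of a vector. -/
def snd (v : Vec 2 K) : X := fun i => v (Sum.inr i)

/-- The dot product. -/
def dot (a b : X) : K := a 0 * b 0 + a 1 * b 1

/-- The Heisenberg operators. -/
def W (w : F) (v : Vec 2 K) : Matrix X X F :=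
  Matrix.of fun x y => if y = x + fst v then chi w (dot (snd v) x - dot (fst v) (snd v)) else 0

theorem W_apply (v : Vec 2 K) (x y : X) :
    W w v x y = if y = x + fst v then chi w (dot (snd v) x - dot (fst v) (snd v)) else 0 := rfl

theorem W_zero : W w (0 : Vec 2 K) = 1 := by
  ext x y
  have h0 : fst (0 : Vec 2 K) = 0 := rfl
  have h1 : snd (0 : Vec 2 K) = 0 := rfl
  by_cases h : x = y
  · subst h; simp [W_apply, h0, h1, dot, chi_zero]
  · simp [W_apply, h0, h1, Matrix.one_apply_ne h, Ne.symm h]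

theorem mul_W (M : Matrix X X F) (v : Vec 2 K) (x y : X) :
    (M * W w v) x y = M x (y - fst v) * chi w (dot (snd v) (y - fst v) - dot (fst v) (snd v)) := by
  rw [Matrix.mul_apply, Finset.sum_eq_single (y - fst v)]
  · rw [W_apply, if_pos (sub_add_cancel _ _).symm]
  · intro z _ hz
    rw [W_apply, if_neg (fun e => hz (by rw [e, add_sub_cancel_right])), mul_zero]
  · exact fun h => absurd (Finset.mem_univ _) h

theorem W_mul (M : Matrix X X F) (v : Vec 2 K) (x y : X) :
    (W w v * M) x y = chi w (dot (snd v) x - dot (fst v) (snd v)) * M (x + fst v) y := by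
  rw [Matrix.mul_apply, Finset.sum_eq_single (x + fst v)]
  · rw [W_apply, if_pos rfl]
  · intro z _ hz
    rw [W_apply, if_neg hz, zero_mul]
  · exact fun h => absurd (Finset.mem_univ _) h

include hw

theorem W_mul_W (u v : Vec 2 K) : W w u * W w v = chi w (sympForm 2 K u v) • W w (u + v) := by
  ext x y
  rw [W_mul, Matrix.smul_apply, W_apply, W_apply, smul_eq_mul]
  have hf : fst (u + v) = fst u + fst v := rfl
  have hs : snd (u + v) = snd u + snd v := rfl
  rw [hf, hs, ← add_assoc]
  by_cases h : y = x + fst u + fst v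
  · rw [if_pos h, if_pos h, ← chi_add hw, ← chi_add hw]
    congr 1
    rw [sympForm_eq_sum, Fin.sum_univ_two]
    simp only [dot, fst, snd, Pi.add_apply]
    have h3 : (3 : K) = 0 := by decide
    linear_combination (u (Sum.inl 0) * v (Sum.inr 0) + u (Sum.inl 1) * v (Sum.inr 1)) * h3
  · rw [if_neg h, if_neg h, mul_zero, mul_zero]

variable [CharP F 2]

omit hw in
/-- The conjugate transpose. -/
def st {ι : Type} (M : Matrix ι ι F) : Matrix ι ι F := (M.map (frobenius F 2))ᵀ

omit hw in
theorem st_apply {ι : Type} (M : Matrix ι ι F) (i j : ι) : st M i j = M j i ^ 2 := by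
  simp [st, frobenius_def]

omit hw in
theorem st_mul {ι : Type} [Fintype ι] (M N : Matrix ι ι F) : st (M * N) = st N * st M := by
  rw [st, Matrix.map_mul, Matrix.transpose_mul]; rfl

omit hw in
theorem st_one {ι : Type} [DecidableEq ι] : st (1 : Matrix ι ι F) = 1 := by
  ext i j
  by_cases h : i = j
  · subst h; simp [st_apply]
  · simp [st_apply, Matrix.one_apply_ne h, Matrix.one_apply_ne (Ne.symm h)]

omit hw in
theorem st_sum {ι κ : Type} (s : Finset κ) (M : κ → Matrix ι ι F) :
    st (∑ k ∈ s, M k) = ∑ k ∈ s, st (M k) := by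
  ext i j
  simp [st, Matrix.sum_apply, map_sum]

theorem st_W (v : Vec 2 K) : st (W w v) = W w (-v) := by
  ext x y
  rw [st_apply, W_apply, W_apply]
  have hf : fst (-v) = -fst v := rfl
  have hs : snd (-v) = -snd v := rfl
  rw [hf, hs, ← sub_eq_add_neg]
  by_cases h : x = y + fst v
  · subst h
    rw [if_pos rfl, if_pos (add_sub_cancel_right _ _).symm, chi_sq hw]
    congr 1
    simp only [dot, fst, snd, Pi.add_apply, Pi.neg_apply]
    have h3 : (3 : K) = 0 := by decide
    linear_combination (v (Sum.inl 0) * v (Sum.inr 0) + v (Sum.inl 1) * v (Sum.inr 1)) * h3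
  · rw [if_neg h, if_neg (fun e => h (by rw [e, sub_add_cancel])), zero_pow two_ne_zero]

/-- Invariance under the inversion of `F₃²`. -/
def Ev (M : Matrix X X F) : Prop := ∀ x y, M (-x) (-y) = M x y

omit hw in
theorem Ev.mul {M N : Matrix X X F} (hM : Ev M) (hN : Ev N) : Ev (M * N) := fun x y => by
  rw [Matrix.mul_apply, Matrix.mul_apply]
  refine Fintype.sum_equiv (Equiv.neg X) _ _ fun z => ?_
  rw [← hM x, ← hN _ y]
  simp

/-- The lift of a transvection. -/
def T (w : F) (v : Vec 2 K) (c : K) : Matrix X X F := ∑ j : K, chi w (c * j * j) • W w (j • v)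

theorem T_intertwine {c : K} (hc : c ≠ 0) (v u : Vec 2 K) :
    T w v c * W w u = W w (tv v c • u) * T w v c := by
  rw [tv_smul, T, Finset.sum_mul, Finset.mul_sum]
  set t := sympForm 2 K u v with ht
  symm
  refine Fintype.sum_equiv (Equiv.addRight (c * t)) _ _ fun k => ?_
  have hcc : c * c = 1 := by revert c; decide
  rw [Equiv.coe_addRight, Matrix.mul_smul, Matrix.smul_mul, W_mul_W hw, W_mul_W hw, smul_smul, smul_smul,
    ← chi_add hw, ← chi_add hw]
  have e1 : sympForm 2 K (u + (c * t) • v) (k • v) = k * t := by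
    rw [sympForm_add_left, sympForm_smul_right, sympForm_smul_left, sympForm_smul_right,
      sympForm_self, ← ht]
    ring
  have e2 : sympForm 2 K ((k + c * t) • v) u = -((k + c * t) * t) := by
    rw [sympForm_smul_left, sympForm_swap, ← ht]; ring
  rw [e1, e2, show u + (c * t) • v + k • v = (k + c * t) • v + u by module]
  congr 2
  linear_combination (-(2 * k * t) - c * t * t) * hcc + (0 : K)

theorem st_T_mul {c : K} (hc : c ≠ 0) (v : Vec 2 K) : st (T w v c) * T w v c = 1 := by
  have hs : st (T w v c) = ∑ k : K, chi w (-(c * k * k)) • W w (-(k • v)) := by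
    rw [T, st_sum]
    refine Finset.sum_congr rfl fun k _ => ?_
    ext x y
    rw [st_apply, Matrix.smul_apply, Matrix.smul_apply, smul_eq_mul, smul_eq_mul, mul_pow, chi_sq hw,
      ← st_W hw, st_apply]
  rw [hs, Finset.sum_mul]
  have inner : ∀ k : K, chi w (-(c * k * k)) • W w (-(k • v)) * T w v c =
      ∑ s : K, (chi w (c * s * s) * chi w (2 * c * s * k)) • W w (s • v) := by
    intro k
    rw [T, Finset.mul_sum]
    refine Fintype.sum_equiv (Equiv.subRight k) _ _ fun j => ?_
    rw [Equiv.subRight_apply, Matrix.smul_mul, Matrix.mul_smul, W_mul_W hw, smul_smul, smul_smul,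
      ← chi_add hw, ← chi_add hw, ← chi_add hw, ← neg_smul, sympForm_smul_left, sympForm_smul_right,
      sympForm_self, show (-k) • v + j • v = (j - k) • v by module]
    congr 2
    ring
  simp only [inner]
  rw [Finset.sum_comm]
  have : ∀ s : K, ∑ k : K, (chi w (c * s * s) * chi w (2 * c * s * k)) • W w (s • v) =
      if s = 0 then 1 else 0 := by
    intro s
    rw [← Finset.sum_smul, ← Finset.mul_sum, sum_chi hw]
    by_cases h : s = 0
    · simp [h, chi_zero, W_zero]
    · rw [if_neg h, if_neg (mul_ne_zero (mul_ne_zero (by decide) hc) h), mul_zero, zero_smul]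
  simp only [this]
  simp

omit hw [CharP F 2] in
theorem ev_T (v : Vec 2 K) (c : K) : Ev (T w v c) := by
  intro x y
  simp only [T, Matrix.sum_apply, Matrix.smul_apply]
  refine Fintype.sum_equiv (Equiv.neg K) _ _ fun j => ?_
  rw [Equiv.neg_apply, W_apply, W_apply, show c * -j * -j = c * j * j by ring]
  have hf : fst ((-j) • v) = -fst (j • v) := funext fun i => by simp [fst]
  have hs : snd ((-j) • v) = -snd (j • v) := funext fun i => by simp [snd]
  rw [hf, hs]
  have e : (-y = -x + fst (j • v)) ↔ (y = x + -fst (j • v)) := by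
    constructor <;> intro h
    · rw [← neg_neg y, h]; abel
    · rw [h]; abel
  by_cases h : y = x + -fst (j • v)
  · rw [if_pos h, if_pos (e.2 h)]
    congr 2
    simp only [dot, Pi.neg_apply]
    ring
  · rw [if_neg h, if_neg (fun h' => h (e.1 h'))]

/-- The metaplectic pairs. -/
def Gam (w : F) : Subgroup (Sp 2 K × GL X F) where
  carrier := {p | (∀ u, (p.2 : Matrix X X F) * W w u = W w (p.1 • u) * (p.2 : Matrix X X F)) ∧
    st (p.2 : Matrix X X F) * (p.2 : Matrix X X F) = 1 ∧ Ev (p.2 : Matrix X X F)}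
  one_mem' := ⟨fun u => by simp, by simp [st_one], fun x y => by
    simp [Matrix.one_apply, neg_inj]⟩
  mul_mem' := by
    rintro ⟨g, M⟩ ⟨h, N⟩ ⟨h1, h2, h3⟩ ⟨h4, h5, h6⟩
    refine ⟨fun u => ?_, ?_, h3.mul h6⟩
    · simp only [Prod.mk_mul_mk, Units.val_mul]
      rw [mul_assoc, h4, ← mul_assoc, h1, mul_assoc, mul_smul]
    · simp only [Prod.mk_mul_mk, Units.val_mul]
      rw [st_mul, mul_assoc, ← mul_assoc (st (M : Matrix X X F)), h2, one_mul, h5]
  inv_mem' := by
    rintro ⟨g, M⟩ ⟨h1, h2, h3⟩
    dsimp only at h1 h2 h3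
    have hi : ((M⁻¹ : GL X F) : Matrix X X F) = st (M : Matrix X X F) :=
      (left_inv_eq_right_inv h2 (by rw [← Units.val_mul, mul_inv_cancel, Units.val_one])).symm
    simp only [Prod.inv_mk, Set.mem_ofPred_eq]
    refine ⟨fun u => ?_, ?_, ?_⟩
    · have h := h1 (g⁻¹ • u)
      simp only [smul_inv_smul] at h
      calc ((M⁻¹ : GL X F) : Matrix X X F) * W w u
          = ((M⁻¹ : GL X F) : Matrix X X F) * (W w u * (M : Matrix X X F)) * ((M⁻¹ : GL X F) : Matrix X X F) := by
            rw [mul_assoc, mul_assoc, ← Units.val_mul M, mul_inv_cancel, Units.val_one, mul_one]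
        _ = _ := by
            rw [← h, ← mul_assoc, ← Units.val_mul M⁻¹, inv_mul_cancel, Units.val_one, one_mul]
    · rw [hi, ← st_mul, mul_eq_one_comm.1 h2, st_one]
    · rw [hi]
      intro x y
      rw [st_apply, st_apply, h3]

/-- Representatives of the points of `F₃²` up to sign. -/
def Y : Fin 4 → X := ![![1, 0], ![0, 1], ![1, 1], ![1, 2]]

omit hw [CharP F 2] in
theorem sum_X (h : X → F) : ∑ x, h x = h 0 + ∑ c, (h (Y c) + h (-Y c)) := by
  let f : Option (Fin 4 × Bool) → X := fun o => o.elim 0 fun p => if p.2 then -Y p.1 else Y p.1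
  rw [← Fintype.sum_bijective f (by decide) _ _ fun _ => rfl, Fintype.sum_option, Fintype.sum_prod_type]
  refine congrArg₂ (· + ·) rfl (Finset.sum_congr rfl fun c _ => ?_)
  rw [Fintype.sum_bool, add_comm]
  rfl

/-- The restriction to the even functions vanishing at zero. -/
def R (M : Matrix X X F) : Matrix (Fin 4) (Fin 4) F :=
  Matrix.of fun a b => M (Y a) (Y b) + M (Y a) (-Y b)

omit hw in
theorem R_mul {M N : Matrix X X F} (hN : Ev N) : R (M * N) = R M * R N := by
  ext a b
  have h0 : N 0 (-Y b) = N 0 (Y b) := by rw [← hN 0 (Y b), neg_zero]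
  simp only [R, Matrix.of_apply, Matrix.mul_apply, ← Finset.sum_add_distrib, sum_X fun x => M (Y a) x * N x (Y b) + M (Y a) x * N x (-Y b)]
  rw [h0, show M (Y a) 0 * N 0 (Y b) + M (Y a) 0 * N 0 (Y b) = 0 from CharTwo.add_self_eq_zero _, zero_add]
  refine Finset.sum_congr rfl fun c _ => ?_
  rw [show N (-Y c) (Y b) = N (Y c) (-Y b) by rw [← hN (Y c) (-Y b), neg_neg],
    show N (-Y c) (-Y b) = N (Y c) (Y b) from hN _ _]
  ring

omit hw [CharP F 2] in
theorem R_one : R (1 : Matrix X X F) = 1 := by
  ext a b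
  have e : ∀ a b : Fin 4, Y a ≠ -Y b ∧ (Y a = Y b ↔ a = b) := by decide
  by_cases h : a = b
  · subst h; simp [R, Matrix.one_apply_ne (e a a).1]
  · simp [R, Matrix.one_apply_ne (e a b).1, Matrix.one_apply_ne (fun h' => h ((e a b).2.1 h')), h]

omit hw in
theorem R_st {M : Matrix X X F} (hM : Ev M) : R (st M) = st (R M) := by
  ext a b
  simp only [R, Matrix.of_apply, st_apply, CharTwo.add_sq]
  rw [show M (-Y b) (Y a) = M (Y b) (-Y a) by rw [← hM (Y b) (-Y a), neg_neg]]

omit hw in
theorem eq_scalar_of_commute (hw : w ^ 2 + w + 1 = 0) {M : Matrix X X F}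
    (h : ∀ u, M * W w u = W w u * M) : ∃ c : F, M = c • 1 := by
  refine ⟨M 0 0, Matrix.ext fun x y => ?_⟩
  by_cases hxy : x = y
  · subst hxy
    have h1 := congrFun (congrFun (h (Sum.elim x 0)) 0) x
    rw [mul_W, W_mul] at h1
    have hf : fst (Sum.elim x 0 : Vec 2 K) = x := rfl
    have hs : snd (Sum.elim x 0 : Vec 2 K) = 0 := rfl
    simp [hf, hs, dot, chi_zero] at h1
    simp [h1]
  · obtain ⟨i, hi⟩ := Function.ne_iff.1 hxy
    have h1 := congrFun (congrFun (h (Sum.elim 0 (Pi.single i 1))) x) y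
    rw [mul_W, W_mul] at h1
    have hf : fst (Sum.elim 0 (Pi.single i 1) : Vec 2 K) = 0 := rfl
    have hs : snd (Sum.elim 0 (Pi.single i 1) : Vec 2 K) = Pi.single i 1 := rfl
    have hd : ∀ z : X, dot (Pi.single i 1) z = z i := fun z => by fin_cases i <;> simp [dot]
    have hd0 : ∀ z : X, dot 0 z = 0 := fun z => by simp [dot]
    rw [hf, hs, sub_zero, add_zero, hd, hd, hd0, sub_zero, sub_zero, mul_comm] at h1
    by_contra hne
    have hM : M x y ≠ 0 := fun e => hne (by simp [e, Matrix.one_apply_ne hxy])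
    exact hi (chi_injective hw (mul_right_cancel₀ hM h1)).symm

variable [Fintype F] (hF : Fintype.card F = 4)

omit hw [CharP F 2] in
include hF in
theorem cube_eq_one {d : F} (hd : d ≠ 0) : d ^ 3 = 1 := by
  have := FiniteField.pow_card_sub_one_eq_one d hd
  rwa [hF] at this

omit hw in
theorem det_R_ne_zero {p : Gam w} : (R ((p.1.2 : GL X F) : Matrix X X F)).det ≠ 0 := by
  have h := congrArg R p.2.2.1
  rw [R_mul p.2.2.2, R_one] at h
  intro e
  have := congrArg Matrix.det h
  rw [Matrix.det_mul, e, mul_zero, Matrix.det_one] at this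
  exact zero_ne_one this

omit hw in
include hF in
theorem scaled_det (p : Gam w) :
    ((R ((p.1.2 : GL X F) : Matrix X X F)).det⁻¹ • R ((p.1.2 : GL X F) : Matrix X X F)).det = 1 := by
  have hd := det_R_ne_zero (p := p)
  rw [Matrix.det_smul, Fintype.card_fin, inv_pow, pow_succ, cube_eq_one hF hd, one_mul,
    inv_mul_cancel₀ hd]

/-- The map into `SU_4(2)` on pairs. -/
def toSU (hF : Fintype.card F = 2 ^ 2) : Gam w →* SU 4 F 2 where
  toFun p := ⟨⟨_, scaled_det (by simpa using hF) p⟩, by
    have hd := det_R_ne_zero (p := p)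
    have h : st (R ((p.1.2 : GL X F) : Matrix X X F)) * R ((p.1.2 : GL X F) : Matrix X X F) = 1 := by
      rw [← R_st p.2.2.2, ← R_mul p.2.2.2, p.2.2.1, R_one]
    set A := (R ((p.1.2 : GL X F) : Matrix X X F)) with hA
    have hdet : (A.det⁻¹ • A).det = 1 := scaled_det (by simpa using hF) p
    let g : GL (Fin 4) F := Matrix.GeneralLinearGroup.mk'' (A.det⁻¹ • A) (by rw [hdet]; exact isUnit_one)
    have hg : g ∈ GU 4 F 2 := (AutPSU.mem_GU_iff_gram hF).2 (by
      show (A.det⁻¹ • A)ᵀ * (A.det⁻¹ • A).map (fun x => x ^ 2) = 1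
      have h' := congrArg Matrix.transpose h
      rw [Matrix.transpose_mul, Matrix.transpose_one, st, Matrix.transpose_transpose] at h'
      have e : (A.det⁻¹ • A).map (fun x => x ^ 2) = A.det⁻¹ ^ 2 • A.map (frobenius F 2) := by
        ext i j; simp [frobenius_def, mul_pow]
      rw [e, Matrix.transpose_smul, Matrix.smul_mul, Matrix.mul_smul, h', smul_smul, ← pow_succ',
        cube_eq_one (by simpa using hF) (inv_ne_zero hd), one_smul])
    exact fun v u => Unitary.mem_GU_iff.1 hg v u⟩
  map_one' := Subtype.ext (Subtype.ext (by simp [R_one]))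
  map_mul' p q := Subtype.ext (Subtype.ext (by
    show (R ((p.1.2 * q.1.2 : GL X F) : Matrix X X F)).det⁻¹ • R ((p.1.2 * q.1.2 : GL X F) : Matrix X X F) = _
    rw [Units.val_mul, R_mul q.2.2.2, Matrix.det_mul, mul_inv, ← smul_smul]
    show _ = ((R ((p.1.2 : GL X F) : Matrix X X F)).det⁻¹ • R ((p.1.2 : GL X F) : Matrix X X F)) *
      ((R ((q.1.2 : GL X F) : Matrix X X F)).det⁻¹ • R ((q.1.2 : GL X F) : Matrix X X F))
    rw [Matrix.smul_mul, Matrix.mul_smul]))

include hF

omit hw in
theorem exists_w : ∃ w : F, w ^ 2 + w + 1 = 0 := by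
  classical
  obtain ⟨w, -, hw0⟩ := Finset.exists_mem_notMem_of_card_lt_card (s := ({0, 1} : Finset F))
    (t := Finset.univ) (by
      have h2 : ({0, 1} : Finset F).card ≤ 2 := Finset.card_le_two
      rw [Finset.card_univ, hF]; omega)
  simp only [Finset.mem_insert, Finset.mem_singleton, not_or] at hw0
  refine ⟨w, ?_⟩
  have h := cube_eq_one hF hw0.1
  refine (mul_eq_zero.1 (show (w - 1) * (w ^ 2 + w + 1) = 0 by linear_combination h)).resolve_left
    (sub_ne_zero.2 hw0.2)

omit hw in
theorem exists_hom : ∃ φ : Sp 2 K →* SU 4 F 2, φ ≠ 1 := by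
  obtain ⟨w, hw⟩ := exists_w hF
  have hF' : Fintype.card F = 2 ^ 2 := hF
  let π : Gam w →* Sp 2 K := (MonoidHom.fst _ _).comp (Gam w).subtype
  have lift : ∀ (v : Vec 2 K) (c : K), c ≠ 0 → ∃ M : GL X F, ((tv v c, M) ∈ Gam w) ∧
      (M : Matrix X X F) = T w v c := fun v c hc =>
    ⟨⟨T w v c, st (T w v c), mul_eq_one_comm.1 (st_T_mul hw hc v), st_T_mul hw hc v⟩,
      ⟨fun u => T_intertwine hw hc v u, st_T_mul hw hc v, ev_T v c⟩, rfl⟩
  have hπ : Function.Surjective π := by
    rw [← MonoidHom.range_eq_top, eq_top_iff, ← closure_transvections, Subgroup.closure_le]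
    rintro g ⟨v, c, hg⟩
    have hgv : g = tv v c := Subtype.ext hg
    subst hgv
    by_cases hc : c = 0
    · subst hc; rw [tv_zero]; exact one_mem _
    · obtain ⟨M, hM, -⟩ := lift v c hc
      exact ⟨⟨_, hM⟩, rfl⟩
  have hker : π.ker ≤ (toSU hF').ker := by
    rintro ⟨⟨g, M⟩, h1, h2, h3⟩ hp
    have hg : g = 1 := hp
    subst hg
    obtain ⟨c, hc⟩ := eq_scalar_of_commute (M := (M : Matrix X X F)) hw fun u => by
      simpa using h1 u
    have hc0 : c ≠ 0 := fun e => by
      have := M.ne_zero
      exact this (by rw [hc, e, zero_smul])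
    refine Subtype.ext (Subtype.ext ?_)
    show (R (M : Matrix X X F)).det⁻¹ • R (M : Matrix X X F) = 1
    have hR : R (c • (1 : Matrix X X F)) = c • (1 : Matrix (Fin 4) (Fin 4) F) := by
      rw [← R_one (F := F)]; ext a b; simp [R, mul_add]
    rw [hc, hR, Matrix.det_smul, Matrix.det_one, mul_one, Fintype.card_fin, pow_succ,
      cube_eq_one hF hc0, one_mul, smul_smul, inv_mul_cancel₀ hc0, one_smul]
  refine ⟨MonoidHom.liftOfSurjective π hπ ⟨toSU hF', hker⟩, fun h => ?_⟩
  let v₀ : Vec 2 K := Sum.elim ![1, 0] 0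
  obtain ⟨M, hM, hMT⟩ := lift v₀ 1 one_ne_zero
  have h1 := MonoidHom.liftOfRightInverse_comp_apply π _ (Function.rightInverse_surjInv hπ)
    ⟨toSU hF', hker⟩ ⟨_, hM⟩
  have h2 : toSU hF' ⟨_, hM⟩ = 1 := h1.symm.trans (DFunLike.congr_fun h _)
  have h3 : (R (M : Matrix X X F)).det⁻¹ • R (M : Matrix X X F) = 1 :=
    congrArg (fun s : SU 4 F 2 => (s.1 : Matrix (Fin 4) (Fin 4) F)) h2
  have h4 := congrFun (congrFun h3 1) 2
  have e : R (T w v₀ 1) 1 2 = w := by
    simp only [R, T, Matrix.of_apply, Matrix.sum_apply, Matrix.smul_apply]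
    rw [show (∑ j : K, chi w (1 * j * j) • W w (j • v₀) (Y 1) (Y 2)) = chi w (1 * 1 * 1) * chi w 0 from ?_,
      show (∑ j : K, chi w (1 * j * j) • W w (j • v₀) (Y 1) (-Y 2)) = 0 from ?_]
    · simp [chi, show ((1 : K)).val = 1 from rfl]
    · rw [Finset.sum_eq_zero]
      intro j _
      rw [W_apply, if_neg (by revert j; decide), smul_zero]
    · rw [Finset.sum_eq_single 1]
      · rw [W_apply, if_pos (by decide), smul_eq_mul]
        congr 1
      · intro j _ hj
        rw [W_apply, if_neg (by revert j; decide), smul_zero]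
      · exact fun h => absurd (Finset.mem_univ _) h
  rw [hMT] at h4
  rw [Matrix.smul_apply, e, Matrix.one_apply_ne (by decide), smul_eq_mul, mul_eq_zero] at h4
  rcases h4 with h4 | h4
  · exact det_R_ne_zero (p := (⟨_, hM⟩ : Gam w)) (by
      show (R (M : Matrix X X F)).det = 0
      rw [hMT]; exact inv_eq_zero.1 h4)
  · simp [h4] at hw

omit hw in
theorem psu_iso_psp : Nonempty (Cfsg.PSU 4 F 2 ≃* Cfsg.PSp 2 K) := by
  obtain ⟨φ, hφ⟩ := exists_hom hF
  have hF' : Fintype.card F = 2 ^ 2 := hF
  have h2 : (2 : K) ≠ 0 := by decide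
  have hperf := commutator_eq_top_of_two_ne_zero (m := 2) (F := K) le_rfl h2
  haveI := isSimpleGroup_PSp (F := K) (m := 2) le_rfl hperf
  haveI hN : φ.ker.Normal := MonoidHom.normal_ker φ
  have hK : Fintype.card K = 3 := ZMod.card 3
  have hle : φ.ker ≤ Subgroup.center (Sp 2 K) := by
    have hmap : (φ.ker.map (QuotientGroup.mk' (Subgroup.center (Sp 2 K)))).Normal :=
      hN.map _ (QuotientGroup.mk'_surjective _)
    rcases hmap.eq_bot_or_eq_top with h | h
    · rwa [Subgroup.map_eq_bot_iff, QuotientGroup.ker_mk'] at h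
    · exfalso
      have h' := congrArg (Subgroup.comap (QuotientGroup.mk' (Subgroup.center (Sp 2 K)))) h
      rw [Subgroup.comap_map_eq, QuotientGroup.ker_mk', Subgroup.comap_top] at h'
      have hall : commutator (Sp 2 K) ≤ φ.ker := by
        rw [commutator_def, Subgroup.commutator_le]
        intro a _ b _
        obtain ⟨a₁, ha, z, hz, rfl⟩ := Subgroup.mem_sup_of_normal_right.1 (h' ▸ Subgroup.mem_top a)
        obtain ⟨b₁, hb, z', hz', rfl⟩ := Subgroup.mem_sup_of_normal_right.1 (h' ▸ Subgroup.mem_top b)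
        have hc : ∀ x, φ x * φ z = φ z * φ x := fun x => by
          rw [← map_mul, ← map_mul, Subgroup.mem_center_iff.1 hz x]
        rw [MonoidHom.mem_ker, commutatorElement_def]
        simp only [map_mul, map_inv, MonoidHom.mem_ker.1 ha, MonoidHom.mem_ker.1 hb, one_mul]
        rw [← hc z']
        group
      exact hφ (MonoidHom.ker_eq_top_iff.1 (top_le_iff.1 (hperf ▸ hall)))
  have hSU : Nat.card (SU 4 F 2) = 25920 := by
    have h := Unitary.card_SU_mul (n := 4) hF' (by norm_num)
    rw [Unitary.card_GU hF' 4] at h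
    simp [Finset.prod_range_succ] at h
    norm_num [show Even 2 by decide, show ¬ Even 3 by decide, show ¬ Even 1 by decide] at h
    omega
  have hSp : Nat.card (Sp 2 K) = 51840 := by
    rw [card_Sp hK 2]; simp [Finset.prod_range_succ]
  have hZ : Nat.card (Subgroup.center (Sp 2 K)) = 2 := by
    rw [card_center hK (by norm_num)]; rfl
  haveI : Finite (SU 4 F 2) := inferInstance
  have hkc : φ.ker = Subgroup.center (Sp 2 K) := by
    refine Subgroup.eq_of_le_of_card_ge hle ?_
    have h1 : Nat.card φ.range ≤ 25920 := hSU ▸ Nat.card_le_card_of_injective _ Subtype.val_injective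
    have h3 := φ.ker.card_mul_index
    rw [Subgroup.index_ker, hSp] at h3
    rw [hZ]
    rcases Nat.eq_zero_or_pos (Nat.card φ.ker) with h0 | h0
    · rw [h0, zero_mul] at h3; omega
    · by_contra hlt
      rw [show Nat.card φ.ker = 1 by omega, one_mul] at h3
      omega
  have hs : Function.Surjective φ := by
    rw [← MonoidHom.range_eq_top]
    refine Subgroup.eq_top_of_card_eq _ ?_
    have h3 := φ.ker.card_mul_index
    rw [Subgroup.index_ker, hSp, hkc, hZ] at h3
    omega
  have hc : Subgroup.center (SU 4 F 2) = ⊥ := by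
    rw [Subgroup.eq_bot_iff_card]
    have h := Unitary.card_PSU (n := 4) hF' (by norm_num)
    simp [Finset.prod_range_succ, show Nat.gcd 4 3 = 1 from rfl] at h
    norm_num [show Even 2 by decide, show ¬ Even 3 by decide, show ¬ Even 1 by decide] at h
    have h' := Subgroup.card_eq_card_quotient_mul_card_subgroup (Subgroup.center (SU 4 F 2))
    rw [hSU] at h'
    nlinarith
  exact ⟨((QuotientGroup.quotientMulEquivOfEq hc).trans QuotientGroup.quotientBot).trans
    ((QuotientGroup.quotientKerEquivOfSurjective φ hs).symm.trans (QuotientGroup.quotientMulEquivOfEq hkc))⟩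

end Cfsg.Agent.CG26.U4Sp4
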